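import Cfsg.Agent.Lib.BrauerTuan.Basic
import Cfsg.Agent.Lib.Char.Galois
import Cfsg.Agent.Lib.Char.Twist
import Cfsg.Agent.Lib.Char.Virtual

/-!
# A faithful rational character bounds the order (Schur)
-/

set_option autoImplicit false
set_option linter.unusedSectionVars false
set_option linter.style.haveILetI false

namespace CfsgLib.BrauerTuan

open Cfsg
open scoped ComplexConjugate CfsgLib.Char
open CfsgLib
open scoped _root_.Classical

universe u

variable {G : Type u} [Group G] [Fintype G]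

/-- The only irreducible character of its degree has rational integer values. -/
theorem exists_int_value_of_unique {χ : IrrCharacter G}
    (huniq : ∀ ξ : IrrCharacter G, charDegree (ξ : G → ℂ) = charDegree (χ : G → ℂ) → ξ = χ) (g : G) :
    ∃ a : ℤ, (χ : G → ℂ) g = a := by
  have hc := Char.isCharacter_of_isIrr χ.2
  have hfix : ∀ k : ℕ, k.Coprime (Nat.card G) → (χ : G → ℂ) (g ^ k) = (χ : G → ℂ) g := fun k hk => by
    set ξ : IrrCharacter G := ⟨_, Char.isIrrCharacter_pow hk χ.2⟩
    have h : ξ = χ := huniq ξ (by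
      show charDegree (fun y => (χ : G → ℂ) (y ^ k)) = _
      rw [charDegree, charDegree, one_pow])
    exact congrFun (congrArg Subtype.val h) g
  obtain ⟨q, hq⟩ := (Char.rat_value_iff hc g).mpr hfix
  obtain ⟨a, ha⟩ := Char.exists_int_of_isIntegral_rat (q := q) (hq ▸ Char.isIntegral_value hc g)
  exact ⟨a, by rw [hq, ha]; simp⟩

/-- Schur: the order divides `(2 d)!` for a faithful rational character of degree `d`. -/
theorem card_dvd_prod_of_rational {φ : G → ℂ} (hφ : IsCharacter G φ) {d : ℕ} (hd : φ 1 = d)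
    (hval : ∀ g, ∃ a : ℤ, φ g = a) (hfaith : ∀ g, φ g = φ 1 → g = 1) :
    (Nat.card G : ℤ) ∣ ∏ a ∈ Finset.Ico (-(d : ℤ)) d, ((d : ℤ) - a) := by
  set f : G → ℂ := fun g => ∏ a ∈ Finset.Ico (-(d : ℤ)) d, (φ g - a) with hf
  have hgen : IsGeneralizedCharacter G f := by
    rw [hf]
    induction Finset.Ico (-(d : ℤ)) d using Finset.induction_on with
    | empty => simpa using Char.isGeneralized_one (G := G)
    | insert a s ha ih =>
      have h1 : IsGeneralizedCharacter G (φ - (a : ℂ) • fun _ => (1 : ℂ)) :=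
        Char.isGeneralized_sub (Char.isGeneralized_of_isCharacter hφ)
          (Char.isGeneralized_intCast_smul Char.isGeneralized_one a)
      convert Char.isGeneralized_mul h1 ih using 1
      funext g
      simp [Finset.prod_insert ha]
  have hzero : ∀ g, g ≠ 1 → f g = 0 := fun g hg => by
    obtain ⟨a, ha⟩ := hval g
    refine Finset.prod_eq_zero (i := a) (Finset.mem_Ico.mpr ?_) (by rw [ha, sub_self])
    obtain ⟨m, ρ, e⟩ := hφ
    have hm : (Module.finrank ℂ (Fin m → ℂ) : ℂ) = (d : ℂ) := by rw [← hd, ← e, Representation.char_one]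
    have h := Char.norm_character_le ρ g
    rw [e, ha, Complex.norm_intCast, Nat.cast_inj.mp hm] at h
    have h' : |a| ≤ (d : ℤ) := by exact_mod_cast h
    obtain ⟨h1, h2⟩ := abs_le.mp h'
    refine ⟨h1, lt_of_le_of_ne h2 fun e' => hg (hfaith g ?_)⟩
    rw [ha, e', hd]; simp
  obtain ⟨n, hn⟩ := Char.exists_int_classInner hgen (Char.isGeneralized_one (G := G))
  rw [classInner, Finset.sum_eq_single (1 : G) (fun g _ hg => by rw [hzero g hg, zero_mul])
    (fun h => absurd (Finset.mem_univ _) h), map_one, mul_one] at hn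
  refine ⟨n, ?_⟩
  have h1 : ((∏ a ∈ Finset.Ico (-(d : ℤ)) d, ((d : ℤ) - a) : ℤ) : ℂ) = f 1 := by
    simp [hf, hd]
  have h2 : f 1 = ((Nat.card G : ℤ) : ℂ) * (n : ℂ) := by
    rw [← hn, ← mul_assoc, Int.cast_natCast, mul_inv_cancel₀ (Nat.cast_ne_zero.mpr Nat.card_pos.ne'), one_mul]
  exact_mod_cast h1.trans h2

/-- A character vanishing on `P \ {1}` has degree divisible by `p`. -/
theorem dvd_degree_of_vanish {p : ℕ} [Fact p.Prime] {χ : IrrCharacter G} (P : Subgroup G)
    (hP : Nat.card P = p) (h : ∀ v ∈ P, v ≠ 1 → (χ : G → ℂ) v = 0) : p ∣ charDegree (χ : G → ℂ) := by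
  haveI : Fintype P := Fintype.ofFinite _
  obtain ⟨m, hm⟩ := Char.exists_nat_classInner (Char.isCharacter_restrict P (Char.isCharacter_of_isIrr χ.2))
    (Char.isCharacter_one (G := P))
  rw [classInner, Finset.sum_eq_single (1 : P) (fun v _ hv => by
      rw [h v v.2 fun e => hv (Subtype.ext e), zero_mul])
    (fun h => absurd (Finset.mem_univ _) h), map_one, mul_one, Subgroup.coe_one,
    BrauerReynolds.value_one, hP, inv_mul_eq_iff_eq_mul₀ (Nat.cast_ne_zero.mpr (Fact.out : p.Prime).ne_zero)] at hm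
  exact ⟨m, by exact_mod_cast hm⟩

end CfsgLib.BrauerTuan
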