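import Cfsg.Agent.Lib.BrauerTuan.Two
import Cfsg.Agent.Lib.BrauerTuan.Rational

/-!
# A principal 5-block with four non-trivial rational characters and an inverting involution
-/

set_option autoImplicit false
set_option linter.unusedSectionVars false
set_option linter.style.haveILetI false

namespace CfsgLib.BrauerTuan

/-- Possible signed degrees `(σ, x)` for the order `n = 20 c`. -/
def pairsFive (n c B : ℕ) : List (ℤ × ℕ) :=
  (List.range (B + 1)).flatMap fun x => ([1, -1] : List ℤ).filterMap fun s =>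
    if degOK n 5 1 (4 * c) [5] x && decide (((x : ℤ) - s) % 5 = 0) then some (s, x) else none

/-- Possible values at an involution inverting `P`. -/
def valuesFive (sx : ℤ × ℕ) : List ℤ :=
  let K := (((sx.2 : ℤ) + 4 * sx.1) / 5).toNat
  (List.range (2 * K + 1)).filterMap fun (i : ℕ) =>
    if decide (((sx.2 : ℤ) - ((i : ℤ) - K)) % 4 = 0) && decide ((i : ℤ) - K ≠ sx.2) then some ((i : ℤ) - K) else none

/-- Four signed degrees and values are contradictory. -/
def valuesBadFive (n : ℕ) (a b c d : ℤ × ℕ) (A B C D : ℤ) : Bool :=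
  let den : ℤ := (a.2 : ℤ) * b.2 * c.2 * d.2
  let num : ℤ := den + a.1 * A ^ 2 * ((b.2 : ℤ) * c.2 * d.2) + b.1 * B ^ 2 * ((a.2 : ℤ) * c.2 * d.2) +
    c.1 * C ^ 2 * ((a.2 : ℤ) * b.2 * d.2) + d.1 * D ^ 2 * ((a.2 : ℤ) * b.2 * c.2)
  decide (1 + a.1 * A + b.1 * B + c.1 * C + d.1 * D ≠ 0) ||
    (decide ((n : ℤ) * num < 5 * den * 65536) &&
      (List.range 256).all fun cg => decide (5 * ((cg : ℤ) * cg) * den ≠ n * num))

/-- Every configuration of degrees is without values at an involution. -/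
def configsBadFive (n c B : ℕ) : Bool :=
  (pairsFive n c B).all fun a => (pairsFive n c B).all fun b => (pairsFive n c B).all fun c' =>
    (pairsFive n c B).all fun d =>
    decide (a.1 * a.2 + b.1 * b.2 + c'.1 * c'.2 + d.1 * d.2 ≠ -1) ||
    (valuesFive a).all fun A => (valuesFive b).all fun B => (valuesFive c').all fun C =>
      (valuesFive d).all fun D => valuesBadFive n a b c' d A B C D

open Cfsg
open scoped ComplexConjugate CfsgLib.Char
open CfsgLib
open scoped _root_.Classical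

universe u

variable {G : Type u} [Group G] [Fintype G] [IsSimpleGroup G]

theorem false_of_configsBadFive {n cc B : ℕ} [Fact (Nat.Prime 5)] (T : OrderCtx G n 5 [5] B 1)
    (hcn : n = 20 * cc) (hc : 1 + T.D.n * 5 = cc) (he : T.D.e = 4) (hbadcfg : configsBadFive n cc B = true) :
    False := by
  haveI : Fact (Nat.Prime 2) := ⟨Nat.prime_two⟩
  have hp : Nat.Prime 5 := Fact.out
  have hC : Subgroup.centralizer ((T.P : Subgroup G) : Set G) = (T.P : Subgroup G) := by
    refine (Subgroup.eq_of_le_of_card_ge ?_ ?_).symm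
    · haveI : IsCyclic (T.P : Subgroup G) := isCyclic_of_prime_card T.card_P
      exact fun a ha => Subgroup.mem_centralizer_iff.mpr fun c hc =>
        congrArg Subtype.val ((IsCyclic.commGroup (α := (T.P : Subgroup G))).mul_comm ⟨c, hc⟩ ⟨a, ha⟩)
    · rw [T.card_C, T.card_P, mul_one]
  have hcomm := T.noncomm
  have ht1 : T.D.t = 1 := by have := T.D.het; rw [he] at this; omega
  obtain ⟨ψ, hψ⟩ := Finset.card_eq_one.mp (T.D.card_Y.trans ht1)
  have hψY : ψ ∈ T.D.Y := hψ ▸ Finset.mem_singleton_self _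
  obtain ⟨v, hv, hv1⟩ : ∃ v, v ∈ (T.P : Subgroup G) ∧ v ≠ 1 := by
    rcases (T.P : Subgroup G).bot_or_exists_ne_one with h | h
    · have := T.card_P
      rw [h, Subgroup.card_bot] at this
      exact absurd this (by norm_num)
    · exact h
  have hone : ¬ 5 ∣ orderOf (1 : G) := orderOf_one (G := G) ▸ hp.not_dvd_one
  set σ : IrrCharacter G → ℤ := fun χ => if χ ∈ T.D.X then T.D.δ χ else -T.D.ε with hσ
  have hval : ∀ χ ∈ T.D.X ∪ T.D.Y, ∀ u ∈ (T.P : Subgroup G), u ≠ 1 → (χ : G → ℂ) u = σ χ := by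
    intro χ hχ u hu hu1
    rcases Finset.mem_union.mp hχ with h | h
    · simp only [hσ, if_pos h]
      have h' := T.D.valX χ h u hu hu1 1 (one_mem _) hone
      rwa [mul_one] at h'
    · simp only [hσ, if_neg fun h' => Finset.disjoint_left.mp T.D.disj h' h]
      rw [hψ, Finset.mem_singleton] at h
      have := T.D.sumY u hu hu1
      rw [hψ, Finset.sum_singleton, ← h] at this
      rw [this]; push_cast; rfl
  have hT : σ (Blocks.trivIrr G) = 1 := by
    have h := hval _ T.D.triv v hv hv1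
    have h' : ((1 : ℤ) : ℂ) = (σ (Blocks.trivIrr G) : ℂ) := by rw [← h]; simp [Blocks.trivIrr]
    exact (Int.cast_injective h').symm
  have hrel : ∀ g, ¬ 5 ∣ orderOf g → ∑ χ ∈ (T.D.X ∪ T.D.Y).erase (Blocks.trivIrr G),
      (σ χ : ℂ) * (χ : G → ℂ) g = -1 := by
    intro g hg
    have h := T.D.rel ψ hψY g hg
    have hs : ∑ χ ∈ T.D.X ∪ T.D.Y, (σ χ : ℂ) * (χ : G → ℂ) g = 0 := by
      rw [Finset.sum_union T.D.disj, hψ, Finset.sum_singleton,
        Finset.sum_congr rfl (g := fun χ => (T.D.δ χ : ℂ) * (χ : G → ℂ) g) fun χ h => by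
          simp only [hσ, if_pos h], ← h]
      simp only [hσ, if_neg fun h' => Finset.disjoint_left.mp T.D.disj h' hψY]
      push_cast; ring
    rw [← Finset.add_sum_erase _ _ T.D.triv, hT] at hs
    simp only [Blocks.trivIrr, Int.cast_one, mul_one] at hs
    exact eq_neg_of_add_eq_zero_right hs
  set E := (T.D.X ∪ T.D.Y).erase (Blocks.trivIrr G) with hE
  have hE4 : E.card = 4 := by
    rw [hE, Finset.card_erase_of_mem T.D.triv, Finset.card_union_of_disjoint T.D.disj, T.D.card_X,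
      T.D.card_Y, ht1, he]
  obtain ⟨a, b, c, d, hab, hac, had, hbc, hbd, hcd, hEeq⟩ := Finset.card_eq_four.mp hE4
  have hσ1 : ∀ χ ∈ E, σ χ = 1 ∨ σ χ = -1 := fun χ _ => by
    simp only [hσ]
    split_ifs with h
    · exact T.D.hδ χ h
    · rcases T.D.hε with h | h <;> simp [h]
  have hmod : ∀ χ ∈ E, (5 : ℤ) ∣ (charDegree (χ : G → ℂ) : ℤ) - σ χ := by
    intro χ hχ
    rcases Finset.mem_union.mp (Finset.mem_of_mem_erase hχ) with h | h
    · simp only [hσ, if_pos h]
      exact_mod_cast Int.modEq_iff_dvd.mp (T.D.degX χ h).symm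
    · simp only [hσ, if_neg fun h' => Finset.disjoint_left.mp T.D.disj h' h]
      have h' := Int.modEq_iff_dvd.mp (T.D.degY χ h).symm
      rw [he] at h'
      push_cast at h'
      omega
  -- every signed degree is in the list
  have hpair : ∀ χ ∈ E, (σ χ, charDegree (χ : G → ℂ)) ∈ pairsFive n cc B := by
    intro χ hχ
    obtain ⟨hne, hχ'⟩ := Finset.mem_erase.mp hχ
    have hd' : charDegree (χ : G → ℂ) ∣ T.D.e * (1 + T.D.n * 5) := by
      rcases Finset.mem_union.mp hχ' with h | h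
      · exact T.D.dvdX χ h
      · exact T.D.dvdY χ h
    obtain ⟨hok, hle⟩ := T.degOK_of hne hd' fun u hu hu1 y hy hyr => by
      have hy1 : y = 1 := by
        rw [hC] at hy
        by_contra hy1
        have h5 := orderOf_dvd_natCard (⟨y, hy⟩ : (T.P : Subgroup G))
        rw [Subgroup.orderOf_mk, T.card_P] at h5
        rcases (Nat.dvd_prime hp).mp h5 with h | h
        · exact hy1 (orderOf_eq_one_iff.mp h)
        · exact hyr (h ▸ dvd_rfl)
      rw [hy1, mul_one]
    rw [hc, he] at hok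
    simp only [pairsFive, List.mem_flatMap, List.mem_range, List.mem_filterMap]
    refine ⟨_, Nat.lt_add_one_iff.mpr hle, σ χ, by rcases hσ1 χ hχ with h | h <;> simp [h], ?_⟩
    rw [if_pos]
    simp only [Bool.and_eq_true, decide_eq_true_eq]
    exact ⟨hok, Int.emod_eq_zero_of_dvd (hmod χ hχ)⟩
  have hdeg : (σ a : ℤ) * charDegree (a : G → ℂ) + σ b * charDegree (b : G → ℂ) +
      σ c * charDegree (c : G → ℂ) + σ d * charDegree (d : G → ℂ) = -1 := by
    have h := hrel 1 hone
    rw [hEeq] at h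
    simp [hab, hac, had, hbc, hbd, hcd, BrauerReynolds.value_one] at h
    exact_mod_cast (by linear_combination h : (σ a : ℂ) * (charDegree (a : G → ℂ) : ℂ) +
      σ b * (charDegree (b : G → ℂ) : ℂ) + σ c * (charDegree (c : G → ℂ) : ℂ) + σ d * (charDegree (d : G → ℂ) : ℂ) = -1)
  have hma : a ∈ E := by rw [hEeq]; simp
  have hmb : b ∈ E := by rw [hEeq]; simp
  have hmc : c ∈ E := by rw [hEeq]; simp
  have hmd : d ∈ E := by rw [hEeq]; simp
  have h := hbadcfg
  simp only [configsBadFive, List.all_eq_true, Bool.or_eq_true, decide_eq_true_eq] at h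
  rcases h _ (hpair a hma) _ (hpair b hmb) _ (hpair c hmc) _ (hpair d hmd) with h | h
  · exact h hdeg
  -- an involution inverting `P`
  set N := Subgroup.normalizer ((T.P : Subgroup G) : Set G) with hN
  have hNcard : Nat.card N = 20 := by
    have h1 := N.card_mul_index
    have h2 : N.index = cc := (Sylow.card_eq_index_normalizer T.P).symm.trans (T.D.card_sylow.trans hc)
    rw [h2, T.card_eq, hcn] at h1
    exact Nat.eq_of_mul_eq_mul_right (show 0 < cc by omega) h1
  obtain ⟨w₀, hw₀⟩ := exists_prime_orderOf_dvd_card' (G := N) 2 (by rw [hNcard]; norm_num)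
  set u : G := (w₀ : G) with hu
  have huo : orderOf u = 2 := by rw [hu, Subgroup.orderOf_coe]; exact hw₀
  have hu2 : u * u = 1 := by
    have := pow_orderOf_eq_one u; rwa [huo, pow_two] at this
  have huN : u ∈ N := w₀.2
  have huinv : ∀ w ∈ (T.P : Subgroup G), u * w * u⁻¹ = w⁻¹ := by
    have hgen : ∀ w ∈ (T.P : Subgroup G), w ≠ 1 → Subgroup.zpowers w = (T.P : Subgroup G) := fun w hw hw1 => by
      refine Subgroup.eq_of_le_of_card_ge (Subgroup.zpowers_le.mpr hw) ?_
      have h := orderOf_dvd_natCard (⟨w, hw⟩ : (T.P : Subgroup G))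
      rw [T.card_P, Subgroup.orderOf_mk] at h
      rw [Nat.card_zpowers, T.card_P, ((Nat.dvd_prime hp).mp h).resolve_left fun e => hw1 (orderOf_eq_one_iff.mp e)]
    intro w hw
    by_cases hw1 : w = 1
    · simp [hw1]
    have hw' : u * w * u⁻¹ ∈ (T.P : Subgroup G) := (Subgroup.mem_normalizer_iff.mp huN w).mp hw
    rw [← hgen w hw hw1] at hw'
    obtain ⟨i, hi⟩ := Subgroup.mem_zpowers_iff.mp hw'
    have huu : u⁻¹ = u := inv_eq_of_mul_eq_one_right hu2
    have h2 : w = w ^ (i * i) := by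
      calc w = u * (u * w * u⁻¹) * u⁻¹ := by
            rw [huu, show u * (u * w * u) * u = (u * u) * w * (u * u) by simp only [mul_assoc], hu2, one_mul, mul_one]
        _ = (u * w * u⁻¹) ^ i := by rw [← hi, ← conj_zpow, hi]
        _ = w ^ (i * i) := by rw [← hi, zpow_mul]
    have ho : orderOf w = 5 := by
      have h := hgen w hw hw1
      rw [← Nat.card_zpowers, h, T.card_P]
    have h5 : (5 : ℤ) ∣ i * i - 1 := by
      have : w ^ (i * i - 1) = 1 := by rw [zpow_sub_one, ← h2, mul_inv_cancel]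
      have h' := orderOf_dvd_iff_zpow_eq_one.mpr this
      rwa [ho] at h'
    rw [show i * i - 1 = (i - 1) * (i + 1) by ring] at h5
    rcases (Int.prime_iff_natAbs_prime.mpr (by norm_num) : Prime (5 : ℤ)).dvd_or_dvd h5 with h5 | h5
    · exfalso
      have hwe : w ^ i = w := by
        have : w ^ (i - 1) = 1 := orderOf_dvd_iff_zpow_eq_one.mp (by rw [ho]; exact h5)
        rw [zpow_sub_one, mul_inv_eq_one] at this
        exact this
      have huC : u ∈ Subgroup.centralizer ((T.P : Subgroup G) : Set G) := by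
        refine Subgroup.mem_centralizer_iff.mpr fun a ha => ?_
        rw [← hgen w hw hw1] at ha
        obtain ⟨j, rfl⟩ := Subgroup.mem_zpowers_iff.mp ha
        refine (Commute.zpow_left ?_ j).eq
        have h' : u * w * u⁻¹ = w := by rw [← hi, hwe]
        exact (mul_inv_eq_iff_eq_mul.mp h').symm
      rw [hC] at huC
      have h' := orderOf_dvd_natCard (⟨u, huC⟩ : (T.P : Subgroup G))
      rw [Subgroup.orderOf_mk, huo, T.card_P] at h'
      norm_num at h'
    · rw [← hi]
      refine eq_inv_of_mul_eq_one_left ?_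
      rw [← zpow_add_one, orderOf_dvd_iff_zpow_eq_one.mp (by rw [ho]; exact h5)]
  have hne : Nonempty {pr : G × G // IsConj u pr.1 ∧ IsConj u pr.2 ∧ pr.1 * pr.2 = v} := by
    refine ⟨⟨(u, u * v), IsConj.refl u, isConj_iff.mpr ⟨v⁻¹ ^ 3, ?_⟩, ?_⟩⟩
    · have hmem : v⁻¹ ^ 3 ∈ (T.P : Subgroup G) := Subgroup.pow_mem _ (inv_mem hv) 3
      have h1 := huinv _ hmem
      have h5 : v ^ 5 = 1 := by
        have h := orderOf_dvd_natCard (⟨v, hv⟩ : (T.P : Subgroup G))
        rw [T.card_P, Subgroup.orderOf_mk] at h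
        exact orderOf_dvd_iff_pow_eq_one.mp h
      have h2 := huinv v hv
      calc v⁻¹ ^ 3 * u * (v⁻¹ ^ 3)⁻¹ = v⁻¹ ^ 3 * (u * (v⁻¹ ^ 3)⁻¹ * u⁻¹) * u := by group
        _ = v⁻¹ ^ 3 * v⁻¹ ^ 3 * u := by rw [← conj_inv, h1, inv_inv]
        _ = v⁻¹ * u := by
          rw [← pow_add, show 3 + 3 = 5 + 1 from rfl, pow_succ, inv_pow, h5, inv_one, one_mul]
        _ = u * v := by rw [← h2]; group
    · rw [← mul_assoc, hu2, one_mul]
  obtain ⟨hnp, u', hu'2, hu'N, hclass⟩ := pairs_of_nonempty T.card_P hC (by norm_num) hu2 hv hv1 hne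
  choose A hA using fun χ : IrrCharacter G =>
    exists_int_of_involution (Char.isCharacter_of_isIrr χ.2) hu2
  have hu1 : u ≠ 1 := fun e => by rw [e, orderOf_one] at huo; omega
  have hmemA : ∀ χ ∈ E, A χ ∈ valuesFive (σ χ, charDegree (χ : G → ℂ)) := by
    intro χ hχ
    obtain ⟨hne', hχ'⟩ := Finset.mem_erase.mp hχ
    have hφ := Char.isCharacter_of_isIrr χ.2
    set x := charDegree (χ : G → ℂ) with hx
    have hx2 := BrauerReynolds.one_lt_degree_of_simple hcomm hne'
    obtain ⟨j, hj⟩ := involution_value_mod_four hcomm hφ hu2 (BrauerReynolds.value_one χ)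
    obtain ⟨k, hk⟩ := hmod χ hχ
    have hkσ : 0 ≤ k + σ χ := by rcases hσ1 χ hχ with e | e <;> rw [e] at hk ⊢ <;> omega
    obtain ⟨K, hK⟩ := Int.eq_ofNat_of_zero_le hkσ
    obtain ⟨α, hα, hαb⟩ := exists_fixed_trace hφ (T.P : Subgroup G) T.card_P hu'2 hu'N (hclass _ hφ).2
      (K := K) (by
        rw [← Finset.add_sum_erase _ _ (Finset.mem_univ (1 : (T.P : Subgroup G))),
          Finset.sum_congr rfl (g := fun _ => (σ χ : ℂ)) (fun (w : (T.P : Subgroup G)) hw =>
            hval χ hχ' w w.2 (fun e => Finset.ne_of_mem_erase hw (Subtype.ext e))),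
          Finset.sum_const, Finset.card_erase_of_mem (Finset.mem_univ _), Finset.card_univ,
          ← Nat.card_eq_fintype_card, T.card_P, Subgroup.coe_one, BrauerReynolds.value_one, ← hx]
        have h' : (x : ℤ) + 4 * σ χ = 5 * (K : ℤ) := by omega
        have h'' : (x : ℂ) + 4 * (σ χ : ℂ) = 5 * (K : ℂ) := by exact_mod_cast h'
        simpa using h'')
    rw [← (hclass _ hφ).1, hA] at hα
    have hα' : A χ = α := by exact_mod_cast hα
    obtain ⟨hb1, hb2⟩ := abs_le.mp hαb
    have hKx : (((x : ℤ) + 4 * σ χ) / 5).toNat = K := by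
      rw [show (x : ℤ) + 4 * σ χ = 5 * (K : ℤ) by omega]; simp
    rw [hA] at hj
    have hj' : A χ = (x : ℤ) - 4 * j := Int.cast_injective hj
    have hAx : A χ ≠ x := fun e => hu1 (BrauerReynolds.faithful_of_simple hne' (by
      rw [hA, e, BrauerReynolds.value_one, ← hx]; simp))
    simp only [valuesFive]
    rw [hKx]
    simp only [List.mem_filterMap, List.mem_range]
    refine ⟨(A χ + K).toNat, by omega, ?_⟩
    rw [show ((A χ + K).toNat : ℤ) - K = A χ by omega, if_pos]
    simp only [Bool.and_eq_true, decide_eq_true_eq]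
    exact ⟨by omega, hAx⟩
  have hbad := h _ (hmemA a hma) _ (hmemA b hmb) _ (hmemA c hmc) _ (hmemA d hmd)
  simp only [valuesBadFive, Bool.or_eq_true, Bool.and_eq_true, decide_eq_true_eq, List.all_eq_true, List.mem_range] at hbad
  rcases hbad with hbad | ⟨hlt, hbad⟩
  · refine hbad ?_
    have h' := hrel u (fun h => by rw [huo] at h; norm_num at h)
    rw [hEeq] at h'
    simp [hab, hac, had, hbc, hbd, hcd, hA] at h'
    exact_mod_cast (by linear_combination h' :
      (1 : ℂ) + σ a * (A a : ℂ) + σ b * (A b : ℂ) + σ c * (A c : ℂ) + σ d * (A d : ℂ) = 0)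
  -- the class equation
  set xa := charDegree (a : G → ℂ)
  set xb := charDegree (b : G → ℂ)
  set xc := charDegree (c : G → ℂ)
  set xd := charDegree (d : G → ℂ)
  have hxa : (xa : ℂ) ≠ 0 := Nat.cast_ne_zero.mpr (Blocks.irr_degree_eq a).2.ne'
  have hxb : (xb : ℂ) ≠ 0 := Nat.cast_ne_zero.mpr (Blocks.irr_degree_eq b).2.ne'
  have hxc : (xc : ℂ) ≠ 0 := Nat.cast_ne_zero.mpr (Blocks.irr_degree_eq c).2.ne'
  have hxd : (xd : ℂ) ≠ 0 := Nat.cast_ne_zero.mpr (Blocks.irr_degree_eq d).2.ne'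
  set S : ℂ := 1 + (σ a : ℂ) * (A a : ℂ) ^ 2 / xa + (σ b : ℂ) * (A b : ℂ) ^ 2 / xb +
    (σ c : ℂ) * (A c : ℂ) ^ 2 / xc + (σ d : ℂ) * (A d : ℂ) ^ 2 / xd with hS
  have hsum : ∑ ξ : IrrCharacter G,
      (ξ : G → ℂ) u * (ξ : G → ℂ) u * conj ((ξ : G → ℂ) v) / (ξ : G → ℂ) 1 = S := by
    rw [← Finset.sum_subset (Finset.subset_univ (T.D.X ∪ T.D.Y)) fun ξ _ hξ => by
      rw [T.D.out hC ξ (fun h => hξ (Finset.mem_union_left _ h)) (fun h => hξ (Finset.mem_union_right _ h)) v hv hv1,
        map_zero, mul_zero, zero_div],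
      ← Finset.add_sum_erase _ _ T.D.triv, ← hE,
      Finset.sum_congr (s₁ := E) rfl (g := fun ξ : IrrCharacter G =>
        (σ ξ : ℂ) * (A ξ : ℂ) ^ 2 / (charDegree (ξ : G → ℂ) : ℂ)) (fun ξ hξ => by
        rw [hval ξ (Finset.mem_of_mem_erase hξ) v hv hv1, hA, BrauerReynolds.value_one, map_intCast]; ring),
      hEeq, hS]
    simp [hab, hac, had, hbc, hbd, hcd, Blocks.trivIrr]
    ring
  have hnum := Char.class_mult u u v
  rw [hsum, hnp] at hnum
  have hmul : (Nat.card (Subgroup.centralizer ({u} : Set G)) : ℂ) * (Subgroup.centralizer ({u} : Set G)).index =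
      (n : ℂ) := by
    have := (Subgroup.centralizer ({u} : Set G)).card_mul_index
    rw [T.card_eq] at this
    exact_mod_cast this
  rw [T.card_eq] at hnum
  set cg := Nat.card (Subgroup.centralizer ({u} : Set G))
  set ix : ℂ := ((Subgroup.centralizer ({u} : Set G)).index : ℂ)
  have h1 : (5 : ℂ) * ((cg : ℂ) * cg) * ((xa : ℂ) * xb * xc * xd) =
      (n : ℂ) * ((S * ((xa : ℂ) * xb * xc * xd))) := by
    have e : (5 : ℂ) * ((cg : ℂ) * cg) = ((cg : ℂ) * ix) * ((cg : ℂ) * ix) / (n : ℂ) * S := by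
      push_cast at hnum
      rw [hnum]; ring
    rw [e, hmul, mul_self_div_self]; ring
  have h2 : S * ((xa : ℂ) * xb * xc * xd) = (xa : ℂ) * xb * xc * xd + σ a * (A a : ℂ) ^ 2 * ((xb : ℂ) * xc * xd) +
      σ b * (A b : ℂ) ^ 2 * ((xa : ℂ) * xc * xd) + σ c * (A c : ℂ) ^ 2 * ((xa : ℂ) * xb * xd) +
      σ d * (A d : ℂ) ^ 2 * ((xa : ℂ) * xb * xc) := by
    rw [hS]; field_simp
  rw [h2] at h1
  have h3 : (5 : ℤ) * ((cg : ℤ) * cg) * ((xa : ℤ) * xb * xc * xd) = (n : ℤ) * ((xa : ℤ) * xb * xc * xd +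
      σ a * A a ^ 2 * ((xb : ℤ) * xc * xd) + σ b * A b ^ 2 * ((xa : ℤ) * xc * xd) +
      σ c * A c ^ 2 * ((xa : ℤ) * xb * xd) + σ d * A d ^ 2 * ((xa : ℤ) * xb * xc)) := by exact_mod_cast h1
  by_cases hcg : cg < 256
  · exact hbad cg hcg h3
  · have hden : (0 : ℤ) ≤ (xa : ℤ) * xb * xc * xd := by positivity
    have h4 : (65536 : ℤ) ≤ (cg : ℤ) * cg := by
      have := Nat.mul_le_mul (Nat.le_of_not_lt hcg) (Nat.le_of_not_lt hcg)
      exact_mod_cast this
    have := mul_le_mul_of_nonneg_right h4 hden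
    linarith

end CfsgLib.BrauerTuan
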