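import Cfsg.Agent.Lib.BrauerTuan.RangeSound

/-!
# Certificates for the orders up to 1092
-/

set_option autoImplicit false
set_option maxRecDepth 100000

namespace CfsgLib.BrauerTuan.Range1092

open Range3640 (Cert check)

/-- The orders treated separately. -/
def special : List ℕ := [60, 168, 360, 504, 660, 720, 1080, 1092]

/-- The certificate is valid for `n`. -/
def checkSmall (n : ℕ) : Cert → Bool
  | .other => special.contains n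
  | c => check n c

/-- The certificates are valid for consecutive numbers. -/
def checkFrom : ℕ → List Cert → Bool
  | _, [] => true
  | n, c :: cs => checkSmall n c && checkFrom (n + 1) cs

/-- Certificates from 2. -/
def certs0 : List Cert :=
  [.pq 2 1 2 0,
   .pq 3 1 3 0,
   .pq 2 2 2 0,
   .pq 5 1 5 0,
   .pq 2 1 3 1,
   .pq 7 1 7 0,
   .pq 2 3 2 0,
   .pq 3 2 3 0,
   .pq 2 1 5 1,
   .pq 11 1 11 0,
   .pq 2 2 3 1,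
   .pq 13 1 13 0,
   .pq 2 1 7 1,
   .pq 3 1 5 1,
   .pq 2 4 2 0,
   .pq 17 1 17 0,
   .pq 2 1 3 2,
   .pq 19 1 19 0,
   .pq 2 2 5 1,
   .pq 3 1 7 1,
   .pq 2 1 11 1,
   .pq 23 1 23 0,
   .pq 2 3 3 1,
   .pq 5 2 5 0,
   .pq 2 1 13 1,
   .pq 3 3 3 0,
   .pq 2 2 7 1,
   .pq 29 1 29 0,
   .sylow 0 5 1 6,
   .pq 31 1 31 0,
   .pq 2 5 2 0,
   .pq 3 1 11 1,
   .pq 2 1 17 1,
   .pq 5 1 7 1,
   .pq 2 2 3 2,
   .pq 37 1 37 0,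
   .pq 2 1 19 1,
   .pq 3 1 13 1,
   .pq 2 3 5 1,
   .pq 41 1 41 0,
   .sylow 0 7 1 6,
   .pq 43 1 43 0,
   .pq 2 2 11 1,
   .pq 3 2 5 1,
   .pq 2 1 23 1,
   .pq 47 1 47 0,
   .pq 2 4 3 1,
   .pq 7 2 7 0,
   .pq 2 1 5 2,
   .pq 3 1 17 1,
   .pq 2 2 13 1,
   .pq 53 1 53 0,
   .pq 2 1 3 3,
   .pq 5 1 11 1,
   .pq 2 3 7 1,
   .pq 3 1 19 1,
   .pq 2 1 29 1,
   .pq 59 1 59 0,
   .other,
   .pq 61 1 61 0,
   .pq 2 1 31 1,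
   .pq 3 2 7 1,
   .pq 2 6 2 0,
   .pq 5 1 13 1,
   .sylow 0 11 1 6,
   .pq 67 1 67 0,
   .pq 2 2 17 1,
   .pq 3 1 23 1,
   .sylow 0 7 1 10,
   .pq 71 1 71 0,
   .pq 2 3 3 2,
   .pq 73 1 73 0,
   .pq 2 1 37 1,
   .pq 3 1 5 2,
   .pq 2 2 19 1,
   .pq 7 1 11 1,
   .sylow 0 13 1 6,
   .pq 79 1 79 0,
   .pq 2 4 5 1,
   .pq 3 4 3 0,
   .pq 2 1 41 1,
   .pq 83 1 83 0,
   .sylow 0 7 1 12,
   .pq 5 1 17 1,
   .pq 2 1 43 1,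
   .pq 3 1 29 1,
   .pq 2 3 11 1,
   .pq 89 1 89 0,
   .sylow 0 5 1 18,
   .pq 7 1 13 1,
   .pq 2 2 23 1,
   .pq 3 1 31 1,
   .pq 2 1 47 1,
   .pq 5 1 19 1,
   .pq 2 5 3 1,
   .pq 97 1 97 0,
   .pq 2 1 7 2,
   .pq 3 2 11 1,
   .pq 2 2 5 2,
   .pq 101 1 101 0,
   .sylow 0 17 1 6,
   .pq 103 1 103 0,
   .pq 2 3 13 1,
   .sylow 0 7 1 15,
   .pq 2 1 53 1,
   .pq 107 1 107 0,
   .pq 2 2 3 3,
   .pq 109 1 109 0,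
   .sylow 0 11 1 10,
   .pq 3 1 37 1,
   .pq 2 4 7 1,
   .pq 113 1 113 0,
   .sylow 0 19 1 6,
   .pq 5 1 23 1,
   .pq 2 2 29 1,
   .pq 3 2 13 1,
   .pq 2 1 59 1,
   .pq 7 1 17 1,
   .sylow 0 2 3 15,
   .pq 11 2 11 0,
   .pq 2 1 61 1,
   .pq 3 1 41 1,
   .pq 2 2 31 1,
   .pq 5 3 5 0,
   .sylow 0 3 2 14,
   .pq 127 1 127 0,
   .pq 2 7 2 0,
   .pq 3 1 43 1,
   .sylow 0 13 1 10,
   .pq 131 1 131 0,
   .sylow 0 11 1 12,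
   .pq 7 1 19 1,
   .pq 2 1 67 1,
   .pq 3 3 5 1,
   .pq 2 3 17 1,
   .pq 137 1 137 0,
   .sylow 0 23 1 6,
   .pq 139 1 139 0,
   .sylow 0 7 1 20,
   .pq 3 1 47 1,
   .pq 2 1 71 1,
   .pq 11 1 13 1,
   .pq 2 4 3 2,
   .pq 5 1 29 1,
   .pq 2 1 73 1,
   .pq 3 1 7 2,
   .pq 2 2 37 1,
   .pq 149 1 149 0,
   .sylow 0 5 2 6,
   .pq 151 1 151 0,
   .pq 2 3 19 1,
   .pq 3 2 17 1,
   .sylow 0 11 1 14,
   .pq 5 1 31 1,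
   .sylow 0 13 1 12,
   .pq 157 1 157 0,
   .pq 2 1 79 1,
   .pq 3 1 53 1,
   .pq 2 5 5 1,
   .pq 7 1 23 1,
   .pq 2 1 3 4,
   .pq 163 1 163 0,
   .pq 2 2 41 1,
   .sylow 0 11 1 15,
   .pq 2 1 83 1,
   .pq 167 1 167 0,
   .other,
   .pq 13 2 13 0,
   .sylow 0 17 1 10,
   .pq 3 2 19 1,
   .pq 2 2 43 1,
   .pq 173 1 173 0,
   .sylow 0 29 1 6,
   .pq 5 2 7 1,
   .pq 2 4 11 1,
   .pq 3 1 59 1,
   .pq 2 1 89 1,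
   .pq 179 1 179 0,
   .sylow 0 5 1 36,
   .pq 181 1 181 0,
   .sylow 0 13 1 14,
   .pq 3 1 61 1]

theorem certs0_ok : checkFrom 2 certs0 = true := by decide +kernel

/-- Certificates from 184. -/
def certs1 : List Cert :=
  [.pq 2 3 23 1,
   .pq 5 1 37 1,
   .sylow 0 31 1 6,
   .pq 11 1 17 1,
   .pq 2 2 47 1,
   .pq 3 3 7 1,
   .sylow 0 19 1 10,
   .pq 191 1 191 0,
   .pq 2 6 3 1,
   .pq 193 1 193 0,
   .pq 2 1 97 1,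
   .sylow 0 13 1 15,
   .pq 2 2 7 2,
   .pq 197 1 197 0,
   .sylow 0 11 1 18,
   .pq 199 1 199 0,
   .pq 2 3 5 2,
   .pq 3 1 67 1,
   .pq 2 1 101 1,
   .pq 7 1 29 1,
   .sylow 0 17 1 12,
   .pq 5 1 41 1,
   .pq 2 1 103 1,
   .pq 3 2 23 1,
   .pq 2 4 13 1,
   .pq 11 1 19 1,
   .sylow 7 3 1 70,
   .pq 211 1 211 0,
   .pq 2 2 53 1,
   .pq 3 1 71 1,
   .pq 2 1 107 1,
   .pq 5 1 43 1,
   .pq 2 3 3 3,
   .pq 7 1 31 1,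
   .pq 2 1 109 1,
   .pq 3 1 73 1,
   .sylow 0 11 1 20,
   .pq 13 1 17 1,
   .sylow 0 37 1 6,
   .pq 223 1 223 0,
   .pq 2 5 7 1,
   .pq 3 2 5 2,
   .pq 2 1 113 1,
   .pq 227 1 227 0,
   .sylow 0 19 1 12,
   .pq 229 1 229 0,
   .sylow 0 23 1 10,
   .sylow 0 11 1 21,
   .pq 2 3 29 1,
   .pq 233 1 233 0,
   .sylow 0 13 1 18,
   .pq 5 1 47 1,
   .pq 2 2 59 1,
   .pq 3 1 79 1,
   .sylow 0 17 1 14,
   .pq 239 1 239 0,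
   .sylow 0 2 4 15,
   .pq 241 1 241 0,
   .pq 2 1 11 2,
   .pq 3 5 3 0,
   .pq 2 2 61 1,
   .pq 5 1 7 2,
   .sylow 0 41 1 6,
   .pq 13 1 19 1,
   .pq 2 3 31 1,
   .pq 3 1 83 1,
   .pq 2 1 5 3,
   .pq 251 1 251 0,
   .sylow 0 7 1 36,
   .pq 11 1 23 1,
   .pq 2 1 127 1,
   .sylow 0 17 1 15,
   .pq 2 8 2 0,
   .pq 257 1 257 0,
   .sylow 0 43 1 6,
   .pq 7 1 37 1,
   .sylow 0 13 1 20,
   .pq 3 2 29 1,
   .pq 2 1 131 1,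
   .pq 263 1 263 0,
   .sylow 11 11 1 24,
   .pq 5 1 53 1,
   .sylow 0 19 1 14,
   .pq 3 1 89 1,
   .pq 2 2 67 1,
   .pq 269 1 269 0,
   .sylow 0 5 1 54,
   .pq 271 1 271 0,
   .pq 2 4 17 1,
   .sylow 0 13 1 21,
   .pq 2 1 137 1,
   .pq 5 2 11 1,
   .sylow 0 23 1 12,
   .pq 277 1 277 0,
   .pq 2 1 139 1,
   .pq 3 2 31 1,
   .sylow 7 2 3 35,
   .pq 281 1 281 0,
   .sylow 0 47 1 6,
   .pq 283 1 283 0,
   .pq 2 2 71 1,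
   .sylow 0 19 1 15,
   .sylow 0 13 1 22,
   .pq 7 1 41 1,
   .pq 2 5 3 2,
   .pq 17 2 17 0,
   .sylow 0 29 1 10,
   .pq 3 1 97 1,
   .pq 2 2 73 1,
   .pq 293 1 293 0,
   .sylow 0 7 2 6,
   .pq 5 1 59 1,
   .pq 2 3 37 1,
   .pq 3 3 11 1,
   .pq 2 1 149 1,
   .pq 13 1 23 1,
   .sylow 0 5 2 12,
   .pq 7 1 43 1,
   .pq 2 1 151 1,
   .pq 3 1 101 1,
   .pq 2 4 19 1,
   .pq 5 1 61 1,
   .sylow 0 17 1 18,
   .pq 307 1 307 0,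
   .sylow 0 11 1 28,
   .pq 3 1 103 1,
   .sylow 0 31 1 10,
   .pq 311 1 311 0,
   .sylow 0 13 1 24,
   .pq 313 1 313 0,
   .pq 2 1 157 1,
   .sylow 0 3 2 35,
   .pq 2 2 79 1,
   .pq 317 1 317 0,
   .sylow 0 53 1 6,
   .pq 11 1 29 1,
   .pq 2 6 5 1,
   .pq 3 1 107 1,
   .sylow 0 23 1 14,
   .pq 17 1 19 1,
   .pq 2 2 3 4,
   .pq 5 2 13 1,
   .pq 2 1 163 1,
   .pq 3 1 109 1,
   .pq 2 3 41 1,
   .pq 7 1 47 1,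
   .sylow 0 11 1 30,
   .pq 331 1 331 0,
   .pq 2 2 83 1,
   .pq 3 2 37 1,
   .pq 2 1 167 1,
   .pq 5 1 67 1,
   .sylow 7 7 1 48,
   .pq 337 1 337 0,
   .pq 2 1 13 2,
   .pq 3 1 113 1,
   .sylow 0 17 1 20,
   .pq 11 1 31 1,
   .sylow 0 19 1 18,
   .pq 7 3 7 0,
   .pq 2 3 43 1,
   .sylow 0 23 1 15,
   .pq 2 1 173 1,
   .pq 347 1 347 0,
   .sylow 0 29 1 12,
   .pq 349 1 349 0,
   .sylow 0 5 2 14,
   .pq 3 3 13 1,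
   .pq 2 5 11 1,
   .pq 353 1 353 0,
   .sylow 0 59 1 6,
   .pq 5 1 71 1,
   .pq 2 2 89 1,
   .sylow 0 17 1 21,
   .pq 2 1 179 1,
   .pq 359 1 359 0,
   .other,
   .pq 19 2 19 0,
   .pq 2 1 181 1,
   .pq 3 1 11 2,
   .sylow 0 7 1 52,
   .pq 5 1 73 1]

theorem certs1_ok : checkFrom 184 certs1 = true := by decide +kernel

/-- Certificates from 366. -/
def certs2 : List Cert :=
  [.sylow 0 61 1 6,
   .pq 367 1 367 0,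
   .pq 2 4 23 1,
   .pq 3 2 41 1,
   .sylow 0 37 1 10,
   .pq 7 1 53 1,
   .sylow 0 31 1 12,
   .pq 373 1 373 0,
   .sylow 0 17 1 22,
   .pq 3 1 5 3,
   .pq 2 3 47 1,
   .pq 13 1 29 1,
   .sylow 0 3 3 14,
   .pq 379 1 379 0,
   .sylow 0 19 1 20,
   .pq 3 1 127 1,
   .pq 2 1 191 1,
   .pq 383 1 383 0,
   .pq 2 7 3 1,
   .sylow 0 11 1 35,
   .pq 2 1 193 1,
   .pq 3 2 43 1,
   .pq 2 2 97 1,
   .pq 389 1 389 0,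
   .sylow 0 13 1 30,
   .pq 17 1 23 1,
   .pq 2 3 7 2,
   .pq 3 1 131 1,
   .pq 2 1 197 1,
   .pq 5 1 79 1,
   .sylow 0 11 1 36,
   .pq 397 1 397 0,
   .pq 2 1 199 1,
   .sylow 0 19 1 21,
   .pq 2 4 5 2,
   .pq 401 1 401 0,
   .sylow 0 67 1 6,
   .pq 13 1 31 1,
   .pq 2 2 101 1,
   .pq 3 4 5 1,
   .sylow 0 29 1 14,
   .pq 11 1 37 1,
   .sylow 0 17 1 24,
   .pq 409 1 409 0,
   .sylow 0 41 1 10,
   .pq 3 1 137 1,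
   .pq 2 2 103 1,
   .pq 7 1 59 1,
   .sylow 0 23 1 18,
   .pq 5 1 83 1,
   .pq 2 5 13 1,
   .pq 3 1 139 1,
   .sylow 0 19 1 22,
   .pq 419 1 419 0,
   .block 7 [3, 5, 7],
   .pq 421 1 421 0,
   .pq 2 1 211 1,
   .pq 3 2 47 1,
   .pq 2 3 53 1,
   .pq 5 2 17 1,
   .sylow 0 71 1 6,
   .pq 7 1 61 1,
   .pq 2 2 107 1,
   .sylow 0 13 1 33,
   .sylow 0 43 1 10,
   .pq 431 1 431 0,
   .pq 2 4 3 3,
   .pq 433 1 433 0,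
   .sylow 0 31 1 14,
   .sylow 0 29 1 15,
   .pq 2 2 109 1,
   .pq 19 1 23 1,
   .sylow 0 73 1 6,
   .pq 439 1 439 0,
   .sylow 0 11 1 40,
   .pq 3 2 7 2,
   .sylow 0 17 1 26,
   .pq 443 1 443 0,
   .sylow 0 37 1 12,
   .pq 5 1 89 1,
   .pq 2 1 223 1,
   .pq 3 1 149 1,
   .pq 2 6 7 1,
   .pq 449 1 449 0,
   .sylow 0 5 2 18,
   .pq 11 1 41 1,
   .pq 2 2 113 1,
   .pq 3 1 151 1,
   .pq 2 1 227 1,
   .sylow 0 13 1 35,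
   .sylow 0 19 1 24,
   .pq 457 1 457 0,
   .pq 2 1 229 1,
   .pq 3 3 17 1,
   .sylow 0 23 1 20,
   .pq 461 1 461 0,
   .sylow 0 11 1 42,
   .pq 463 1 463 0,
   .pq 2 4 29 1,
   .sylow 0 31 1 15,
   .pq 2 1 233 1,
   .pq 467 1 467 0,
   .sylow 0 13 1 36,
   .pq 7 1 67 1,
   .sylow 0 47 1 10,
   .pq 3 1 157 1,
   .pq 2 3 59 1,
   .pq 11 1 43 1,
   .sylow 0 79 1 6,
   .pq 5 2 19 1,
   .sylow 0 17 1 28,
   .pq 3 2 53 1,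
   .pq 2 1 239 1,
   .pq 479 1 479 0,
   .sylow 0 2 5 15,
   .pq 13 1 37 1,
   .pq 2 1 241 1,
   .sylow 0 23 1 21,
   .pq 2 2 11 2,
   .pq 5 1 97 1,
   .pq 2 1 3 5,
   .pq 487 1 487 0,
   .pq 2 3 61 1,
   .pq 3 1 163 1,
   .sylow 0 7 2 10,
   .pq 491 1 491 0,
   .sylow 0 41 1 12,
   .pq 17 1 29 1,
   .sylow 0 19 1 26,
   .sylow 0 11 1 45,
   .pq 2 4 31 1,
   .pq 7 1 71 1,
   .sylow 0 83 1 6,
   .pq 499 1 499 0,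
   .pq 2 2 5 3,
   .pq 3 1 167 1,
   .pq 2 1 251 1,
   .pq 503 1 503 0,
   .other,
   .pq 5 1 101 1,
   .sylow 0 23 1 22,
   .pq 3 1 13 2,
   .pq 2 2 127 1,
   .pq 509 1 509 0,
   .sylow 0 17 1 30,
   .pq 7 1 73 1,
   .pq 2 9 2 0,
   .pq 3 3 19 1,
   .pq 2 1 257 1,
   .pq 5 1 103 1,
   .sylow 0 43 1 12,
   .pq 11 1 47 1,
   .sylow 0 37 1 14,
   .pq 3 1 173 1,
   .sylow 0 13 1 40,
   .pq 521 1 521 0,
   .sylow 0 29 1 18,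
   .pq 523 1 523 0,
   .pq 2 2 131 1,
   .sylow 0 5 2 21,
   .pq 2 1 263 1,
   .pq 17 1 31 1,
   .sylow 11 11 1 48,
   .pq 23 2 23 0,
   .sylow 0 53 1 10,
   .pq 3 2 59 1,
   .sylow 0 19 1 28,
   .pq 13 1 41 1,
   .sylow 0 89 1 6,
   .pq 5 1 107 1,
   .pq 2 3 67 1,
   .pq 3 1 179 1,
   .pq 2 1 269 1,
   .pq 7 2 11 1,
   .sylow 0 5 1 108,
   .pq 541 1 541 0,
   .pq 2 1 271 1,
   .pq 3 1 181 1,
   .pq 2 5 17 1,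
   .pq 5 1 109 1,
   .sylow 0 7 1 78,
   .pq 547 1 547 0]

theorem certs2_ok : checkFrom 366 certs2 = true := by decide +kernel

/-- Certificates from 548. -/
def certs3 : List Cert :=
  [.pq 2 2 137 1,
   .pq 3 2 61 1,
   .sylow 0 5 2 22,
   .pq 19 1 29 1,
   .sylow 0 23 1 24,
   .pq 7 1 79 1,
   .pq 2 1 277 1,
   .sylow 0 37 1 15,
   .pq 2 2 139 1,
   .pq 557 1 557 0,
   .sylow 0 31 1 18,
   .pq 13 1 43 1,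
   .sylow 0 2 4 35,
   .sylow 0 17 1 33,
   .pq 2 1 281 1,
   .pq 563 1 563 0,
   .sylow 0 47 1 12,
   .pq 5 1 113 1,
   .pq 2 1 283 1,
   .pq 3 4 7 1,
   .pq 2 3 71 1,
   .pq 569 1 569 0,
   .sylow 0 19 1 30,
   .pq 571 1 571 0,
   .sylow 0 13 1 44,
   .pq 3 1 191 1,
   .sylow 0 41 1 14,
   .pq 5 2 23 1,
   .pq 2 6 3 2,
   .pq 577 1 577 0,
   .pq 2 1 17 2,
   .pq 3 1 193 1,
   .sylow 0 29 1 20,
   .pq 7 1 83 1,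
   .sylow 0 97 1 6,
   .pq 11 1 53 1,
   .pq 2 3 73 1,
   .sylow 0 13 1 45,
   .pq 2 1 293 1,
   .pq 587 1 587 0,
   .sylow 0 7 2 12,
   .pq 19 1 31 1,
   .sylow 0 59 1 10,
   .pq 3 1 197 1,
   .pq 2 4 37 1,
   .pq 593 1 593 0,
   .sylow 0 3 3 22,
   .sylow 0 17 1 35,
   .pq 2 2 149 1,
   .pq 3 1 199 1,
   .sylow 0 23 1 26,
   .pq 599 1 599 0,
   .sylow 0 5 2 24,
   .pq 601 1 601 0,
   .sylow 0 43 1 14,
   .pq 3 2 67 1,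
   .pq 2 2 151 1,
   .pq 5 1 11 2,
   .sylow 0 101 1 6,
   .pq 607 1 607 0,
   .pq 2 5 19 1,
   .sylow 0 29 1 21,
   .sylow 0 61 1 10,
   .pq 13 1 47 1,
   .block 17 [17],
   .pq 613 1 613 0,
   .pq 2 1 307 1,
   .sylow 0 41 1 15,
   .sylow 0 11 1 56,
   .pq 617 1 617 0,
   .sylow 0 103 1 6,
   .pq 619 1 619 0,
   .sylow 0 31 1 20,
   .pq 3 3 23 1,
   .pq 2 1 311 1,
   .pq 7 1 89 1,
   .sylow 13 2 4 39,
   .pq 5 4 5 0,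
   .pq 2 1 313 1,
   .sylow 0 19 1 33,
   .pq 2 2 157 1,
   .pq 17 1 37 1,
   .sylow 0 2 1 315,
   .pq 631 1 631 0,
   .pq 2 3 79 1,
   .pq 3 1 211 1,
   .pq 2 1 317 1,
   .pq 5 1 127 1,
   .sylow 0 53 1 12,
   .pq 7 2 13 1,
   .sylow 0 29 1 22,
   .pq 3 2 71 1,
   .pq 2 7 5 1,
   .pq 641 1 641 0,
   .sylow 0 107 1 6,
   .pq 643 1 643 0,
   .sylow 0 23 1 28,
   .sylow 0 43 1 15,
   .sylow 0 19 1 34,
   .pq 647 1 647 0,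
   .pq 2 3 3 4,
   .pq 11 1 59 1,
   .sylow 0 13 1 50,
   .sylow 0 31 1 21,
   .pq 2 2 163 1,
   .pq 653 1 653 0,
   .sylow 0 109 1 6,
   .pq 5 1 131 1,
   .pq 2 4 41 1,
   .pq 3 2 73 1,
   .sylow 0 47 1 14,
   .pq 659 1 659 0,
   .other,
   .pq 661 1 661 0,
   .pq 2 1 331 1,
   .sylow 0 17 1 39,
   .pq 2 3 83 1,
   .sylow 0 19 1 35,
   .sylow 0 37 1 18,
   .pq 23 1 29 1,
   .pq 2 2 167 1,
   .pq 3 1 223 1,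
   .sylow 0 67 1 10,
   .pq 11 1 61 1,
   .sylow 7 7 1 96,
   .pq 673 1 673 0,
   .pq 2 1 337 1,
   .pq 3 3 5 2,
   .pq 2 2 13 2,
   .pq 677 1 677 0,
   .sylow 0 113 1 6,
   .pq 7 1 97 1,
   .sylow 0 17 1 40,
   .pq 3 1 227 1,
   .sylow 0 31 1 22,
   .pq 683 1 683 0,
   .sylow 0 19 1 36,
   .pq 5 1 137 1,
   .pq 2 1 7 3,
   .pq 3 1 229 1,
   .pq 2 4 43 1,
   .pq 13 1 53 1,
   .sylow 0 23 1 30,
   .pq 691 1 691 0,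
   .pq 2 2 173 1,
   .sylow 0 11 1 63,
   .pq 2 1 347 1,
   .pq 5 1 139 1,
   .sylow 0 29 1 24,
   .pq 17 1 41 1,
   .pq 2 1 349 1,
   .pq 3 1 233 1,
   .sylow 0 5 2 28,
   .pq 701 1 701 0,
   .sylow 0 3 3 26,
   .pq 19 1 37 1,
   .pq 2 6 11 1,
   .sylow 0 47 1 15,
   .pq 2 1 353 1,
   .pq 7 1 101 1,
   .sylow 0 59 1 12,
   .pq 709 1 709 0,
   .sylow 0 71 1 10,
   .pq 3 2 79 1,
   .pq 2 3 89 1,
   .pq 23 1 31 1,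
   .sylow 0 17 1 42,
   .sylow 0 13 1 55,
   .pq 2 2 179 1,
   .pq 3 1 239 1,
   .pq 2 1 359 1,
   .pq 719 1 719 0,
   .other,
   .pq 7 1 103 1,
   .pq 2 1 19 2,
   .pq 3 1 241 1,
   .pq 2 2 181 1,
   .pq 5 2 29 1,
   .sylow 0 11 2 6,
   .pq 727 1 727 0,
   .sylow 13 13 1 56,
   .pq 3 6 3 0]

theorem certs3_ok : checkFrom 548 certs3 = true := by decide +kernel

/-- Certificates from 730. -/
def certs4 : List Cert :=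
  [.sylow 0 73 1 10,
   .pq 17 1 43 1,
   .sylow 0 61 1 12,
   .pq 733 1 733 0,
   .pq 2 1 367 1,
   .sylow 0 7 2 15,
   .pq 2 5 23 1,
   .pq 11 1 67 1,
   .sylow 0 41 1 18,
   .pq 739 1 739 0,
   .sylow 0 37 1 20,
   .sylow 0 19 1 39,
   .sylow 0 53 1 14,
   .pq 743 1 743 0,
   .sylow 0 31 1 24,
   .pq 5 1 149 1,
   .pq 2 1 373 1,
   .pq 3 2 83 1,
   .sylow 0 17 1 44,
   .pq 7 1 107 1,
   .sylow 0 5 3 6,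
   .pq 751 1 751 0,
   .pq 2 4 47 1,
   .pq 3 1 251 1,
   .sylow 0 29 1 26,
   .pq 5 1 151 1,
   .block 7 [7],
   .pq 757 1 757 0,
   .pq 2 1 379 1,
   .sylow 0 23 1 33,
   .sylow 19 19 1 40,
   .pq 761 1 761 0,
   .sylow 0 127 1 6,
   .pq 7 1 109 1,
   .pq 2 2 191 1,
   .sylow 0 17 1 45,
   .pq 2 1 383 1,
   .pq 13 1 59 1,
   .pq 2 8 3 1,
   .pq 769 1 769 0,
   .sylow 0 11 1 70,
   .pq 3 1 257 1,
   .pq 2 2 193 1,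
   .pq 773 1 773 0,
   .sylow 0 43 1 18,
   .pq 5 2 31 1,
   .pq 2 3 97 1,
   .sylow 0 37 1 21,
   .pq 2 1 389 1,
   .pq 19 1 41 1,
   .sylow 0 13 1 60,
   .pq 11 1 71 1,
   .sylow 0 23 1 34,
   .pq 3 3 29 1,
   .pq 2 4 7 2,
   .pq 5 1 157 1,
   .sylow 0 131 1 6,
   .pq 787 1 787 0,
   .pq 2 2 197 1,
   .pq 3 1 263 1,
   .sylow 0 79 1 10,
   .pq 7 1 113 1,
   .sylow 11 11 1 72,
   .pq 13 1 61 1,
   .pq 2 1 397 1,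
   .sylow 0 53 1 15,
   .pq 2 2 199 1,
   .pq 797 1 797 0,
   .sylow 0 19 1 42,
   .pq 17 1 47 1,
   .pq 2 5 5 2,
   .pq 3 2 89 1,
   .pq 2 1 401 1,
   .pq 11 1 73 1,
   .sylow 0 67 1 12,
   .sylow 0 23 1 35,
   .sylow 0 31 1 26,
   .pq 3 1 269 1,
   .pq 2 3 101 1,
   .pq 809 1 809 0,
   .sylow 0 2 1 405,
   .pq 811 1 811 0,
   .sylow 0 29 1 28,
   .pq 3 1 271 1,
   .sylow 0 37 1 22,
   .pq 5 1 163 1,
   .sylow 0 17 1 48,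
   .pq 19 1 43 1,
   .pq 2 1 409 1,
   .sylow 0 13 1 63,
   .sylow 0 41 1 20,
   .pq 821 1 821 0,
   .sylow 0 137 1 6,
   .pq 823 1 823 0,
   .pq 2 3 103 1,
   .sylow 0 5 2 33,
   .sylow 0 59 1 14,
   .pq 827 1 827 0,
   .sylow 0 23 1 36,
   .pq 829 1 829 0,
   .sylow 0 83 1 10,
   .pq 3 1 277 1,
   .pq 2 6 13 1,
   .pq 7 2 17 1,
   .sylow 0 139 1 6,
   .pq 5 1 167 1,
   .sylow 0 19 1 44,
   .pq 3 3 31 1,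
   .pq 2 1 419 1,
   .pq 839 1 839 0,
   .block 7 [3, 5, 7],
   .pq 29 2 29 0,
   .pq 2 1 421 1,
   .pq 3 1 281 1,
   .pq 2 2 211 1,
   .pq 5 1 13 2,
   .sylow 0 47 1 18,
   .pq 7 1 11 2,
   .pq 2 4 53 1,
   .pq 3 1 283 1,
   .sylow 0 5 2 34,
   .pq 23 1 37 1,
   .sylow 0 71 1 12,
   .pq 853 1 853 0,
   .sylow 0 61 1 14,
   .sylow 0 19 1 45,
   .pq 2 3 107 1,
   .pq 857 1 857 0,
   .sylow 0 13 1 66,
   .pq 859 1 859 0,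
   .sylow 0 43 1 20,
   .sylow 0 41 1 21,
   .pq 2 1 431 1,
   .pq 863 1 863 0,
   .pq 2 5 3 3,
   .pq 5 1 173 1,
   .pq 2 1 433 1,
   .pq 3 1 17 2,
   .sylow 0 31 1 28,
   .pq 11 1 79 1,
   .sylow 0 29 1 30,
   .pq 13 1 67 1,
   .pq 2 3 109 1,
   .pq 3 2 97 1,
   .sylow 0 23 1 38,
   .pq 5 3 7 1,
   .sylow 0 73 1 12,
   .pq 877 1 877 0,
   .pq 2 1 439 1,
   .pq 3 1 293 1,
   .sylow 11 2 4 55,
   .pq 881 1 881 0,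
   .sylow 0 7 2 18,
   .pq 883 1 883 0,
   .sylow 0 17 1 52,
   .sylow 0 59 1 15,
   .pq 2 1 443 1,
   .pq 887 1 887 0,
   .sylow 0 37 1 24,
   .pq 7 1 127 1,
   .sylow 0 89 1 10,
   .pq 3 4 11 1,
   .pq 2 2 223 1,
   .pq 19 1 47 1,
   .sylow 0 149 1 6,
   .pq 5 1 179 1,
   .pq 2 7 7 1,
   .sylow 0 23 1 39,
   .pq 2 1 449 1,
   .pq 29 1 31 1,
   .sylow 0 5 2 36,
   .pq 17 1 53 1,
   .sylow 0 41 1 22,
   .sylow 0 43 1 21,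
   .pq 2 3 113 1,
   .pq 5 1 181 1,
   .sylow 0 151 1 6,
   .pq 907 1 907 0,
   .pq 2 2 227 1,
   .pq 3 2 101 1,
   .sylow 0 13 1 70,
   .pq 911 1 911 0]

theorem certs4_ok : checkFrom 730 certs4 = true := by decide +kernel

/-- Certificates from 912. -/
def certs5 : List Cert :=
  [.sylow 0 19 1 48,
   .pq 11 1 83 1,
   .pq 2 1 457 1,
   .sylow 0 61 1 15,
   .pq 2 2 229 1,
   .pq 7 1 131 1,
   .sylow 0 3 3 34,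
   .pq 919 1 919 0,
   .sylow 0 23 1 40,
   .pq 3 1 307 1,
   .pq 2 1 461 1,
   .pq 13 1 71 1,
   .sylow 0 11 1 84,
   .pq 5 2 37 1,
   .pq 2 1 463 1,
   .pq 3 2 103 1,
   .pq 2 5 29 1,
   .pq 929 1 929 0,
   .sylow 0 31 1 30,
   .pq 7 2 19 1,
   .pq 2 2 233 1,
   .pq 3 1 311 1,
   .pq 2 1 467 1,
   .sylow 0 17 1 55,
   .sylow 0 13 1 72,
   .pq 937 1 937 0,
   .sylow 0 67 1 14,
   .pq 3 1 313 1,
   .sylow 0 47 1 20,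
   .pq 941 1 941 0,
   .sylow 0 157 1 6,
   .pq 23 1 41 1,
   .pq 2 4 59 1,
   .sylow 0 3 3 35,
   .sylow 0 43 1 22,
   .pq 947 1 947 0,
   .sylow 0 79 1 12,
   .pq 13 1 73 1,
   .sylow 0 5 2 38,
   .pq 3 1 317 1,
   .sylow 0 17 1 56,
   .pq 953 1 953 0,
   .sylow 0 53 1 18,
   .pq 5 1 191 1,
   .pq 2 2 239 1,
   .sylow 0 29 1 33,
   .pq 2 1 479 1,
   .pq 7 1 137 1,
   .sylow 0 2 6 15,
   .pq 31 2 31 0,
   .sylow 0 37 1 26,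
   .pq 3 2 107 1,
   .pq 2 2 241 1,
   .pq 5 1 193 1,
   .sylow 0 23 1 42,
   .pq 967 1 967 0,
   .pq 2 3 11 2,
   .sylow 0 19 1 51,
   .sylow 0 97 1 10,
   .pq 971 1 971 0,
   .pq 2 2 3 5,
   .pq 7 1 139 1,
   .pq 2 1 487 1,
   .sylow 0 5 2 39,
   .pq 2 4 61 1,
   .pq 977 1 977 0,
   .sylow 0 163 1 6,
   .pq 11 1 89 1,
   .sylow 0 7 2 20,
   .pq 3 2 109 1,
   .pq 2 1 491 1,
   .pq 983 1 983 0,
   .sylow 0 41 1 24,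
   .pq 5 1 197 1,
   .sylow 0 29 1 34,
   .sylow 0 47 1 21,
   .sylow 0 19 1 52,
   .pq 23 1 43 1,
   .sylow 11 5 1 198,
   .pq 991 1 991 0,
   .pq 2 5 31 1,
   .pq 3 1 331 1,
   .sylow 0 71 1 14,
   .pq 5 1 199 1,
   .sylow 0 83 1 12,
   .pq 997 1 997 0,
   .pq 2 1 499 1,
   .pq 3 3 37 1,
   .pq 2 3 5 3,
   .sylow 0 13 1 77,
   .sylow 0 167 1 6,
   .pq 17 1 59 1,
   .pq 2 2 251 1,
   .sylow 0 67 1 15,
   .pq 2 1 503 1,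
   .pq 19 1 53 1,
   .block 7 [7],
   .pq 1009 1 1009 0,
   .sylow 0 101 1 10,
   .pq 3 1 337 1,
   .sylow 0 23 1 44,
   .pq 1013 1 1013 0,
   .sylow 0 13 2 6,
   .sylow 0 29 1 35,
   .pq 2 3 127 1,
   .pq 3 2 113 1,
   .pq 2 1 509 1,
   .pq 1019 1 1019 0,
   .sylow 0 17 1 60,
   .pq 1021 1 1021 0,
   .sylow 0 73 1 14,
   .sylow 0 31 1 33,
   .pq 2 10 2 0,
   .pq 5 2 41 1,
   .sylow 19 3 3 38,
   .pq 13 1 79 1,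
   .pq 2 2 257 1,
   .pq 3 1 7 3,
   .sylow 0 103 1 10,
   .pq 1031 1 1031 0,
   .sylow 0 43 1 24,
   .pq 1033 1 1033 0,
   .sylow 0 47 1 22,
   .sylow 0 23 1 45,
   .sylow 0 37 1 28,
   .pq 17 1 61 1,
   .sylow 0 173 1 6,
   .pq 1039 1 1039 0,
   .block 13 [5, 13],
   .pq 3 1 347 1,
   .pq 2 1 521 1,
   .pq 7 1 149 1,
   .sylow 0 29 1 36,
   .sylow 0 19 1 55,
   .pq 2 1 523 1,
   .pq 3 1 349 1,
   .pq 2 3 131 1,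
   .pq 1049 1 1049 0,
   .sylow 0 5 2 42,
   .pq 1051 1 1051 0,
   .pq 2 2 263 1,
   .pq 3 4 13 1,
   .sylow 0 31 1 34,
   .pq 5 1 211 1,
   .sylow 11 11 1 96,
   .pq 7 1 151 1,
   .pq 2 1 23 2,
   .pq 3 1 353 1,
   .sylow 0 53 1 20,
   .pq 1061 1 1061 0,
   .sylow 0 59 1 18,
   .pq 1063 1 1063 0,
   .sylow 0 19 1 56,
   .sylow 0 71 1 15,
   .sylow 0 41 1 26,
   .pq 11 1 97 1,
   .sylow 0 89 1 12,
   .pq 1069 1 1069 0,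
   .sylow 0 107 1 10,
   .sylow 0 17 1 63,
   .pq 2 4 67 1,
   .pq 29 1 37 1,
   .sylow 0 179 1 6,
   .pq 5 2 43 1,
   .pq 2 2 269 1,
   .pq 3 1 359 1,
   .sylow 0 7 2 22,
   .pq 13 1 83 1,
   .other,
   .pq 23 1 47 1,
   .pq 2 1 541 1,
   .pq 3 1 19 2,
   .pq 2 2 271 1,
   .sylow 0 31 1 35,
   .sylow 0 181 1 6,
   .pq 1087 1 1087 0,
   .pq 2 6 17 1,
   .pq 3 2 11 2,
   .sylow 0 109 1 10,
   .pq 1091 1 1091 0,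
   .other]

theorem certs5_ok : checkFrom 912 certs5 = true := by decide +kernel

universe u

theorem mem_special {G : Type u} [Group G] [Finite G] [IsSimpleGroup G] (hG : ¬ IsMulCommutative G) {c : Cert}
    (h : checkSmall (Nat.card G) c = true) (hn : Nat.card G ≤ 1092) : Nat.card G ∈ special := by
  cases c with
  | other => exact List.contains_iff_mem.mp h
  | _ =>
    simp only [checkSmall] at h
    have h' := Range3640.mem_special hG h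
    simp only [Range3640.special, List.mem_cons, List.not_mem_nil, or_false] at h'
    omega

theorem exists_cert : ∀ (L : List Cert) (a : ℕ), checkFrom a L = true →
    ∀ n, a ≤ n → n < a + L.length → ∃ c, checkSmall n c = true
  | [], a, _, n, h1, h2 => by simp at h2; omega
  | c :: cs, a, h, n, h1, h2 => by
    simp only [checkFrom, Bool.and_eq_true] at h
    rcases Nat.eq_or_lt_of_le h1 with rfl | h1
    · exact ⟨c, h.1⟩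
    · exact exists_cert cs (a + 1) h.2 n h1 (by simp at h2; omega)

end CfsgLib.BrauerTuan.Range1092
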