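import Cfsg.Agent.Lib.BrauerTuan.Orders
import Cfsg.Agent.Lib.SmallOrder.ExcludeIndex

/-!
# There is no simple group of order 1080

An element of order 15 cannot act on the ten cosets of a subgroup of order 108.
-/

set_option autoImplicit false
set_option linter.style.haveILetI false

namespace CfsgLib.BrauerTuan

universe u

variable {G : Type u} [Group G]

/-- A commuting element of order 3 acts trivially if an element of order 5 acts without fixed points
on ten points. -/
theorem smul_eq_of_five_three {α : Type*} [MulAction G α] [Finite α] (hα : Nat.card α = 10) {v y : G}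
    (hv : orderOf v = 5) (hy : orderOf y = 3) (hvy : Commute v y) (hfree : ∀ x : α, v • x ≠ x) (x : α) :
    y • x = x := by
  haveI : Fact (Nat.Prime 5) := ⟨by norm_num⟩
  haveI : Fact (Nat.Prime 3) := ⟨by norm_num⟩
  set F : Set α := MulAction.fixedPoints (Subgroup.zpowers y) α
  have hmemF : ∀ z : α, z ∈ MulAction.fixedPoints (Subgroup.zpowers y) α ↔ y • z = z := fun z => by
    refine ⟨fun h => h ⟨y, Subgroup.mem_zpowers y⟩, fun h g => ?_⟩
    obtain ⟨i, hi⟩ := Subgroup.mem_zpowers_iff.mp g.2
    show (g : G) • z = z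
    rw [← hi]
    exact (MulAction.mem_stabilizer_iff (a := z)).mp
      (Subgroup.zpow_mem _ (MulAction.mem_stabilizer_iff.mpr h) i)
  have h3 : 10 ≡ Nat.card F [MOD 3] := hα ▸ (IsPGroup.of_card (p := 3) (n := 1)
    (by rw [Nat.card_zpowers, hy, pow_one])).card_modEq_card_fixedPoints α
  letI : MulAction (Subgroup.zpowers v) F :=
    { smul := fun g z => ⟨(g : G) • (z : α), (hmemF _).mpr (by
        obtain ⟨i, hi⟩ := Subgroup.mem_zpowers_iff.mp g.2
        rw [smul_smul, ← hi, ← (hvy.zpow_left i).eq, ← smul_smul, (hmemF _).mp z.2])⟩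
      one_smul := fun z => Subtype.ext (one_smul G (z : α))
      mul_smul := fun g g' z => Subtype.ext (mul_smul (g : G) g' (z : α)) }
  have h5 : Nat.card F ≡ Nat.card (MulAction.fixedPoints (Subgroup.zpowers v) F) [MOD 5] :=
    (IsPGroup.of_card (p := 5) (n := 1) (by rw [Nat.card_zpowers, hv, pow_one])).card_modEq_card_fixedPoints F
  have h0 : IsEmpty (MulAction.fixedPoints (Subgroup.zpowers v) F) :=
    ⟨fun z => hfree _ (congrArg Subtype.val (z.2 ⟨v, Subgroup.mem_zpowers v⟩))⟩
  rw [Nat.card_of_isEmpty (α := MulAction.fixedPoints (Subgroup.zpowers v) F)] at h5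
  have hle : Nat.card F ≤ 10 := hα ▸ Nat.card_le_card_of_injective _ Subtype.val_injective
  rw [Nat.ModEq] at h3 h5
  have h10 : Nat.card F = 10 := by omega
  have hbij : Function.Bijective (Subtype.val : F → α) :=
    Nat.bijective_iff_injective_and_card _ |>.mpr ⟨Subtype.val_injective, by rw [h10, hα]⟩
  obtain ⟨z, rfl⟩ := hbij.2 x
  exact (hmemF _).mp z.2

theorem false_1080 [Finite G] [IsSimpleGroup G] (hn : Nat.card G = 1080) : False := by
  letI : Fintype G := Fintype.ofFinite G
  haveI : Fact (Nat.Prime 5) := ⟨by norm_num⟩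
  haveI : Fact (Nat.Prime 3) := ⟨by norm_num⟩
  have hcomm : ¬ IsMulCommutative G := SmallOrder.not_comm_of_not_prime (by rw [hn]; norm_num)
  obtain ⟨k, T, hm⟩ := exists_ctx_of_orderBad hn 5 [5] 32 [(36, 2, 3)] (by norm_num) (by norm_num)
    (by norm_num) (by norm_num) (by norm_num) (by simp <;> norm_num) (by decide +kernel)
  simp only [List.mem_singleton, Prod.mk.injEq] at hm
  obtain ⟨-, -, rfl⟩ := hm
  obtain ⟨y, hy⟩ := exists_prime_orderOf_dvd_card'
    (G := Subgroup.centralizer ((T.P : Subgroup G) : Set G)) 3 (by rw [T.card_C]; norm_num)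
  obtain ⟨v, hv⟩ := exists_prime_orderOf_dvd_card' (G := (T.P : Subgroup G)) 5 (by rw [T.card_P])
  have hyo : orderOf (y : G) = 3 := by rw [Subgroup.orderOf_coe]; exact hy
  have hvo : orderOf (v : G) = 5 := by rw [Subgroup.orderOf_coe]; exact hv
  have hvy : Commute (v : G) (y : G) := Subgroup.mem_centralizer_iff.mp y.2 v v.2
  obtain ⟨H, hH, hidx⟩ := SmallOrder.exists_index_of_excludedExcept hcomm 5 3 3 40 (Or.inr (by norm_num))
    (by norm_num) (by rw [hn]; norm_num) (by norm_num) (L := [10]) (by rw [hn]; decide +kernel)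
  rw [List.mem_singleton] at hidx
  have hHc : Nat.card H = 108 := by
    have := H.card_mul_index
    rw [hidx, hn] at this
    omega
  have hfree : ∀ x : G ⧸ H, (v : G) • x ≠ x := by
    intro x hx
    induction x using QuotientGroup.induction_on with
    | _ g =>
      have h : g⁻¹ * (v : G) * g ∈ H := by
        rw [MulAction.Quotient.smul_mk, QuotientGroup.eq, smul_eq_mul, mul_inv_rev] at hx
        simpa [mul_assoc] using inv_mem hx
      have h' := orderOf_dvd_natCard (⟨_, h⟩ : H)
      have e : g⁻¹ * (v : G) * g = MulAut.conj g⁻¹ (v : G) := by simp [MulAut.conj_apply]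
      rw [Subgroup.orderOf_mk, e, MulEquiv.orderOf_eq, hvo, hHc] at h'
      norm_num at h'
  have hfix : ∀ x : G ⧸ H, (y : G) • x = x :=
    smul_eq_of_five_three (by rw [← Subgroup.index_eq_card, hidx]) hvo hyo hvy hfree
  have hker : (y : G) ∈ H.normalCore := by
    rw [Subgroup.normalCore_eq_ker, MonoidHom.mem_ker]
    exact Equiv.ext fun x => hfix x
  rcases (inferInstance : H.normalCore.Normal).eq_bot_or_eq_top with h | h
  · rw [h, Subgroup.mem_bot] at hker
    rw [hker, orderOf_one] at hyo
    omega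
  · exact hH (top_le_iff.mp (h ▸ H.normalCore_le))

end CfsgLib.BrauerTuan
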