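import Cfsg.Agent.Lib.BrauerTuan.Count
import Cfsg.Agent.Lib.Classical.Card
import Cfsg.Agent.Lib.Char.Virtual

/-!
# Brauer and Tuan: simple groups of order `p q^b g₀` with `g₀ < p - 1`
-/

set_option autoImplicit false
set_option linter.unusedSectionVars false
set_option linter.style.haveILetI false

namespace CfsgLib.BrauerTuan

open Cfsg
open scoped ComplexConjugate CfsgLib.Char
open CfsgLib
open scoped _root_.Classical

universe u

variable {G : Type u} [Group G] [Fintype G] {p q b g₀ : ℕ} [Fact p.Prime]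

/-- The hypotheses with a Sylow subgroup and the data of the principal block. -/
structure Ctx (G : Type u) [Group G] [Fintype G] (p q b g₀ : ℕ) [Fact p.Prime] where
  simple : IsSimpleGroup G
  noncyclic : ¬ IsCyclic G
  hq : q.Prime
  hpq : p ≠ q
  card_eq : Nat.card G = p * q ^ b * g₀
  small : g₀ < p - 1
  P : Sylow p G
  card_P : Nat.card (P : Subgroup G) = p
  D : Data P

theorem nonempty_ctx [IsSimpleGroup G] (hG : ¬ IsCyclic G) (hq : q.Prime) (hpq : p ≠ q)
    (hcard : Nat.card G = p * q ^ b * g₀) (hg : g₀ < p - 1) : Nonempty (Ctx G p q b g₀) := by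
  have hp : p.Prime := Fact.out
  have hg0 : 0 < g₀ := Nat.pos_of_ne_zero fun h => Nat.card_pos.ne' (hcard.trans (by rw [h, mul_zero]))
  have hnd : ¬ p ∣ q ^ b * g₀ := fun h => by
    rcases hp.dvd_mul.mp h with h | h
    · exact hpq ((Nat.prime_dvd_prime_iff_eq hp hq).mp (hp.dvd_of_dvd_pow h))
    · have := Nat.le_of_dvd hg0 h; omega
  obtain ⟨P⟩ := (inferInstance : Nonempty (Sylow p G))
  have hP : Nat.card (P : Subgroup G) = p := by
    rw [P.card_eq_multiplicity, hcard, mul_assoc,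
      Nat.factorization_mul hp.ne_zero (fun h => hnd (by rw [h]; exact dvd_zero _)), Finsupp.add_apply,
      hp.factorization_self, Nat.factorization_eq_zero_of_not_dvd hnd, add_zero, pow_one]
  obtain ⟨D⟩ := nonempty_data hG P hP
  exact ⟨⟨inferInstance, hG, hq, hpq, hcard, hg, P, hP, D⟩⟩

/-- Degrees `2^i d ≤ (E + 1)^2` congruent to `±1` modulo `p = 2 E + 1`, with `d ∣ E + 1`. -/
theorem degree_cases {p a E i d x : ℕ} {δ : ℤ} (hE : E = 2 ^ a) (ha : 2 ≤ a) (hp : p = 2 * E + 1)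
    (hi : 1 ≤ i) (hx : x = 2 ^ i * d) (hd : d ∣ E + 1) (hgt : 1 < x) (hsq : x ≤ (E + 1) * (E + 1))
    (hδ : δ = 1 ∨ δ = -1) (hmod : (p : ℤ) ∣ (x : ℤ) - δ) :
    (δ = -1 ∧ x + 1 = p) ∨ (δ = 1 ∧ x = p + 1) := by
  have hE4 : 4 ≤ E := by
    rw [hE]
    calc (4 : ℕ) = 2 ^ 2 := by norm_num
      _ ≤ _ := Nat.pow_le_pow_right (by norm_num) ha
  have hp3 : (p : ℤ) = 2 * E + 1 := by exact_mod_cast hp
  rcases Nat.lt_or_ge a i with hia | hia
  · left
    obtain ⟨k, hk⟩ := hmod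
    have hk0 : 0 < k := by
      by_contra h
      have := mul_nonpos_of_nonneg_of_nonpos (show (0 : ℤ) ≤ p by positivity) (not_lt.mp h)
      rcases hδ with e | e <;> omega
    have hkle : k ≤ E := by
      by_contra h
      have h1 : (p : ℤ) * ((E : ℤ) + 1) ≤ p * k := mul_le_mul_of_nonneg_left (by omega) (by positivity)
      have h2 : (x : ℤ) ≤ ((E : ℤ) + 1) * ((E : ℤ) + 1) := by exact_mod_cast hsq
      have h4 : (4 : ℤ) * ((E : ℤ) + 1) ≤ (E : ℤ) * ((E : ℤ) + 1) :=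
        mul_le_mul_of_nonneg_right (by exact_mod_cast hE4) (by positivity)
      have h5 : (p : ℤ) * ((E : ℤ) + 1) = ((E : ℤ) + 1) * ((E : ℤ) + 1) + (E : ℤ) * ((E : ℤ) + 1) := by
        rw [hp3]; ring
      rcases hδ with e | e <;> omega
    have h2E : ((2 * E : ℕ) : ℤ) ∣ k + δ := by
      have h1 : ((2 * E : ℕ) : ℤ) ∣ (x : ℤ) := by
        refine Int.natCast_dvd_natCast.mpr (hx ▸ Dvd.dvd.mul_right ?_ d)
        rw [hE, ← pow_succ']
        exact pow_dvd_pow 2 (by omega)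
      have h2 : k + δ = (x : ℤ) - ((2 * E : ℕ) : ℤ) * k := by
        rw [hp3] at hk
        push_cast
        linear_combination -hk
      rw [h2]
      exact dvd_sub h1 (dvd_mul_right _ _)
    have h0 := Int.eq_zero_of_abs_lt_dvd h2E (by
      rw [abs_lt]; rcases hδ with e | e <;> constructor <;> omega)
    have hd1 : δ = -1 := hδ.resolve_left fun e => by omega
    refine ⟨hd1, ?_⟩
    rw [show k = 1 by omega, hd1, mul_one] at hk
    omega
  · right
    obtain ⟨f, hf⟩ := hd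
    obtain ⟨i', rfl⟩ : ∃ i', i = i' + 1 := ⟨i - 1, by omega⟩
    have hi2 : 2 * 2 ^ i' ≤ E := by
      rw [hE, ← pow_succ']; exact Nat.pow_le_pow_right (by norm_num) hia
    have hfle : f ≤ E + 1 := Nat.le_of_dvd (by omega) ⟨d, hf.trans (mul_comm _ _)⟩
    have hxf : (x : ℤ) * f = ((2 ^ i' : ℕ) : ℤ) * ((p : ℤ) + 1) := by
      have h1 : (p : ℤ) + 1 = 2 * ((E + 1 : ℕ) : ℤ) := by rw [hp3]; push_cast; ring
      rw [h1, hx, hf]
      push_cast
      ring
    have hdiv : (p : ℤ) ∣ ((2 ^ i' : ℕ) : ℤ) - δ * f := by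
      have h1 : ((2 ^ i' : ℕ) : ℤ) - δ * f =
          ((x : ℤ) - δ) * f - p * ((2 ^ i' : ℕ) : ℤ) := by linear_combination -hxf
      rw [h1]
      exact dvd_sub (hmod.mul_right _) (dvd_mul_right _ _)
    have h0 := Int.eq_zero_of_abs_lt_dvd hdiv (by
      rw [abs_lt]; rcases hδ with e | e <;> rw [e] <;> constructor <;> omega)
    have hpos : 0 < 2 ^ i' := by positivity
    have hd1 : δ = 1 := hδ.resolve_right fun e => by rw [e] at h0; omega
    refine ⟨hd1, ?_⟩
    rw [hd1, one_mul] at h0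
    have hf1 : f = 2 ^ i' := by omega
    have hi0 : i' = 0 := by
      by_contra h
      have hdvd : 2 ∣ E + 1 := hf ▸ (hf1 ▸ dvd_pow_self 2 h : 2 ∣ f).mul_left d
      have : 2 ∣ E := hE ▸ dvd_pow_self 2 (by omega)
      omega
    subst hi0
    rw [pow_zero] at hf1
    rw [hf1, mul_one] at hf
    omega

/-- The bound on the power of 2 gives at most `p + 1` Sylow subgroups. -/
theorem n_le_one {b a E k n : ℕ} (hE : E = 2 ^ a) (ha : 2 ≤ a) (hk : k + 1 ≤ E)
    (hbound : 2 ^ b * (2 * E + 1 + 1) ≤ (E + 1 + 1) * (2 * E + 1 + 1) + 4 * (E + 1) * k)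
    (heq : E * (1 + n * (2 * E + 1)) = 2 ^ b * (E + 1)) : n ≤ 1 := by
  have hE4 : 4 ≤ E := by
    rw [hE]
    calc (4 : ℕ) = 2 ^ 2 := by norm_num
      _ ≤ _ := Nat.pow_le_pow_right (by norm_num) ha
  have hb3 : 2 ^ b < 4 * E := by
    have h1 : 2 ^ b * (2 * (E + 1)) ≤ (E + 2 + 2 * k) * (2 * (E + 1)) := by
      calc 2 ^ b * (2 * (E + 1)) = 2 ^ b * (2 * E + 1 + 1) := by ring
        _ ≤ (E + 1 + 1) * (2 * E + 1 + 1) + 4 * (E + 1) * k := hbound
        _ = _ := by ring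
    have := Nat.le_of_mul_le_mul_right h1 (by omega)
    omega
  have hb' : b ≤ a + 1 := by
    have h : 2 ^ b < 2 ^ (a + 2) := by rw [show 2 ^ (a + 2) = 4 * E by rw [hE]; ring]; exact hb3
    have := (Nat.pow_lt_pow_iff_right (by norm_num)).mp h
    omega
  have h1 : E * (1 + n * (2 * E + 1)) ≤ E * (2 * (E + 1)) := by
    rw [heq]
    calc 2 ^ b * (E + 1) ≤ 2 ^ (a + 1) * (E + 1) :=
          Nat.mul_le_mul_right _ (Nat.pow_le_pow_right (by norm_num) hb')
      _ = E * (2 * (E + 1)) := by rw [hE]; ring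
  have h2 := Nat.le_of_mul_le_mul_left h1 (by omega)
  by_contra h
  have := Nat.mul_le_mul_right (2 * E + 1) (show 2 ≤ n by omega)
  omega

namespace Ctx

variable (T : Ctx G p q b g₀)
include T

theorem noncomm : ¬ IsMulCommutative G :=
  haveI := T.simple
  BrauerReynolds.not_comm_of_not_cyclic' T.noncyclic

theorem g_pos : 0 < g₀ :=
  Nat.pos_of_ne_zero fun h => Nat.card_pos.ne' (T.card_eq.trans (by rw [h, mul_zero]))

theorem e_lt : T.D.e < p := by
  have h := T.D.het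
  have := Nat.le_mul_of_pos_right T.D.e T.D.one_le_t
  omega

/-- A divisor of `e (1 + n p)` prime to `q` divides `g₀`. -/
theorem dvd_g₀ {x : ℕ} (hx : x ∣ T.D.e * (1 + T.D.n * p)) (hq : ¬ q ∣ x) : x ∣ g₀ := by
  have hp : p.Prime := Fact.out
  have hpC : p ∣ Nat.card (Subgroup.centralizer ((T.P : Subgroup G) : Set G)) := by
    haveI : IsCyclic (T.P : Subgroup G) := isCyclic_of_prime_card T.card_P
    have hle : (T.P : Subgroup G) ≤ Subgroup.centralizer ((T.P : Subgroup G) : Set G) := fun a ha =>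
      Subgroup.mem_centralizer_iff.mpr fun c hc =>
        congrArg Subtype.val ((IsCyclic.commGroup (α := (T.P : Subgroup G))).mul_comm ⟨c, hc⟩ ⟨a, ha⟩)
    have := Subgroup.card_dvd_of_le hle
    rwa [T.card_P] at this
  obtain ⟨c, hc⟩ := hpC
  have h := T.D.card_G.symm.trans T.card_eq
  rw [hc] at h
  have h' : T.D.e * (1 + T.D.n * p) * c = q ^ b * g₀ :=
    Nat.eq_of_mul_eq_mul_left hp.pos (by linarith)
  refine Nat.Coprime.dvd_of_dvd_mul_left ?_ (h' ▸ Dvd.dvd.mul_right hx c)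
  exact ((T.hq.coprime_iff_not_dvd.mpr hq).pow_left b).symm

theorem deg_le {x : ℕ} (hx : x ∣ T.D.e * (1 + T.D.n * p)) (hq : ¬ q ∣ x) : x + 2 ≤ p := by
  have := Nat.le_of_dvd T.g_pos (T.dvd_g₀ hx hq)
  have := T.small
  omega

/-- Every non-trivial rational character of the principal block has degree divisible by `q`. -/
theorem q_dvd {χ : IrrCharacter G} (hχ : χ ∈ T.D.X) (hne : χ ≠ Blocks.trivIrr G) :
    q ∣ charDegree (χ : G → ℂ) := by
  haveI := T.simple
  by_contra hq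
  have h2 := BrauerReynolds.one_lt_degree_of_simple T.noncomm hne
  have hle := T.deg_le (T.D.dvdX χ hχ) hq
  have hmod := Int.modEq_iff_dvd.mp (T.D.degX χ hχ)
  rcases T.D.hδ χ hχ with h | h <;> rw [h] at hmod
  · have := Int.eq_zero_of_abs_lt_dvd hmod (by rw [abs_lt]; constructor <;> omega)
    omega
  · have := Int.eq_zero_of_abs_lt_dvd hmod (by rw [abs_lt]; constructor <;> omega)
    omega

theorem rel_degree {ψ : IrrCharacter G} (hψ : ψ ∈ T.D.Y) :
    T.D.ε * (charDegree (ψ : G → ℂ) : ℤ) = ∑ χ ∈ T.D.X, T.D.δ χ * (charDegree (χ : G → ℂ) : ℤ) := by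
  have h := T.D.rel ψ hψ 1 (orderOf_one (G := G) ▸ (Fact.out : p.Prime).not_dvd_one)
  simp only [BrauerReynolds.value_one] at h
  exact_mod_cast h

theorem triv_mem : Blocks.trivIrr G ∈ T.D.X := by
  haveI := T.simple
  rcases Finset.mem_union.mp T.D.triv with h | h
  · exact h
  exfalso
  have hrel := T.rel_degree h
  rw [BrauerReynolds.degree_triv, Nat.cast_one, mul_one] at hrel
  have hdvd : (q : ℤ) ∣ T.D.ε := hrel ▸ Finset.dvd_sum fun χ hχ =>
    (Int.natCast_dvd_natCast.mpr (T.q_dvd hχ fun e => Finset.disjoint_left.mp T.D.disj (e ▸ hχ) h)).mul_left _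
  have h1 : (q : ℤ) ∣ 1 := by
    rcases T.D.hε with e | e <;> rw [e] at hdvd
    · exact hdvd
    · exact dvd_neg.mp hdvd
  exact T.hq.not_dvd_one (Int.natCast_dvd_natCast.mp (by exact_mod_cast h1))

theorem delta_triv : T.D.δ (Blocks.trivIrr G) = 1 := by
  haveI := T.simple
  have hp : p.Prime := Fact.out
  obtain ⟨v, hv, hv1⟩ : ∃ v, v ∈ (T.P : Subgroup G) ∧ v ≠ 1 := by
    rcases (T.P : Subgroup G).bot_or_exists_ne_one with h | h
    · have := T.card_P
      rw [h, Subgroup.card_bot] at this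
      exact absurd this hp.one_lt.ne
    · exact h
  have h := T.D.valX _ T.triv_mem v hv hv1 1 (one_mem _) (orderOf_one (G := G) ▸ hp.not_dvd_one)
  have h' : ((1 : ℤ) : ℂ) = (T.D.δ (Blocks.trivIrr G) : ℂ) := by
    rw [← h]; simp [Blocks.trivIrr]
  exact (Int.cast_injective h').symm

/-- The exceptional relation with the trivial character split off. -/
theorem rel_split {ψ : IrrCharacter G} (hψ : ψ ∈ T.D.Y) :
    T.D.ε * (charDegree (ψ : G → ℂ) : ℤ) = 1 +
      ∑ χ ∈ T.D.X.erase (Blocks.trivIrr G), T.D.δ χ * (charDegree (χ : G → ℂ) : ℤ) := by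
  rw [T.rel_degree hψ, ← Finset.add_sum_erase _ _ T.triv_mem, T.delta_triv, BrauerReynolds.degree_triv]
  simp

theorem q_dvd_rel {ψ : IrrCharacter G} (hψ : ψ ∈ T.D.Y) :
    (q : ℤ) ∣ T.D.ε * (charDegree (ψ : G → ℂ) : ℤ) - 1 := by
  rw [T.rel_split hψ, add_sub_cancel_left]
  exact Finset.dvd_sum fun χ hχ => (Int.natCast_dvd_natCast.mpr
    (T.q_dvd (Finset.mem_of_mem_erase hχ) (Finset.ne_of_mem_erase hχ))).mul_left _

theorem degY_props {ψ : IrrCharacter G} (hψ : ψ ∈ T.D.Y) :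
    charDegree (ψ : G → ℂ) ∣ g₀ ∧ 2 ≤ charDegree (ψ : G → ℂ) ∧ charDegree (ψ : G → ℂ) + 2 ≤ p ∧
      ψ ≠ Blocks.trivIrr G := by
  haveI := T.simple
  have hne : ψ ≠ Blocks.trivIrr G := fun h => Finset.disjoint_left.mp T.D.disj T.triv_mem (h ▸ hψ)
  have hq : ¬ q ∣ charDegree (ψ : G → ℂ) := fun h => by
    have h1 := (dvd_sub_right ((Int.natCast_dvd_natCast.mpr h).mul_left _)).mp (T.q_dvd_rel hψ)
    exact T.hq.not_dvd_one (Int.natCast_dvd_natCast.mp (by exact_mod_cast h1))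
  exact ⟨T.dvd_g₀ (T.D.dvdY ψ hψ) hq, BrauerReynolds.one_lt_degree_of_simple T.noncomm hne,
    T.deg_le (T.D.dvdY ψ hψ) hq, hne⟩

theorem two_le_t : 2 ≤ T.D.t := by
  rcases Nat.lt_or_ge T.D.t 2 with ht | ht
  swap
  · exact ht
  exfalso
  have ht1 : T.D.t = 1 := by have := T.D.one_le_t; omega
  obtain ⟨ψ, hψ⟩ : T.D.Y.Nonempty := Finset.card_pos.mp (by rw [T.D.card_Y]; omega)
  obtain ⟨-, h2, hle, -⟩ := T.degY_props hψ
  have hep := T.D.het
  rw [ht1, mul_one] at hep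
  have hmod := Int.modEq_iff_dvd.mp (T.D.degY ψ hψ)
  rcases T.D.hε with h | h <;> rw [h] at hmod
  · have := Int.eq_zero_of_abs_lt_dvd hmod (by rw [abs_lt]; constructor <;> omega)
    omega
  · have h' : (p : ℤ) ∣ -1 * (T.D.e : ℤ) - (charDegree (ψ : G → ℂ) : ℤ) + p := dvd_add hmod dvd_rfl
    have := Int.eq_zero_of_abs_lt_dvd h' (by rw [abs_lt]; constructor <;> omega)
    omega

theorem two_e_lt : 2 * T.D.e < p := by
  have h := T.D.het
  have := Nat.mul_le_mul_left T.D.e T.two_le_t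
  omega

/-- `ε = 1` gives `PSL(2, p)`. -/
theorem of_pos (hε : T.D.ε = 1) :
    q = 2 ∧ p + 1 = 2 ^ b ∧ Nonempty (G ≃* Matrix.ProjectiveSpecialLinearGroup (Fin 2) (ZMod p)) := by
  haveI := T.simple
  have hp : p.Prime := Fact.out
  obtain ⟨ψ, hψ⟩ : T.D.Y.Nonempty := Finset.card_pos.mp (by rw [T.D.card_Y]; exact T.D.one_le_t)
  obtain ⟨hzg, hz2, hzle, hne⟩ := T.degY_props hψ
  set z := charDegree (ψ : G → ℂ) with hz
  have hze : z = T.D.e := by
    have h := T.D.degY ψ hψ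
    rw [hε, one_mul, Int.natCast_modEq_iff, Nat.ModEq, Nat.mod_eq_of_lt (by omega),
      Nat.mod_eq_of_lt T.e_lt] at h
    exact h
  have hdvdG : p ∣ Nat.card G := T.card_eq ▸ Dvd.dvd.mul_right (dvd_mul_right _ _) _
  have hsq : ¬ p ^ 2 ∣ Nat.card G := fun h => by
    rw [T.card_eq, pow_two, mul_assoc] at h
    have h' := Nat.dvd_of_mul_dvd_mul_left hp.pos h
    rcases hp.dvd_mul.mp h' with h | h
    · exact T.hpq ((Nat.prime_dvd_prime_iff_eq hp T.hq).mp (hp.dvd_of_dvd_pow h))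
    · have := Nat.le_of_dvd T.g_pos h
      have := T.small
      omega
  have hnn : ∀ K : Subgroup G, K.Normal → Nat.card K ≠ p := fun K hK hc => by
    rcases hK.eq_bot_or_eq_top with h | h
    · rw [h, Subgroup.card_bot] at hc
      exact hp.one_lt.ne hc
    · rw [h, Subgroup.card_top] at hc
      exact T.noncyclic (isCyclic_of_prime_card hc)
  have hchar := Char.isCharacter_of_isIrr ψ.2
  have hfaith : ∀ g, (ψ : G → ℂ) g = (ψ : G → ℂ) 1 → g = 1 := fun g hg => BrauerReynolds.faithful_of_simple hne hg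
  have hle := Cfsg.Agent.S4503.result p hp hdvdG hsq hnn _ hchar hfaith
  have h2e := T.two_e_lt
  obtain ⟨φ⟩ := Cfsg.Agent.S4504.result p hp hdvdG hsq hnn _ hchar hfaith (by omega)
  have hZ : Subgroup.center G = ⊥ := by
    rcases (inferInstance : (Subgroup.center G).Normal).eq_bot_or_eq_top with h | h
    · exact h
    · exact absurd ⟨⟨fun a c => (Subgroup.mem_center_iff.mp (h ▸ Subgroup.mem_top c)) a⟩⟩ T.noncomm
  have iso := ((QuotientGroup.quotientBot (G := G)).symm.trans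
    (QuotientGroup.quotientMulEquivOfEq hZ.symm)).trans φ
  -- the order
  have hg : g₀ = z := by
    obtain ⟨k, hk⟩ := hzg
    have := T.g_pos
    have := T.small
    rcases k with _ | _ | k
    · omega
    · omega
    · have : z * 2 ≤ z * (k + 1 + 1) := Nat.mul_le_mul_left _ (by omega)
      omega
  have hp2z : p = 2 * z + 1 := by omega
  have hc := Classical.card_PSL_two (F := ZMod p)
  have hgcd : Nat.gcd 2 (p - 1) = 2 := Nat.gcd_eq_left ⟨z, by omega⟩
  rw [← Nat.card_congr iso.toEquiv, T.card_eq, ZMod.card, hgcd, hg] at hc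
  have hqb : q ^ b = p + 1 := by
    have h1 : p ^ 2 - 1 = (2 * z) * (p + 1) := by
      rw [show p ^ 2 - 1 = p ^ 2 - 1 ^ 2 by ring, Nat.sq_sub_sq, mul_comm]
      congr 1
      omega
    rw [h1] at hc
    exact Nat.eq_of_mul_eq_mul_left (show 0 < 2 * p * z from Nat.mul_pos (Nat.mul_pos two_pos hp.pos) (by omega)) (by linarith)
  have hq2 : q = 2 := by
    have h2 : 2 ∣ q ^ b := hqb ▸ ⟨z + 1, by omega⟩
    exact ((Nat.prime_dvd_prime_iff_eq Nat.prime_two T.hq).mp (Nat.prime_two.dvd_of_dvd_pow h2)).symm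
  exact ⟨hq2, hq2 ▸ hqb.symm, ⟨iso⟩⟩

/-- For `ε = -1` the Sylow subgroup is its own centralizer, `q = 2` and `e` is a power of `2`. -/
theorem of_neg (hε : T.D.ε = -1) :
    Subgroup.centralizer ((T.P : Subgroup G) : Set G) = (T.P : Subgroup G) ∧ q = 2 ∧
      (∀ ψ ∈ T.D.Y, charDegree (ψ : G → ℂ) = g₀) ∧ g₀ + T.D.e = p ∧
      (∃ c, 1 ≤ c ∧ c ≤ b ∧ T.D.e = 2 ^ c) ∧ ¬ 2 ∣ g₀ ∧
      T.D.e * (1 + T.D.n * p) = q ^ b * g₀ := by
  haveI := T.simple
  have hp : p.Prime := Fact.out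
  obtain ⟨ψ, hψ⟩ : T.D.Y.Nonempty := Finset.card_pos.mp (by rw [T.D.card_Y]; exact T.D.one_le_t)
  obtain ⟨hzg, hz2, hzle, hne⟩ := T.degY_props hψ
  set z := charDegree (ψ : G → ℂ) with hz
  have hep := T.e_lt
  have he2 := T.D.two_le_e
  have hzp : z + T.D.e = p := by
    have h := Int.modEq_iff_dvd.mp (T.D.degY ψ hψ)
    rw [hε] at h
    have h' : (p : ℤ) ∣ -1 * (T.D.e : ℤ) - z + p := dvd_add h dvd_rfl
    have := Int.eq_zero_of_abs_lt_dvd h' (by rw [abs_lt]; constructor <;> omega)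
    omega
  have h2e := T.two_e_lt
  have hg : g₀ = z := by
    obtain ⟨k, hk⟩ := hzg
    have := T.g_pos
    have := T.small
    rcases k with _ | _ | k
    · omega
    · omega
    · have : z * 2 ≤ z * (k + 1 + 1) := Nat.mul_le_mul_left _ (by omega)
      omega
  obtain ⟨v, hv, hv1⟩ : ∃ v, v ∈ (T.P : Subgroup G) ∧ v ≠ 1 := by
    rcases (T.P : Subgroup G).bot_or_exists_ne_one with h | h
    · have := T.card_P
      rw [h, Subgroup.card_bot] at this
      exact absurd this hp.one_lt.ne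
    · exact h
  have hvo : orderOf v = p := by
    have h := orderOf_dvd_natCard (⟨v, hv⟩ : (T.P : Subgroup G))
    rw [T.card_P, Subgroup.orderOf_mk] at h
    exact ((Nat.dvd_prime hp).mp h).resolve_left fun h' => hv1 (orderOf_eq_one_iff.mp h')
  set C := Subgroup.centralizer ((T.P : Subgroup G) : Set G) with hCdef
  have hreg : ∀ y ∈ C, ¬ p ∣ orderOf y → y = 1 := fun y hy hyr => by
    refine BrauerReynolds.faithful_of_simple hne (value_eq_of_periodic (Char.isCharacter_of_isIrr ψ.2) hvo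
      (BrauerReynolds.value_one ψ) (by omega) fun i hi => ?_)
    refine T.D.valY ψ hψ (v ^ i) (Subgroup.pow_mem _ hv i) (fun h => hi ?_) y hy hyr
    rw [← hvo]
    exact orderOf_dvd_iff_pow_eq_one.mpr h
  have hsq : ¬ p * p ∣ Nat.card G := fun h => by
    rw [T.card_eq, mul_assoc] at h
    rcases hp.dvd_mul.mp (Nat.dvd_of_mul_dvd_mul_left hp.pos h) with h | h
    · exact T.hpq ((Nat.prime_dvd_prime_iff_eq hp T.hq).mp (hp.dvd_of_dvd_pow h))
    · have := Nat.le_of_dvd T.g_pos h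
      omega
  have hexp : IsPGroup p C := fun c => ⟨1, by
    refine Subtype.ext ?_
    rw [pow_one, Subgroup.coe_pow, Subgroup.coe_one]
    refine hreg _ (Subgroup.pow_mem _ c.2 p) fun h => hsq ?_
    have hd : orderOf ((c : G) ^ p) * p ∣ orderOf (c : G) := by
      have h1 : p ∣ orderOf (c : G) := h.trans (orderOf_pow_dvd p)
      rw [orderOf_pow' _ hp.ne_zero, Nat.gcd_eq_right h1, Nat.div_mul_cancel h1]
    exact (mul_dvd_mul_right h p).trans (hd.trans (orderOf_dvd_natCard _))⟩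
  have hC : C = (T.P : Subgroup G) := T.P.3 hexp fun a ha => by
    haveI : IsCyclic (T.P : Subgroup G) := isCyclic_of_prime_card T.card_P
    exact Subgroup.mem_centralizer_iff.mpr fun c hc =>
      congrArg Subtype.val ((IsCyclic.commGroup (α := (T.P : Subgroup G))).mul_comm ⟨c, hc⟩ ⟨a, ha⟩)
  have heq : T.D.e * (1 + T.D.n * p) = q ^ b * g₀ := by
    have h := T.D.card_G.symm.trans T.card_eq
    rw [← hCdef, hC, T.card_P] at h
    exact Nat.eq_of_mul_eq_mul_left hp.pos (by linarith)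
  have hcop : Nat.Coprime T.D.e g₀ := by
    refine (congrArg (Nat.gcd T.D.e) hg).trans (show Nat.Coprime T.D.e z from ?_)
    rw [← Nat.coprime_add_self_right, hzp]
    exact (hp.coprime_iff_not_dvd.mpr fun h => by
      have := Nat.le_of_dvd (by omega) h; omega).symm
  have hedvd : T.D.e ∣ q ^ b := hcop.dvd_of_dvd_mul_right (heq ▸ dvd_mul_right _ _)
  obtain ⟨c, hcb, hec⟩ := (Nat.dvd_prime_pow T.hq).mp hedvd
  have hc1 : 1 ≤ c := by
    rcases Nat.eq_zero_or_pos c with h | h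
    · rw [h, pow_zero] at hec; omega
    · exact h
  have hqe : q ∣ T.D.e := hec ▸ dvd_pow_self q (by omega)
  have hq2 : q = 2 := by
    have hr := T.q_dvd_rel hψ
    rw [hε] at hr
    have h1 : q ∣ z + 1 := Int.natCast_dvd_natCast.mp (by
      have := hr.neg_right
      push_cast at this ⊢
      simpa [neg_sub, add_comm] using this)
    have h2 : q ∣ p + 1 := by
      rw [show p + 1 = (z + 1) + T.D.e by omega]; exact dvd_add h1 hqe
    have h3 : q ∣ p - 1 := by
      rw [show p - 1 = T.D.e * T.D.t by have := T.D.het; omega]; exact hqe.mul_right _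
    have h4 : q ∣ 2 := by
      have := Nat.dvd_sub h2 h3
      rwa [show p + 1 - (p - 1) = 2 by omega] at this
    exact (Nat.prime_dvd_prime_iff_eq T.hq Nat.prime_two).mp h4
  subst hq2
  refine ⟨hC, rfl, fun ψ' hψ' => ?_, by omega, ⟨c, hc1, hcb, hec⟩, fun h => ?_, heq⟩
  · rw [hg, hz, T.D.degY_eq ψ' hψ' ψ hψ]
  · have h2 : ¬ Nat.Coprime T.D.e g₀ := Nat.not_coprime_of_dvd_of_dvd (by norm_num : 1 < 2) hqe h
    exact h2 hcop

/-- A rational character of the principal block occurs in a product of two exceptional ones. -/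
theorem deg_le_sq (hε : T.D.ε = -1)
    (hC : Subgroup.centralizer ((T.P : Subgroup G) : Set G) = (T.P : Subgroup G))
    {χ : IrrCharacter G} (hχ : χ ∈ T.D.X) {z : ℕ} (hz : ∀ ψ ∈ T.D.Y, charDegree (ψ : G → ℂ) = z) :
    charDegree (χ : G → ℂ) ≤ z * z := by
  haveI := T.simple
  have hp : p.Prime := Fact.out
  obtain ⟨ψ, hψ, ψ', hψ', hne⟩ := Finset.one_lt_card.mp (show 1 < T.D.Y.card by rw [T.D.card_Y]; exact T.two_le_t)
  have h1 := Char.isCharacter_mul (Char.isCharacter_of_isIrr ψ.2) (Char.isCharacter_conj (Char.isCharacter_of_isIrr ψ.2))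
  have h2 := Char.isCharacter_mul (Char.isCharacter_of_isIrr ψ.2) (Char.isCharacter_conj (Char.isCharacter_of_isIrr ψ'.2))
  set f₁ := fun g => (ψ : G → ℂ) g * conj ((ψ : G → ℂ) g) with hf1
  set f₂ := fun g => (ψ : G → ℂ) g * conj ((ψ' : G → ℂ) g) with hf2
  have hone : classInner (f₁ - f₂) (Blocks.trivIrr G : G → ℂ) = 1 := by
    have e1 : classInner f₁ (Blocks.trivIrr G : G → ℂ) = classInner (ψ : G → ℂ) (ψ : G → ℂ) := by
      simp [classInner, hf1, Blocks.trivIrr]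
    have e2 : classInner f₂ (Blocks.trivIrr G : G → ℂ) = classInner (ψ : G → ℂ) (ψ' : G → ℂ) := by
      simp [classInner, hf2, Blocks.trivIrr]
    rw [Char.classInner_sub_left, e1, e2, Char.classInner_coe, if_pos rfl, Char.classInner_coe,
      if_neg hne, sub_zero]
  have hval : ∀ g, p ∣ orderOf g → (χ : G → ℂ) g = T.D.δ χ := by
    intro g hg
    obtain ⟨m, hm⟩ := hg
    have hm0 : m ≠ 0 := fun h => by
      rw [h, mul_zero] at hm
      exact (orderOf_pos g).ne' hm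
    have hwo : orderOf (g ^ m) = p := by
      rw [orderOf_pow' _ hm0, hm, Nat.gcd_eq_right (dvd_mul_left m p), Nat.mul_div_cancel _ (by omega)]
    obtain ⟨Q, hQ⟩ := (IsPGroup.of_card (p := p) (n := 1)
      (show Nat.card (Subgroup.zpowers (g ^ m)) = p ^ 1 by rw [Nat.card_zpowers, hwo, pow_one])).exists_le_sylow
    obtain ⟨c, hc⟩ := MulAction.exists_smul_eq G Q T.P
    have hv : c * g ^ m * c⁻¹ ∈ (T.P : Subgroup G) := by
      rw [← hc, Sylow.coe_subgroup_smul]
      exact Subgroup.smul_mem_pointwise_smul _ (MulAut.conj c) _ (hQ (Subgroup.mem_zpowers _))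
    have hvo : orderOf (c * g ^ m * c⁻¹) = p := by
      rw [← MulAut.conj_apply, MulEquiv.orderOf_eq, hwo]
    have hz : Subgroup.zpowers (c * g ^ m * c⁻¹) = (T.P : Subgroup G) :=
      Subgroup.eq_of_le_of_card_ge (Subgroup.zpowers_le.mpr hv) (by rw [Nat.card_zpowers, hvo, T.card_P])
    have hgP : c * g * c⁻¹ ∈ (T.P : Subgroup G) := by
      rw [← hC]
      refine Subgroup.mem_centralizer_iff.mpr fun a ha => ?_
      rw [← hz] at ha
      obtain ⟨i, rfl⟩ := Subgroup.mem_zpowers_iff.mp ha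
      refine (Commute.zpow_left ?_ i).eq
      rw [← conj_pow]
      exact Commute.pow_self _ m
    have hg1 : c * g * c⁻¹ ≠ 1 := fun h => by
      rw [conj_eq_one_iff] at h
      rw [h, orderOf_one] at hm
      exact hp.one_lt.ne' (Nat.eq_one_of_mul_eq_one_right hm.symm)
    have h := T.D.valX χ hχ _ hgP hg1 1 (one_mem _) (orderOf_one (G := G) ▸ hp.not_dvd_one)
    rw [mul_one, Char.isClassFunction_of_isCharacter (Char.isCharacter_of_isIrr χ.2)] at h
    exact h
  have key : classInner (f₁ - f₂) (χ : G → ℂ) = (T.D.δ χ : ℂ) := by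
    have e : classInner (f₁ - f₂) (χ : G → ℂ) =
        (T.D.δ χ : ℂ) * classInner (f₁ - f₂) (Blocks.trivIrr G : G → ℂ) := by
      rw [classInner, classInner, mul_left_comm, Finset.mul_sum, Finset.mul_sum, Finset.mul_sum]
      refine Finset.sum_congr rfl fun g _ => ?_
      by_cases hg : p ∣ orderOf g
      · rw [hval g hg]
        simp [Blocks.trivIrr]
        ring
      · have heq := (T.D.rel ψ hψ g hg).trans (T.D.rel ψ' hψ' g hg).symm
        rw [hε] at heq
        have := mul_left_cancel₀ (by norm_num) heq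
        simp [hf1, hf2, this]
    rw [e, hone, mul_one]
  have hδ0 : (T.D.δ χ : ℂ) ≠ 0 := by
    rcases T.D.hδ χ hχ with h | h <;> simp [h]
  rw [Char.classInner_sub_left] at key
  have hd : ∀ φ : IrrCharacter G, φ ∈ T.D.Y → (ψ : G → ℂ) 1 * conj ((φ : G → ℂ) 1) = ((z * z : ℕ) : ℂ) := by
    intro φ hφ
    rw [BrauerReynolds.value_one, BrauerReynolds.value_one, hz ψ hψ, hz φ hφ, Complex.conj_natCast]
    push_cast; rfl
  by_cases h : classInner f₁ (χ : G → ℂ) = 0
  · refine degree_le_of_inner (φ := f₂) h2 ?_ (hd ψ' hψ')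
    intro h'
    rw [h, h', sub_zero] at key
    exact hδ0 key.symm
  · exact degree_le_of_inner (φ := f₁) h1 h (hd ψ hψ)

/-- For `ε = -1`: `p = 2^j + 1`, the degrees are `p ± 1` and the number of Sylow subgroups is small. -/
theorem small_n (hε : T.D.ε = -1) :
    (∃ j, p = 2 ^ j + 1) ∧ 2 * T.D.n ≤ p + 2 := by
  haveI := T.simple
  have hp : p.Prime := Fact.out
  obtain ⟨hC, rfl, hz, hzp, ⟨c, hc1, hcb, hec⟩, hzodd, heq⟩ := T.of_neg hε
  set X₀ := T.D.X.erase (Blocks.trivIrr G) with hX₀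
  have hX₀card : X₀.card + 1 = T.D.e := by
    rw [hX₀, Finset.card_erase_add_one T.triv_mem, T.D.card_X]
  obtain ⟨ψ, hψ⟩ : T.D.Y.Nonempty := Finset.card_pos.mp (by rw [T.D.card_Y]; exact T.D.one_le_t)
  have hrel := T.rel_split hψ
  rw [hε, hz ψ hψ, ← hX₀] at hrel
  have hz2 : 2 ≤ g₀ := by
    have := T.two_e_lt
    have := T.D.two_le_e
    omega
  -- the shape of the degrees
  have hshape : ∀ χ ∈ X₀, ∃ i d, 1 ≤ i ∧ d ∣ g₀ ∧ ¬ 2 ∣ d ∧ charDegree (χ : G → ℂ) = 2 ^ i * d := by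
    intro χ hχ
    obtain ⟨hne, hmem⟩ := Finset.mem_erase.mp hχ
    have h2 := T.q_dvd hmem hne
    have hdvd : charDegree (χ : G → ℂ) ∣ 2 ^ b * g₀ := heq ▸ T.D.dvdX χ hmem
    obtain ⟨i, d, hd, hx⟩ := Nat.exists_eq_pow_mul_and_not_dvd (Blocks.irr_degree_eq χ).2.ne' 2 (by norm_num)
    refine ⟨i, d, ?_, ?_, hd, hx⟩
    · rcases Nat.eq_zero_or_pos i with h | h
      · rw [h, pow_zero, one_mul] at hx
        exact absurd (hx ▸ h2) hd
      · exact h
    · exact Nat.Coprime.dvd_of_dvd_mul_left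
        ((Nat.prime_two.coprime_iff_not_dvd.mpr hd).pow_left b).symm
        ((dvd_mul_left d _).trans (hx ▸ hdvd))
  rcases Nat.lt_or_ge c 2 with hc | hc
  · -- `e = 2`
    have hc' : c = 1 := by omega
    rw [hc', pow_one] at hec
    obtain ⟨χ, hχ⟩ := Finset.card_eq_one.mp (show X₀.card = 1 by omega)
    rw [hχ, Finset.sum_singleton] at hrel
    have hmem : χ ∈ X₀ := hχ ▸ Finset.mem_singleton_self χ
    have hδ : T.D.δ χ = -1 ∧ charDegree (χ : G → ℂ) + 1 = p := by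
      rcases T.D.hδ χ (Finset.mem_of_mem_erase hmem) with h | h <;> rw [h] at hrel
      · omega
      · exact ⟨h, by omega⟩
    obtain ⟨i, d, hi, hd, -, hx⟩ := hshape χ hmem
    have hd1 : d = 1 := by
      have h1 : d ∣ p - 1 := by
        rw [show p - 1 = charDegree (χ : G → ℂ) by omega, hx]; exact dvd_mul_left _ _
      have h2 : d ∣ p - 2 := by rw [show p - 2 = g₀ by omega]; exact hd
      have := Nat.dvd_sub h1 h2
      rw [show p - 1 - (p - 2) = 1 by omega] at this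
      exact Nat.dvd_one.mp this
    rw [hd1, mul_one] at hx
    refine ⟨⟨i, by omega⟩, ?_⟩
    have hbound := two_pow_bound T.noncomm T.D T.card_P hC T.triv_mem hε (show 1 ≤ b by omega) hz hzp
      T.card_eq (fun χ' hχ' => by
        rw [← hX₀, hχ, Finset.mem_singleton] at hχ'
        subst hχ'
        exact Or.inl ⟨hδ.1, i, hx⟩)
    rw [← hX₀, hχ, Finset.filter_singleton, if_neg (by rw [hδ.1]; norm_num), Finset.card_empty, mul_zero,
      add_zero] at hbound
    have hb : b ≤ i := by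
      have h := Nat.le_of_mul_le_mul_right hbound (by omega)
      exact (Nat.pow_le_pow_iff_right (by norm_num)).mp (show 2 ^ b ≤ 2 ^ i by omega)
    have hpb : p ∣ 2 ^ b + 1 := by
      have h : ((2 : ℤ) * (1 + T.D.n * p)) = 2 ^ b * g₀ := by rw [hec] at heq; exact_mod_cast heq
      have hg : (g₀ : ℤ) = p - 2 := by omega
      have hd : (p : ℤ) ∣ 2 * (2 ^ b + 1) := ⟨2 ^ b - 2 * T.D.n, by rw [hg] at h; linear_combination h⟩
      have hd' : p ∣ 2 * (2 ^ b + 1) := by exact_mod_cast hd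
      exact (Nat.Prime.dvd_mul hp).mp hd' |>.resolve_left fun h => by
        have := Nat.le_of_dvd (by norm_num) h; omega
    have hbi : 2 ^ b = 2 ^ i := by
      have := Nat.le_of_dvd (by positivity) hpb
      have := Nat.pow_le_pow_right (show 0 < 2 by norm_num) hb
      omega
    obtain ⟨n, hn⟩ : ∃ n, n = T.D.n := ⟨_, rfl⟩
    rw [hec, hbi, show 2 ^ i = g₀ + 1 by omega, ← hn] at heq
    rw [show p = g₀ + 2 by omega] at heq
    rw [← hn]
    have : 2 * n + 1 ≤ g₀ + 1 := by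
      by_contra hlt
      have := Nat.mul_le_mul_right (g₀ + 2) (show g₀ + 1 ≤ 2 * n by omega)
      nlinarith
    omega
  -- `e ≡ 0 [MOD 4]`
  obtain ⟨c', rfl⟩ : ∃ c', c = c' + 2 := ⟨c - 2, by omega⟩
  have he4 : 4 ∣ T.D.e := hec ▸ ⟨2 ^ c', by ring⟩
  have hp4 : 4 ∣ p - 1 := by
    rw [show p - 1 = T.D.e * T.D.t by have := T.D.het; omega]; exact he4.mul_right _
  obtain ⟨χ₁, hχ₁, hχ₁4⟩ : ∃ χ ∈ X₀, ¬ 4 ∣ charDegree (χ : G → ℂ) := by
    by_contra hall
    push Not at hall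
    have h : (4 : ℤ) ∣ ∑ χ ∈ X₀, T.D.δ χ * (charDegree (χ : G → ℂ) : ℤ) :=
      Finset.dvd_sum fun χ hχ => (by exact_mod_cast hall χ hχ : (4 : ℤ) ∣ _).mul_left _
    omega
  have hx1 : g₀ = 2 ^ (c' + 2) + 1 ∧ p = 2 ^ (c' + 3) + 1 := by
    obtain ⟨i, d, hi, hd, -, hx⟩ := hshape χ₁ hχ₁
    have hi1 : i = 1 := by
      by_contra h
      refine hχ₁4 (hx ▸ Dvd.dvd.mul_right ?_ d)
      exact (show (4 : ℕ) = 2 ^ 2 by norm_num) ▸ pow_dvd_pow 2 (by omega)
    rw [hi1, pow_one] at hx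
    have hdle := Nat.le_of_dvd (by omega) hd
    have hmod := Int.modEq_iff_dvd.mp (T.D.degX χ₁ (Finset.mem_of_mem_erase hχ₁))
    obtain ⟨k, hk⟩ := hmod
    have hne := (Finset.mem_erase.mp hχ₁).1
    have hgt := BrauerReynolds.one_lt_degree_of_simple T.noncomm hne
    have hδ := T.D.hδ χ₁ (Finset.mem_of_mem_erase hχ₁)
    have hk1 : k = -1 := by
      have h1 : k < 0 := by
        by_contra h
        have := mul_nonneg (show (0 : ℤ) ≤ p by positivity) (not_lt.mp h)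
        rcases hδ with e | e <;> omega
      have h2 : -2 < k := by
        by_contra h
        have := mul_le_mul_of_nonneg_left (not_lt.mp h) (show (0 : ℤ) ≤ p by positivity)
        rcases hδ with e | e <;> omega
      omega
    rw [hk1] at hk
    have hδ1 : T.D.δ χ₁ = 1 := hδ.resolve_right fun e => by
      rw [e] at hk
      exact hχ₁4 (show charDegree (χ₁ : G → ℂ) = p - 1 by omega ▸ hp4)
    rw [hδ1] at hk
    have hdz : d = g₀ := by
      obtain ⟨k', hk'⟩ := hd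
      rcases k' with _ | _ | k'
      · omega
      · omega
      · have : d * 2 ≤ d * (k' + 1 + 1) := Nat.mul_le_mul_left _ (by omega)
        omega
    have : p = 2 * T.D.e + 1 := by omega
    rw [show 2 ^ (c' + 3) = 2 * 2 ^ (c' + 2) by ring, ← hec]
    omega
  obtain ⟨hzc, hpc⟩ := hx1
  refine ⟨⟨c' + 3, hpc⟩, ?_⟩
  have hK : ∀ χ ∈ X₀, (T.D.δ χ = -1 ∧ ∃ j, charDegree (χ : G → ℂ) = 2 ^ j) ∨
      (T.D.δ χ = 1 ∧ charDegree (χ : G → ℂ) = p + 1) := by
    intro χ hχ
    obtain ⟨hne, hmem⟩ := Finset.mem_erase.mp hχ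
    obtain ⟨i, d, hi, hd, hdodd, hx⟩ := hshape χ hχ
    have hgt := BrauerReynolds.one_lt_degree_of_simple T.noncomm hne
    have hp2 : p = 2 * 2 ^ (c' + 2) + 1 := by rw [hpc]; ring
    rcases degree_cases rfl (by omega) hp2 hi hx (hzc ▸ hd) hgt (hzc ▸ T.deg_le_sq hε hC hmem hz)
      (T.D.hδ χ hmem) (Int.modEq_iff_dvd.mp (T.D.degX χ hmem).symm) with ⟨h1, h2⟩ | h
    · exact Or.inl ⟨h1, c' + 3, by omega⟩
    · exact Or.inr h
  have hbound := two_pow_bound T.noncomm T.D T.card_P hC T.triv_mem hε (show 1 ≤ b by omega) hz hzp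
    T.card_eq hK
  rw [← hX₀] at hbound
  have hKle : (X₀.filter fun χ => T.D.δ χ = 1).card + 1 ≤ 2 ^ (c' + 2) := by
    have := Finset.card_filter_le X₀ (fun χ => T.D.δ χ = 1)
    omega
  obtain ⟨n, hn'⟩ : ∃ n, n = T.D.n := ⟨_, rfl⟩
  rw [hec, ← hn'] at heq
  have hp2 : p = 2 * 2 ^ (c' + 2) + 1 := by rw [hpc]; ring
  obtain ⟨k, hk'⟩ : ∃ k, k = (X₀.filter fun χ => T.D.δ χ = 1).card := ⟨_, rfl⟩
  rw [← hk'] at hbound hKle
  rw [hzc, hp2] at heq hbound
  have := n_le_one rfl (by omega) hKle hbound heq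
  omega

end Ctx

/-- The theorem of Brauer and Tuan, with `q = 2` made explicit. -/
theorem main [IsSimpleGroup G] (hG : ¬ IsCyclic G) (hq : q.Prime) (hpq : p ≠ q)
    (hcard : Nat.card G = p * q ^ b * g₀) (hg : g₀ < p - 1) :
    q = 2 ∧ ((∃ (m : ℕ) (F : Type) (_ : Field F) (_ : Fintype F), Fintype.card F = p ∧
        (p = 2 ^ m + 1 ∨ p = 2 ^ m - 1) ∧ Nonempty (G ≃* Matrix.ProjectiveSpecialLinearGroup (Fin 2) F)) ∨
      (∃ (m : ℕ) (F : Type) (_ : Field F) (_ : Fintype F), Fintype.card F = 2 ^ m ∧ p = 2 ^ m + 1 ∧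
        3 < p ∧ Nonempty (G ≃* Matrix.ProjectiveSpecialLinearGroup (Fin 2) F))) := by
  obtain ⟨T⟩ := nonempty_ctx hG hq hpq hcard hg
  rcases T.D.hε with hε | hε
  · obtain ⟨hq2, hpb, ⟨iso⟩⟩ := T.of_pos hε
    exact ⟨hq2, Or.inl ⟨b, ZMod p, inferInstance, inferInstance, ZMod.card p, Or.inr (by omega), ⟨iso⟩⟩⟩
  · obtain ⟨hC, hq2, -⟩ := T.of_neg hε
    obtain ⟨⟨j, hj⟩, hn⟩ := T.small_n hε
    have H : BrauerReynolds.Hyp G p :=
      ⟨inferInstance, hG, T.P, T.card_P, hC, T.D.n, T.D.card_sylow,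
        BrauerReynolds.nonRep_of_small Fact.out hn⟩
    refine ⟨hq2, ?_⟩
    rcases BrauerReynolds.concl_of_hyp H with ⟨F, iF, iT, hF, -, hiso⟩ | h
    · exact Or.inl ⟨j, F, iF, iT, hF, Or.inl hj, hiso⟩
    · exact Or.inr h

end CfsgLib.BrauerTuan
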