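import Cfsg.Agent.Lib.Char.Burnside
import Cfsg.Agent.Lib.Char.Orth
import Cfsg.Agent.Lib.Char.Eigen
import Cfsg.Agent.Lib.BrauerReynolds.Centralizer

/-!
# Character tools for the theorem of Brauer and Tuan
-/

set_option autoImplicit false
set_option linter.unusedSectionVars false
set_option linter.style.haveILetI false

namespace CfsgLib.BrauerTuan

open Cfsg Module
open scoped ComplexConjugate CfsgLib.Char
open CfsgLib
open scoped _root_.Classical

universe u

variable {G : Type u} [Group G] [Fintype G] {p : ℕ} [Fact p.Prime]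

/-- A character of degree `< p` unchanged on multiplying the non-trivial powers of `v` by `y` has
`y` in its kernel. -/
theorem value_eq_of_periodic {χ : G → ℂ} (hχ : IsCharacter G χ) {v : G} (hv : orderOf v = p) {d : ℕ}
    (hd : χ 1 = d) (hdp : d < p) {y : G}
    (h : ∀ i : ℕ, ¬ p ∣ i → χ (v ^ i * y) = χ (v ^ i)) : χ y = χ 1 := by
  obtain ⟨k, ρ, rfl⟩ := hχ
  have hp : p.Prime := Fact.out
  obtain ⟨b, μ, hμ, hb⟩ := Char.exists_eigenBasis ρ v
  rw [hv] at hμ
  have hk : finrank ℂ (Fin k → ℂ) = d := by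
    rw [Representation.char_one] at hd; exact_mod_cast hd
  obtain ⟨ζ, hζ⟩ := Complex.isPrimitiveRoot_exp p hp.ne_zero |> fun h => (⟨_, h⟩ : ∃ ζ : ℂ, IsPrimitiveRoot ζ p)
  obtain ⟨j, hj, hne⟩ : ∃ j < p, ∀ i, μ i ≠ ζ ^ j := by
    by_contra hall
    push Not at hall
    choose f hf using hall
    have hinj : Function.Injective fun j : Fin p => f j j.2 := fun j j' e => by
      have h1 : ζ ^ (j : ℕ) = ζ ^ (j' : ℕ) := by
        rw [← hf j j.2, ← hf j' j'.2]; exact congrArg μ e
      exact Fin.ext (hζ.pow_inj j.2 j'.2 h1)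
    have := Fintype.card_le_of_injective _ hinj
    rw [Fintype.card_fin, Fintype.card_fin, hk] at this
    omega
  have hζj : ζ ^ j ≠ 0 := pow_ne_zero _ (hζ.ne_zero hp.ne_zero)
  set Q : Module.End ℂ (Fin k → ℂ) := ∑ i ∈ Finset.range p, ((ζ ^ j)⁻¹) ^ i • ρ (v ^ i) with hQ
  have hQ0 : Q = 0 := b.ext fun i => by
    rw [hQ, LinearMap.sum_apply, LinearMap.zero_apply]
    simp only [LinearMap.smul_apply, hb, smul_smul, ← mul_pow]
    rw [← Finset.sum_smul, geom_sum_eq (by
      intro e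
      exact hne i ((inv_mul_eq_one₀ hζj).mp e).symm)]
    have : ((ζ ^ j)⁻¹ * μ i) ^ p = 1 := by
      rw [mul_pow, hμ, inv_pow, ← pow_mul, mul_comm j, pow_mul, hζ.pow_eq_one, one_pow, inv_one,
        mul_one]
    rw [this, sub_self, zero_div, zero_smul]
  have hzero : ∀ x : G, ∑ i ∈ Finset.range p, ((ζ ^ j)⁻¹) ^ i * ρ.character (v ^ i * x) = 0 := by
    intro x
    have h0 : LinearMap.trace ℂ _ (Q * ρ x) = 0 := by rw [hQ0, zero_mul, map_zero]
    rw [hQ, Finset.sum_mul, map_sum] at h0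
    refine Eq.trans (Finset.sum_congr rfl fun i _ => ?_) h0
    rw [smul_mul_assoc, map_smul, smul_eq_mul, ← map_mul]
    rfl
  have h0mem : 0 ∈ Finset.range p := Finset.mem_range.mpr hp.pos
  have e1 := hzero y
  have e2 := hzero 1
  rw [← Finset.add_sum_erase _ _ h0mem, pow_zero, one_mul, pow_zero, one_mul] at e1
  rw [← Finset.add_sum_erase _ _ h0mem, pow_zero, one_mul, pow_zero, mul_one] at e2
  rw [Finset.sum_congr rfl (g := fun i => ((ζ ^ j)⁻¹) ^ i * ρ.character (v ^ i)) fun i hi => by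
    obtain ⟨hi0, hip⟩ := Finset.mem_erase.mp hi
    rw [Finset.mem_range] at hip
    rw [h i fun hd => hi0 (Nat.eq_zero_of_dvd_of_lt hd hip)]] at e1
  simp only [mul_one] at e2
  linear_combination e1 - e2

/-- An involution normalizing `P` acts on the fixed space of `P`. -/
theorem exists_fixed_trace_sum {φ : G → ℂ} (hφ : IsCharacter G φ) (P : Subgroup G)
    (hP : Nat.card P = p) {u : G} (hu : u * u = 1) (hN : u ∈ Subgroup.normalizer (P : Set G)) {K : ℕ}
    (hK : ∑ w : P, φ (w : G) = (p : ℂ) * K) :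
    ∃ a : ℤ, ∑ w : P, φ ((w : G) * u) = (p : ℂ) * a ∧ |a| ≤ K := by
  obtain ⟨k, ρ, rfl⟩ := hφ
  have hp0 : (p : ℂ) ≠ 0 := Nat.cast_ne_zero.mpr (Fact.out : p.Prime).ne_zero
  set E : Module.End ℂ (Fin k → ℂ) := (p : ℂ)⁻¹ • ∑ w : P, ρ (w : G) with hE
  have hEE : E * E = E := by
    rw [hE, smul_mul_smul_comm]
    have : (∑ w : P, ρ (w : G)) * (∑ w : P, ρ (w : G)) = (p : ℂ) • ∑ w : P, ρ (w : G) := by
      rw [Finset.sum_mul, Finset.sum_congr rfl (g := fun _ => ∑ w : P, ρ (w : G)) fun v _ => by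
        rw [Finset.mul_sum]
        simp only [← map_mul, ← Subgroup.coe_mul]
        exact Fintype.sum_equiv (Equiv.mulLeft v) _ _ fun w => rfl,
        Finset.sum_const, Finset.card_univ, ← Nat.card_eq_fintype_card, hP, Nat.cast_smul_eq_nsmul]
    rw [this, smul_smul, mul_assoc, inv_mul_cancel₀ hp0, mul_one]
  have hcomm : E * ρ u = ρ u * E := by
    rw [hE, smul_mul_assoc, mul_smul_comm, Finset.sum_mul, Finset.mul_sum]
    congr 1
    simp only [← map_mul]
    refine Fintype.sum_equiv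
      ({ toFun := fun w : P => ⟨u⁻¹ * (w : G) * u, (Subgroup.mem_normalizer_iff''.mp hN w).mp w.2⟩
         invFun := fun w : P => ⟨u * (w : G) * u⁻¹, (Subgroup.mem_normalizer_iff.mp hN w).mp w.2⟩
         left_inv := fun w => Subtype.ext (by simp [mul_assoc])
         right_inv := fun w => Subtype.ext (by simp [mul_assoc]) } : P ≃ P) _ _ fun w => ?_
    congr 1
    simp [mul_assoc]
  clear_value E
  have hu2 : ρ u * ρ u = 1 := by rw [← map_mul, hu, map_one]
  obtain ⟨A, hA⟩ : ∃ A, A = E * ρ u := ⟨_, rfl⟩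
  have hAA : A * A = E := by
    calc A * A = E * (ρ u * E) * ρ u := by simp only [hA, mul_assoc]
      _ = E * E * (ρ u * ρ u) := by rw [← hcomm]; simp only [mul_assoc]
      _ = E := by rw [hEE, hu2, mul_one]
  have hAE : A * E = A := by
    calc A * E = E * (ρ u * E) := by simp only [hA, mul_assoc]
      _ = E * E * ρ u := by rw [← hcomm, mul_assoc]
      _ = A := by rw [hEE, hA]
  have hEA : E * A = A := by rw [hA, ← mul_assoc, hEE]
  have hidem : ∀ σ : ℂ, σ * σ = 1 → ∃ m : ℕ, LinearMap.trace ℂ _ ((2 : ℂ)⁻¹ • (E + σ • A)) = m := by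
    intro σ hσ
    set R := (2 : ℂ)⁻¹ • (E + σ • A) with hR
    have hRR : R * R = R := by
      rw [hR, smul_mul_smul_comm, add_mul, mul_add, mul_add, smul_mul_assoc, smul_mul_assoc,
        mul_smul_comm, mul_smul_comm, smul_smul, hEE, hAA, hAE, hEA, hσ, one_smul]
      module
    have hproj : LinearMap.IsProj (LinearMap.range R) R :=
      { map_mem := fun x => LinearMap.mem_range_self R x
        map_id := by
          rintro _ ⟨x, rfl⟩
          exact LinearMap.congr_fun hRR x }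
    exact ⟨_, hproj.trace⟩
  obtain ⟨m₁, h1⟩ := hidem 1 (one_mul _)
  obtain ⟨m₂, h2⟩ := hidem (-1) (by norm_num)
  simp only [map_smul, map_add, smul_eq_mul] at h1 h2
  have hEt : LinearMap.trace ℂ _ E = (K : ℂ) := by
    rw [hE, map_smul, map_sum, smul_eq_mul]
    show (p : ℂ)⁻¹ * ∑ w : P, ρ.character (w : G) = _
    rw [hK, inv_mul_cancel_left₀ hp0]
  have hAt : LinearMap.trace ℂ _ A = (p : ℂ)⁻¹ * ∑ w : P, ρ.character ((w : G) * u) := by
    rw [hA, hE, smul_mul_assoc, map_smul, smul_eq_mul, Finset.sum_mul, map_sum]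
    simp only [← map_mul]
    rfl
  rw [hEt, hAt] at h1 h2
  refine ⟨(m₁ : ℤ) - m₂, ?_, ?_⟩
  · have h3 : (p : ℂ)⁻¹ * ∑ w : P, ρ.character ((w : G) * u) = (((m₁ : ℤ) - m₂ : ℤ) : ℂ) := by
      push_cast
      linear_combination h1 - h2
    rw [← h3, ← mul_assoc, mul_inv_cancel₀ hp0, one_mul]
  · have : ((m₁ + m₂ : ℕ) : ℂ) = (K : ℂ) := by
      push_cast
      linear_combination -h1 - h2
    have h3 : m₁ + m₂ = K := by exact_mod_cast this
    rw [abs_le]
    omega

/-- An involution with constant value on its coset of `P` acts on the fixed space of `P`. -/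
theorem exists_fixed_trace {φ : G → ℂ} (hφ : IsCharacter G φ) (P : Subgroup G)
    (hP : Nat.card P = p) {u : G} (hu : u * u = 1) (hN : u ∈ Subgroup.normalizer (P : Set G))
    (hconst : ∀ w : P, φ ((w : G) * u) = φ u) {K : ℕ}
    (hK : ∑ w : P, φ (w : G) = (p : ℂ) * K) : ∃ a : ℤ, φ u = a ∧ |a| ≤ K := by
  obtain ⟨a, ha, hab⟩ := exists_fixed_trace_sum hφ P hP hu hN hK
  refine ⟨a, ?_, hab⟩
  rw [Finset.sum_congr rfl fun w _ => hconst w, Finset.sum_const, Finset.card_univ,
    ← Nat.card_eq_fintype_card, hP, nsmul_eq_mul] at ha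
  exact mul_left_cancel₀ (Nat.cast_ne_zero.mpr (Fact.out : p.Prime).ne_zero) ha

/-- A constituent has at most the degree of the character. -/
theorem degree_le_of_inner {φ : G → ℂ} (hφ : IsCharacter G φ) {χ : IrrCharacter G}
    (h : classInner φ (χ : G → ℂ) ≠ 0) {d : ℕ} (hd : φ 1 = d) :
    charDegree (χ : G → ℂ) ≤ d := by
  obtain ⟨m, rfl⟩ := Char.exists_multiplicities hφ
  rw [Char.classInner_sum_smul_irr, Nat.cast_ne_zero] at h
  have hd' : (∑ ψ : IrrCharacter G, m ψ * charDegree (ψ : G → ℂ)) = d := by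
    rw [Finset.sum_apply] at hd
    simp only [Pi.smul_apply, smul_eq_mul, BrauerReynolds.value_one] at hd
    exact_mod_cast hd
  calc charDegree (χ : G → ℂ) ≤ m χ * charDegree (χ : G → ℂ) := Nat.le_mul_of_pos_left _ (Nat.pos_of_ne_zero h)
    _ ≤ d := hd' ▸ Finset.single_le_sum (f := fun ψ => m ψ * charDegree (ψ : G → ℂ))
        (fun _ _ => Nat.zero_le _) (Finset.mem_univ χ)

/-- Burnside's lemma in a simple group. -/
theorem eq_zero_of_coprime [IsSimpleGroup G] (hG : ¬ IsMulCommutative G) {χ : IrrCharacter G}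
    (hχ : χ ≠ Blocks.trivIrr G) {g : G} (hg : g ≠ 1)
    (hcop : Nat.Coprime (charDegree (χ : G → ℂ)) (Subgroup.centralizer ({g} : Set G)).index) :
    (χ : G → ℂ) g = 0 := by
  have hfaith := fun {x : G} (hx : (χ : G → ℂ) x = (χ : G → ℂ) 1) => BrauerReynolds.faithful_of_simple hχ hx
  obtain ⟨n, ρ, hρ, e⟩ := χ.2
  have hdn : charDegree (χ : G → ℂ) = finrank ℂ (Fin n → ℂ) := by
    have := BrauerReynolds.value_one χ
    rw [← e, Representation.char_one] at this
    rw [← e]
    exact_mod_cast this.symm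
  rcases Char.burnside_zero_or_scalar ρ g (hdn ▸ hcop) with h | h
  · rw [← e]; exact h
  exfalso
  obtain ⟨ω, hω⟩ := (Char.norm_character_eq_iff ρ g).mp h
  have hcen : g ∈ Subgroup.center G := Subgroup.mem_center_iff.mpr fun x => by
    have h1 : ρ (x * g) = ρ (g * x) := by
      rw [map_mul, map_mul, hω]
      ext v; simp
    refine inv_mul_eq_one.mp ?_
    refine hfaith ?_
    rw [← e]
    show LinearMap.trace ℂ _ (ρ ((x * g)⁻¹ * (g * x))) = LinearMap.trace ℂ _ (ρ 1)
    rw [map_mul, ← h1, ← map_mul, inv_mul_cancel]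
  rcases (inferInstance : (Subgroup.center G).Normal).eq_bot_or_eq_top with h0 | h0
  · exact hg (Subgroup.mem_bot.mp (h0 ▸ hcen))
  · exact hG ⟨⟨fun a b => (Subgroup.mem_center_iff.mp (h0 ▸ Subgroup.mem_top b)) a⟩⟩

end CfsgLib.BrauerTuan
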