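import Cfsg.Agent.Lib.BrauerTuan.Analysis
import Cfsg.Agent.Lib.Classical.PSLSmall
import Cfsg.Agent.Lib.Classical.Transvection
import Cfsg.Agent.Lib.SmallOrder.Klein
import Cfsg.Agent.S0494

/-!
# Simple groups of order `p r q^b`
-/

set_option autoImplicit false
set_option linter.style.haveILetI false

namespace CfsgLib.BrauerTuan

open CfsgLib

universe u

theorem zmod_five_two : (2 : ZMod 5) ≠ 0 ∧ (2 : ZMod 5) ^ 2 ≠ 1 := by decide

theorem psl_four_equiv_five {G : Type u} [Group G] [Finite G] [IsSimpleGroup G] {F : Type} [Field F]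
    [Fintype F] (hF : Fintype.card F = 4)
    (h : Nonempty (G ≃* Matrix.ProjectiveSpecialLinearGroup (Fin 2) F)) :
    ∃ (K : Type) (_ : Field K) (_ : Fintype K), Fintype.card K = 5 ∧
      Nonempty (G ≃* Matrix.ProjectiveSpecialLinearGroup (Fin 2) K) := by
  haveI : Fact (Nat.Prime 5) := ⟨Nat.prime_five⟩
  obtain ⟨e⟩ := h
  have h1 := Classical.card_PSL_two (F := F)
  rw [hF, show Nat.gcd 2 (4 - 1) = 1 from rfl, one_mul] at h1
  norm_num at h1
  have h2 : Nat.card (Matrix.ProjectiveSpecialLinearGroup (Fin 2) (ZMod 5)) = 60 := by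
    have h := Classical.card_PSL_two (F := ZMod 5)
    rw [ZMod.card, show Nat.gcd 2 (5 - 1) = 2 from rfl] at h
    norm_num at h
    rw [Nat.card_eq_fintype_card]
    omega
  obtain ⟨e1⟩ := Classical.PSL_two_equiv_alternating (F := F) (n := 5) (by rw [hF])
    (by rw [h1]; rfl)
  haveI : IsSimpleGroup (Matrix.ProjectiveSpecialLinearGroup (Fin 2) (ZMod 5)) :=
    Classical.isSimpleGroup_PSL (Or.inr ⟨2, zmod_five_two.1, zmod_five_two.2⟩)
  obtain ⟨e2⟩ := Cfsg.Agent.S0494.result h2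
  exact ⟨ZMod 5, inferInstance, inferInstance, ZMod.card 5, ⟨(e.trans e1).trans e2.symm⟩⟩

/-- Simple groups of order `p r q^b` with `r < p` are `PSL(2, 5)` or `PSL(2, 7)`. -/
theorem main_three {G : Type u} [Group G] [Finite G] [IsSimpleGroup G] (hG : ¬ IsCyclic G)
    {p q r b : ℕ} (hp : p.Prime) (hq : q.Prime) (hr : r.Prime) (hpq : p ≠ q) (hqr : q ≠ r)
    (hrp : r < p) (hcard : Nat.card G = p * r * q ^ b) :
    (∃ (F : Type) (_ : Field F) (_ : Fintype F), Fintype.card F = 5 ∧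
        Nonempty (G ≃* Matrix.ProjectiveSpecialLinearGroup (Fin 2) F)) ∨
      (∃ (F : Type) (_ : Field F) (_ : Fintype F), Fintype.card F = 7 ∧
        Nonempty (G ≃* Matrix.ProjectiveSpecialLinearGroup (Fin 2) F)) := by
  haveI := Fact.mk hp
  letI : Fintype G := Fintype.ofFinite G
  have hr2 := hr.two_le
  rcases Nat.lt_or_ge r (p - 1) with hg | hg
  swap
  · exfalso
    have hr' : r = 2 := by
      rcases hr.eq_two_or_odd with h | h
      · exact h
      · rcases hp.eq_two_or_odd with h' | h' <;> omega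
    have hp' : p = 3 := by omega
    subst hp' hr'
    haveI : Fact (Nat.Prime 2) := ⟨Nat.prime_two⟩
    obtain ⟨Q⟩ := (inferInstance : Nonempty (Sylow 2 G))
    have hnd : ¬ 2 ∣ 3 * q ^ b := fun h => by
      rcases Nat.prime_two.dvd_mul.mp h with h | h
      · omega
      · exact hqr ((Nat.prime_dvd_prime_iff_eq Nat.prime_two hq).mp (Nat.prime_two.dvd_of_dvd_pow h)).symm
    have hQ : Nat.card (Q : Subgroup G) = 2 := by
      rw [Q.card_eq_multiplicity, hcard, show 3 * 2 * q ^ b = 2 * (3 * q ^ b) by ring,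
        Nat.factorization_mul two_ne_zero (fun h => hnd (by rw [h]; exact dvd_zero _)), Finsupp.add_apply,
        Nat.prime_two.factorization_self, Nat.factorization_eq_zero_of_not_dvd hnd, add_zero, pow_one]
    refine SmallOrder.not_isCyclic_minFac (BrauerReynolds.not_comm_of_not_cyclic' hG)
      ((Nat.minFac_eq_two_iff _).mpr (hcard ▸ Dvd.dvd.mul_right (dvd_mul_left 2 3) _)) Q
      (isCyclic_of_prime_card hQ)
  obtain ⟨hq2, h⟩ := main (g₀ := r) (b := b) hG hq hpq (by rw [hcard]; ring) hg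
  subst hq2
  have hr3 : 3 ≤ r := by omega
  -- `r` is the odd part
  have hodd : ∀ {m u : ℕ}, r * 2 ^ b = 2 ^ m * u → ¬ 2 ∣ u → r = u := by
    intro m u h hu
    have hcr : Nat.Coprime r (2 ^ m) := ((Nat.coprime_primes hr Nat.prime_two).mpr (by omega)).pow_right m
    have hcu : Nat.Coprime u (2 ^ b) := ((Nat.prime_two.coprime_iff_not_dvd.mpr hu).pow_left b).symm
    exact Nat.dvd_antisymm (hcr.dvd_of_dvd_mul_left (h ▸ dvd_mul_right _ _))
      (hcu.dvd_of_dvd_mul_right (h ▸ dvd_mul_left _ _))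
  have hdiv3 : ∀ {x : ℕ}, x % 3 = 0 → x.Prime → x = 3 := fun h hx =>
    ((Nat.prime_dvd_prime_iff_eq Nat.prime_three hx).mp (Nat.dvd_of_mod_eq_zero h)).symm
  have hm3 : ∀ m, 2 ^ m % 3 ≠ 0 := fun m h => by
    have := Nat.prime_three.dvd_of_dvd_pow (Nat.dvd_of_mod_eq_zero h)
    omega
  have hsq : p ^ 2 - 1 = (p + 1) * (p - 1) := by
    rw [show p ^ 2 - 1 = p ^ 2 - 1 ^ 2 by ring, Nat.sq_sub_sq]
  rcases h with ⟨m, F, iF, iT, hF, hpm, ⟨iso⟩⟩ | ⟨m, F, iF, iT, hF, hpm, hp3, ⟨iso⟩⟩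
  · have hc := Classical.card_PSL_two (F := F)
    rw [← Nat.card_congr iso.toEquiv, hcard, hF, hsq,
      show Nat.gcd 2 (p - 1) = 2 from Nat.gcd_eq_left (by
        have := hp.odd_of_ne_two (by omega)
        obtain ⟨k, hk⟩ := this
        exact ⟨k, by omega⟩)] at hc
    have hc' : 2 * (r * 2 ^ b) = (p + 1) * (p - 1) :=
      Nat.eq_of_mul_eq_mul_left hp.pos (by rw [← hc]; ring)
    obtain ⟨m, rfl⟩ : ∃ m', m = m' + 2 := ⟨m - 2, by
      rcases m with _ | _ | m <;> omega⟩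
    have h2m := hm3 (m + 2)
    have h2m' := hm3 (m + 1)
    have hpow : 2 ^ (m + 2) = 2 * 2 ^ (m + 1) := by ring
    have hev : 2 ∣ 2 ^ (m + 1) := dvd_pow_self 2 (by omega)
    rcases hpm with hpm | hpm
    · have hru : r = 2 ^ (m + 1) + 1 := hodd (m := m + 2) (Nat.eq_of_mul_eq_mul_left two_pos (by
        rw [hc', hpm, show 2 ^ (m + 2) + 1 - 1 = 2 ^ (m + 2) by omega]; ring)) (by omega)
      have h3p : p % 3 ≠ 0 := fun h => by have := hdiv3 h hp; omega
      have hr' : r = 3 := hdiv3 (by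
        rcases (show 2 ^ (m + 1) % 3 = 1 ∨ 2 ^ (m + 1) % 3 = 2 by omega) with h | h <;> omega) hr
      left
      exact ⟨F, iF, iT, by omega, ⟨iso⟩⟩
    · have hru : r = 2 ^ (m + 1) - 1 := hodd (m := m + 2) (Nat.eq_of_mul_eq_mul_left two_pos (by
        rw [hc', hpm, show 2 ^ (m + 2) - 1 + 1 = 2 ^ (m + 2) by omega,
          show 2 ^ (m + 2) - 1 - 1 = 2 * (2 ^ (m + 1) - 1) by omega]
        ring)) (by omega)
      have h3p : p % 3 ≠ 0 := fun h => by have := hdiv3 h hp; omega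
      have hr' : r = 3 := hdiv3 (by
        rcases (show 2 ^ (m + 1) % 3 = 1 ∨ 2 ^ (m + 1) % 3 = 2 by omega) with h | h <;> omega) hr
      right
      exact ⟨F, iF, iT, by omega, ⟨iso⟩⟩
  · have hm1 : 1 ≤ m := by
      rcases Nat.eq_zero_or_pos m with h | h
      · rw [h, pow_zero] at hpm; omega
      · exact h
    have h2m := hm3 m
    have hev : 2 ∣ 2 ^ m := dvd_pow_self 2 (by omega)
    have hc := Classical.card_PSL_two (F := F)
    rw [← Nat.card_congr iso.toEquiv, hcard, hF,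
      show Nat.gcd 2 (2 ^ m - 1) = 1 from (Nat.prime_two.coprime_iff_not_dvd.mpr (by omega)), one_mul,
      show (2 ^ m) ^ 2 - 1 = (2 ^ m + 1) * (2 ^ m - 1) by
        rw [show (2 ^ m) ^ 2 - 1 = (2 ^ m) ^ 2 - 1 ^ 2 by ring, Nat.sq_sub_sq], hpm] at hc
    have hc' : r * 2 ^ b = 2 ^ m * (2 ^ m - 1) :=
      Nat.eq_of_mul_eq_mul_left (show 0 < 2 ^ m + 1 by omega) (by linarith)
    have hru : r = 2 ^ m - 1 := hodd hc' (by omega)
    have h3p : p % 3 ≠ 0 := fun h => by have := hdiv3 h hp; omega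
    have hr' : r = 3 := hdiv3 (by
      rcases (show 2 ^ m % 3 = 1 ∨ 2 ^ m % 3 = 2 by omega) with h | h <;> omega) hr
    left
    exact psl_four_equiv_five (F := F) (by omega) ⟨iso⟩

end CfsgLib.BrauerTuan
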