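import Cfsg.Agent.Lib.BrauerTuan.Data
import Cfsg.Agent.Lib.Char.Counting
import Mathlib.GroupTheory.PGroup

/-!
# The theorem of Brauer and Tuan: a central involution of a Sylow 2-subgroup bounds the power of 2
-/

set_option autoImplicit false
set_option linter.unusedSectionVars false
set_option linter.style.haveILetI false

namespace CfsgLib.BrauerTuan

open Cfsg Module
open scoped ComplexConjugate CfsgLib.Char
open CfsgLib
open scoped _root_.Classical

universe u

variable {G : Type u} [Group G] [Fintype G] {p : ℕ} [Fact p.Prime]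

theorem exists_int_of_involution {φ : G → ℂ} (hφ : IsCharacter G φ) {g : G} (hg : g * g = 1) :
    ∃ a : ℤ, φ g = a := by
  obtain ⟨k, ρ, rfl⟩ := hφ
  set R := (2 : ℂ)⁻¹ • ((1 : Module.End ℂ (Fin k → ℂ)) + ρ g) with hR
  have h2 : ρ g * ρ g = 1 := by rw [← map_mul, hg, map_one]
  have hRR : R * R = R := by
    rw [hR, smul_mul_smul_comm, add_mul, mul_add, mul_add, one_mul, one_mul, mul_one, h2]
    module
  have hproj : LinearMap.IsProj (LinearMap.range R) R :=
    { map_mem := fun x => LinearMap.mem_range_self R x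
      map_id := by
        rintro _ ⟨x, rfl⟩
        exact LinearMap.congr_fun hRR x }
  have h := hproj.trace
  rw [hR, map_smul, map_add, smul_eq_mul, LinearMap.trace_one, Module.finrank_fin_fun] at h
  refine ⟨2 * (finrank ℂ (LinearMap.range R) : ℤ) - k, ?_⟩
  show LinearMap.trace ℂ _ (ρ g) = _
  push_cast
  rw [hR]
  linear_combination 2 * h

/-- A central involution of a Sylow 2-subgroup. -/
theorem exists_central_involution {b : ℕ} (hb : 1 ≤ b) (hdvd : 2 ^ b ∣ Nat.card G) :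
    ∃ g : G, g * g = 1 ∧ g ≠ 1 ∧ 2 ^ b ∣ Nat.card (Subgroup.centralizer ({g} : Set G)) ∧
      ¬ 2 ∣ (Subgroup.centralizer ({g} : Set G)).index := by
  haveI : Fact (Nat.Prime 2) := ⟨Nat.prime_two⟩
  obtain ⟨Q⟩ := (inferInstance : Nonempty (Sylow 2 G))
  have hidx := Q.not_dvd_index
  have hQ : 2 ^ b ∣ Nat.card (Q : Subgroup G) := by
    have hcop : Nat.Coprime (2 ^ b) (Q : Subgroup G).index :=
      (Nat.prime_two.coprime_iff_not_dvd.mpr hidx).pow_left b
    exact hcop.dvd_of_dvd_mul_right (by rw [Subgroup.card_mul_index]; exact hdvd)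
  haveI : Nontrivial (Q : Subgroup G) := by
    rw [← Finite.one_lt_card_iff_nontrivial]
    calc 1 < 2 ^ 1 := by norm_num
      _ ≤ 2 ^ b := Nat.pow_le_pow_right (by norm_num) hb
      _ ≤ _ := Nat.le_of_dvd Nat.card_pos hQ
  haveI := Q.isPGroup'.center_nontrivial
  have h2 : 2 ∣ Nat.card (Subgroup.center (Q : Subgroup G)) := by
    obtain ⟨k, hk⟩ := (Q.isPGroup'.to_subgroup (Subgroup.center (Q : Subgroup G))).exists_card_eq
    rcases Nat.eq_zero_or_pos k with h | h
    · rw [h, pow_zero] at hk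
      have := Finite.one_lt_card (α := Subgroup.center (Q : Subgroup G))
      omega
    · rw [hk]; exact dvd_pow_self 2 h.ne'
  obtain ⟨c, hc⟩ := exists_prime_orderOf_dvd_card' 2 h2
  have ho : orderOf ((c : (Q : Subgroup G)) : G) = 2 := by
    rw [Subgroup.orderOf_coe, Subgroup.orderOf_coe, hc]
  have hle : (Q : Subgroup G) ≤ Subgroup.centralizer ({((c : (Q : Subgroup G)) : G)} : Set G) :=
    fun x hx => Subgroup.mem_centralizer_singleton_iff.mpr
      (congrArg Subtype.val (Subgroup.mem_center_iff.mp c.2 ⟨x, hx⟩))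
  refine ⟨_, ?_, ?_, hQ.trans (Subgroup.card_dvd_of_le hle), fun h => hidx (h.trans (Subgroup.index_dvd_of_le hle))⟩
  · have := pow_orderOf_eq_one ((c : (Q : Subgroup G)) : G)
    rwa [ho, pow_two] at this
  · intro h
    rw [h, orderOf_one] at ho
    omega

variable {P : Sylow p G}

/-- Pairs of conjugates of an involution with product `v`: there are `p` of them or none. -/
theorem pairs_of_nonempty (hP : Nat.card (P : Subgroup G) = p)
    (hC : Subgroup.centralizer ((P : Subgroup G) : Set G) = (P : Subgroup G)) (hodd : ¬ 2 ∣ p) {g : G}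
    (hg2 : g * g = 1) {v : G} (hv : v ∈ (P : Subgroup G)) (hv1 : v ≠ 1)
    (hne : Nonempty {pr : G × G // IsConj g pr.1 ∧ IsConj g pr.2 ∧ pr.1 * pr.2 = v}) :
    Nat.card {pr : G × G // IsConj g pr.1 ∧ IsConj g pr.2 ∧ pr.1 * pr.2 = v} = p ∧
      ∃ u : G, u * u = 1 ∧ u ∈ Subgroup.normalizer ((P : Subgroup G) : Set G) ∧
        ∀ φ : G → ℂ, IsCharacter G φ → φ g = φ u ∧ ∀ w : (P : Subgroup G), φ ((w : G) * u) = φ u := by
  have hp : p.Prime := Fact.out
  have hvo : orderOf v = p := by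
    have h := orderOf_dvd_natCard (⟨v, hv⟩ : (P : Subgroup G))
    rw [hP, Subgroup.orderOf_mk] at h
    exact ((Nat.dvd_prime hp).mp h).resolve_left fun h' => hv1 (orderOf_eq_one_iff.mp h')
  have hzp' : Subgroup.zpowers v = (P : Subgroup G) :=
    Subgroup.eq_of_le_of_card_ge (Subgroup.zpowers_le.mpr hv)
      (by rw [Nat.card_zpowers, hvo, hP])
  have hcentv : ∀ c : G, c * v = v * c → c ∈ (P : Subgroup G) := fun c hc => by
    rw [← hC]
    refine Subgroup.mem_centralizer_iff.mpr fun q hq => ?_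
    rw [← hzp'] at hq
    obtain ⟨i, rfl⟩ := Subgroup.mem_zpowers_iff.mp hq
    exact ((show Commute c v from hc).zpow_right i).symm.eq
  obtain ⟨⟨⟨u, u'⟩, hu, hu', huv⟩⟩ := hne
  simp only at hu hu' huv
  have hsq : ∀ x, IsConj g x → x * x = 1 := fun x hx => by
    obtain ⟨c, rfl⟩ := isConj_iff.mp hx
    calc c * g * c⁻¹ * (c * g * c⁻¹) = c * (g * g) * c⁻¹ := by group
      _ = 1 := by rw [hg2, mul_one, mul_inv_cancel]
  have hinvv : ∀ a a', IsConj g a → IsConj g a' → a * a' = v → a * v * a⁻¹ = v⁻¹ := fun a a' ha ha' h => by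
    have h1 : a⁻¹ = a := inv_eq_of_mul_eq_one_right (hsq a ha)
    have h2 : a'⁻¹ = a' := inv_eq_of_mul_eq_one_right (hsq a' ha')
    rw [h1, ← h, mul_inv_rev, h1, h2, ← mul_assoc a a a', hsq a ha, one_mul]
  have huinv : ∀ w ∈ (P : Subgroup G), u * w * u⁻¹ = w⁻¹ := fun w hw => by
    rw [← hzp'] at hw
    obtain ⟨i, rfl⟩ := Subgroup.mem_zpowers_iff.mp hw
    rw [← conj_zpow, hinvv u u' hu hu' huv, inv_zpow]
  have huu : u⁻¹ = u := inv_eq_of_mul_eq_one_right (hsq u hu)
  have hhalf : ∀ w ∈ (P : Subgroup G), ∃ s ∈ (P : Subgroup G), s * s = w := fun w hw => by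
    refine ⟨w ^ ((p + 1) / 2), Subgroup.pow_mem _ hw _, ?_⟩
    have hwp : w ^ p = 1 := by
      have h := orderOf_dvd_natCard (⟨w, hw⟩ : (P : Subgroup G))
      rw [hP, Subgroup.orderOf_mk] at h
      exact orderOf_dvd_iff_pow_eq_one.mp h
    rw [← pow_add, show (p + 1) / 2 + (p + 1) / 2 = p + 1 by omega, pow_succ, hwp, one_mul]
  have hconju : ∀ w ∈ (P : Subgroup G), ∃ s ∈ (P : Subgroup G), s * u * s⁻¹ = w * u := fun w hw => by
    obtain ⟨s, hs, rfl⟩ := hhalf w hw
    refine ⟨s, hs, ?_⟩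
    have h := huinv s hs
    calc s * u * s⁻¹ = s * u * (u * s * u⁻¹) := by rw [h]
      _ = s * (u * u) * s * u⁻¹ := by simp only [mul_assoc]
      _ = s * s * u := by rw [hsq u hu, mul_one, huu]
  have hcard_num : Nat.card {pr : G × G // IsConj g pr.1 ∧ IsConj g pr.2 ∧ pr.1 * pr.2 = v} = p := by
    have hcomm : ∀ w : (P : Subgroup G), (w : G) * v * (w : G)⁻¹ = v := fun w => by
      have h : (w : G) ∈ Subgroup.centralizer ((P : Subgroup G) : Set G) := hC.symm ▸ w.2
      rw [← Subgroup.mem_centralizer_iff.mp h v hv, mul_inv_cancel_right]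
    refine Eq.trans (Eq.symm ?_) hP
    refine Nat.card_eq_of_bijective (fun w : (P : Subgroup G) =>
      ⟨((w : G) * u * (w : G)⁻¹, (w : G) * u' * (w : G)⁻¹),
        hu.trans (isConj_iff.mpr ⟨w, rfl⟩), hu'.trans (isConj_iff.mpr ⟨w, rfl⟩), ?_⟩) ⟨?_, ?_⟩
    · calc (w : G) * u * (w : G)⁻¹ * ((w : G) * u' * (w : G)⁻¹) = (w : G) * (u * u') * (w : G)⁻¹ := by group
        _ = v := by rw [huv, hcomm]
    · intro w₁ w₂ h
      have h1 : (w₁ : G) * u * (w₁ : G)⁻¹ = (w₂ : G) * u * (w₂ : G)⁻¹ := congrArg (fun x => x.1.1) h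
      set w : G := (w₂ : G)⁻¹ * (w₁ : G) with hw
      have hwP : w ∈ (P : Subgroup G) := mul_mem (inv_mem w₂.2) w₁.2
      have h2 : u * w * u⁻¹ = w := by
        have h3 : (w₁ : G) * u = (w₂ : G) * u * (w₂ : G)⁻¹ * (w₁ : G) := mul_inv_eq_iff_eq_mul.mp h1
        rw [mul_inv_eq_iff_eq_mul]
        calc u * w = (w₂ : G)⁻¹ * ((w₂ : G) * u * (w₂ : G)⁻¹ * (w₁ : G)) := by rw [hw]; group
          _ = w * u := by rw [← h3, hw, mul_assoc]
      rw [huinv w hwP] at h2
      obtain ⟨s, hs, hs2⟩ := hhalf w hwP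
      have hw2 : w * w = 1 := by rw [← inv_eq_iff_mul_eq_one, h2]
      have ho2 : orderOf w ∣ 2 := orderOf_dvd_of_pow_eq_one (by rw [pow_two, hw2])
      have hop : orderOf w ∣ p := by
        have h := orderOf_dvd_natCard (⟨w, hwP⟩ : (P : Subgroup G))
        rwa [hP, Subgroup.orderOf_mk] at h
      have hw1 : w = 1 := orderOf_eq_one_iff.mp <| Nat.dvd_one.mp <| by
        rw [← (Nat.prime_two.coprime_iff_not_dvd.mpr hodd).gcd_eq_one]
        exact Nat.dvd_gcd ho2 hop
      exact Subtype.ext (inv_mul_eq_one.mp hw1).symm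
    · rintro ⟨⟨a, a'⟩, ha, ha', hav⟩
      simp only at ha ha' hav
      have hau : a * u ∈ (P : Subgroup G) := hcentv _ <| by
        have h1 := hinvv u u' hu hu' huv
        have h2 := hinvv a a' ha ha' hav
        have h3 : a * u * v * (a * u)⁻¹ = v := by
          calc a * u * v * (a * u)⁻¹ = a * (u * v * u⁻¹) * a⁻¹ := by group
            _ = v := by rw [h1, ← conj_inv, h2, inv_inv]
        exact mul_inv_eq_iff_eq_mul.mp h3
      obtain ⟨s, hs, hsu⟩ := hconju _ hau
      rw [show a * u * u = a by rw [mul_assoc, hsq u hu, mul_one]] at hsu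
      refine ⟨⟨s, hs⟩, Subtype.ext (Prod.ext hsu ?_)⟩
      show s * u' * s⁻¹ = a'
      calc s * u' * s⁻¹ = (s * u * s⁻¹)⁻¹ * (s * (u * u') * s⁻¹) := by group
        _ = a⁻¹ * v := by rw [hsu, huv, hcomm ⟨s, hs⟩]
        _ = a' := by rw [← hav, inv_mul_cancel_left]
  -- the values are small
  have hN : u ∈ Subgroup.normalizer ((P : Subgroup G) : Set G) := by
    refine Subgroup.mem_normalizer_iff.mpr fun h => ⟨fun hh => ?_, fun hh => ?_⟩
    · rw [huinv h hh]; exact inv_mem hh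
    · have h' := huinv _ hh
      have he : u * (u * h * u⁻¹) * u⁻¹ = h := by
        rw [huu, show u * (u * h * u) * u = (u * u) * h * (u * u) by simp only [mul_assoc], hsq u hu, one_mul, mul_one]
      rw [he] at h'
      rw [h']
      exact inv_mem hh
  have hclass : ∀ φ : G → ℂ, IsCharacter G φ → φ g = φ u ∧ ∀ w : (P : Subgroup G), φ ((w : G) * u) = φ u := by
    intro φ hφ
    have hcl := Char.isClassFunction_of_isCharacter hφ
    refine ⟨?_, fun w => ?_⟩
    · obtain ⟨c, hc⟩ := isConj_iff.mp hu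
      rw [← hc, hcl]
    · obtain ⟨s, -, hs⟩ := hconju w w.2
      rw [← hs, hcl]
  exact ⟨hcard_num, u, hsq u hu, hN, hclass⟩

/-- The power of 2 dividing the order is bounded by the values at a central involution. -/
theorem two_pow_bound [IsSimpleGroup G] (hG : ¬ IsMulCommutative G) (D : Data P)
    (hP : Nat.card (P : Subgroup G) = p) (hC : Subgroup.centralizer ((P : Subgroup G) : Set G) = (P : Subgroup G))
    (hT : Blocks.trivIrr G ∈ D.X) (hε : D.ε = -1) {b z : ℕ} (hb : 1 ≤ b)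
    (hz : ∀ ψ ∈ D.Y, charDegree (ψ : G → ℂ) = z) (hzp : z + D.e = p)
    (hcard : Nat.card G = p * 2 ^ b * z)
    (hX : ∀ χ ∈ D.X.erase (Blocks.trivIrr G), (D.δ χ = -1 ∧ ∃ j, charDegree (χ : G → ℂ) = 2 ^ j) ∨
      (D.δ χ = 1 ∧ charDegree (χ : G → ℂ) = p + 1)) :
    2 ^ b * (p + 1) ≤ (z + 1) * (p + 1) +
      4 * z * ((D.X.erase (Blocks.trivIrr G)).filter fun χ => D.δ χ = 1).card := by
  have hp : p.Prime := Fact.out
  have hp3 : 3 ≤ p := by
    have h1 := D.het
    have h2 : 2 * 1 ≤ D.e * D.t := Nat.mul_le_mul D.two_le_e D.one_le_t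
    omega
  have hodd : ¬ 2 ∣ p := fun h => by
    have := (Nat.prime_dvd_prime_iff_eq Nat.prime_two hp).mp h; omega
  have hz0 : 0 < z := by
    rcases Nat.eq_zero_or_pos z with h | h
    · rw [h, mul_zero] at hcard; exact absurd hcard Nat.card_pos.ne'
    · exact h
  obtain ⟨g, hg2, hg1, hgC, hgidx⟩ := exists_central_involution hb
    (hcard ▸ Dvd.dvd.mul_right (dvd_mul_left _ _) z)
  have hreg : ¬ p ∣ orderOf g := fun h => by
    have h2 : orderOf g ∣ 2 := orderOf_dvd_of_pow_eq_one (by rw [pow_two, hg2])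
    have := Nat.le_of_dvd (by norm_num) (h.trans h2)
    omega
  choose A hA using fun χ : IrrCharacter G =>
    exists_int_of_involution (Char.isCharacter_of_isIrr χ.2) hg2
  obtain ⟨ψ₀, hψ₀⟩ : D.Y.Nonempty := Finset.card_pos.mp (by rw [D.card_Y]; exact D.one_le_t)
  have hAY : ∀ ψ ∈ D.Y, A ψ = A ψ₀ := fun ψ hψ => by
    have h := (D.rel ψ hψ g hreg).trans (D.rel ψ₀ hψ₀ g hreg).symm
    rw [hε, hA, hA] at h
    exact_mod_cast mul_left_cancel₀ (by norm_num) h
  set X₀ := D.X.erase (Blocks.trivIrr G) with hX₀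
  set K := X₀.filter (fun χ => D.δ χ = 1) with hK
  have hzero : ∀ χ ∈ X₀, χ ∉ K → A χ = 0 := fun χ hχ hK' => by
    obtain ⟨hne, -⟩ := Finset.mem_erase.mp hχ
    rcases hX χ hχ with ⟨-, j, hj⟩ | ⟨h1, -⟩
    swap
    · exact absurd (Finset.mem_filter.mpr ⟨hχ, h1⟩) hK'
    have h0 := eq_zero_of_coprime hG hne hg1 (hj ▸ (Nat.prime_two.coprime_iff_not_dvd.mpr hgidx).pow_left j)
    rw [hA] at h0
    exact_mod_cast h0
  obtain ⟨v, hv, hv1⟩ : ∃ v, v ∈ (P : Subgroup G) ∧ v ≠ 1 := by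
    rcases (P : Subgroup G).bot_or_exists_ne_one with h | h
    · rw [h, Subgroup.card_bot] at hP
      exact absurd hP hp.one_lt.ne
    · exact h
  have hone : ∀ w ∈ (P : Subgroup G), w ≠ 1 → ∀ χ ∈ D.X, (χ : G → ℂ) w = D.δ χ := fun w hw hw1 χ hχ => by
    have h := D.valX χ hχ w hw hw1 1 (one_mem _) (orderOf_one (G := G) ▸ hp.not_dvd_one)
    rwa [mul_one] at h
  -- the class multiplication coefficient
  set S : ℝ := 1 + ∑ χ ∈ K, (A χ : ℝ) ^ 2 / (p + 1) + (A ψ₀ : ℝ) ^ 2 / z with hS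
  have hS1 : 1 ≤ S := by
    rw [hS, add_assoc]
    exact le_add_of_nonneg_right (add_nonneg (Finset.sum_nonneg fun χ _ => by positivity) (by positivity))
  have hsum : ∑ χ : IrrCharacter G,
      (χ : G → ℂ) g * (χ : G → ℂ) g * conj ((χ : G → ℂ) v) / (χ : G → ℂ) 1 = (S : ℂ) := by
    rw [← Finset.sum_subset (Finset.subset_univ (D.X ∪ D.Y)) fun χ _ hχ => by
      rw [D.out hC χ (fun h => hχ (Finset.mem_union_left _ h)) (fun h => hχ (Finset.mem_union_right _ h)) v hv hv1,
        map_zero, mul_zero, zero_div],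
      Finset.sum_union D.disj, ← Finset.add_sum_erase _ _ hT, ← hX₀,
      Finset.sum_congr (s₁ := D.Y) rfl (g := fun ψ : IrrCharacter G =>
        ((A ψ₀ : ℂ) ^ 2 / (z : ℂ)) * conj ((ψ : G → ℂ) v)) (fun ψ hψ => by
        rw [hA, hAY ψ hψ, BrauerReynolds.value_one, hz ψ hψ]; ring),
      ← Finset.mul_sum, ← map_sum, D.sumY v hv hv1, hε,
      ← Finset.sum_subset (Finset.filter_subset (fun χ => D.δ χ = 1) X₀) (fun χ hχ hK' => by
        rw [hA, hzero χ hχ hK']; simp),
      Finset.sum_congr (s₁ := K) rfl (g := fun χ : IrrCharacter G => ((((A χ : ℝ) ^ 2 / (p + 1)) : ℝ) : ℂ)) (fun χ hχ => by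
        obtain ⟨hχ', hd⟩ := Finset.mem_filter.mp hχ
        rcases hX χ hχ' with ⟨h, -⟩ | ⟨-, h⟩
        · omega
        rw [hA, hone v hv hv1 χ (Finset.mem_of_mem_erase hχ'), hd, BrauerReynolds.value_one, h]
        push_cast
        simp [pow_two]),
      hS]
    simp [Blocks.trivIrr]
  -- pairs of conjugates of `g` with product `v`
  set idx := (Subgroup.centralizer ({g} : Set G)).index with hidx
  set cg := Nat.card (Subgroup.centralizer ({g} : Set G)) with hcg
  have hmul : (cg : ℂ) * idx = (Nat.card G : ℂ) := by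
    exact_mod_cast (Subgroup.centralizer ({g} : Set G)).card_mul_index
  have hG0 : (Nat.card G : ℂ) ≠ 0 := Nat.cast_ne_zero.mpr Nat.card_pos.ne'
  have hidx0 : (idx : ℂ) ≠ 0 := Nat.cast_ne_zero.mpr Subgroup.index_ne_zero_of_finite
  have hnum := Char.class_mult g g v
  rw [hsum] at hnum
  have hne : Nonempty {pr : G × G // IsConj g pr.1 ∧ IsConj g pr.2 ∧ pr.1 * pr.2 = v} := by
    by_contra h
    rw [not_nonempty_iff] at h
    rw [Nat.card_of_isEmpty, Nat.cast_zero] at hnum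
    have hS0 : (S : ℂ) ≠ 0 := by
      exact_mod_cast (show S ≠ 0 by linarith)
    exact mul_ne_zero (div_ne_zero (mul_ne_zero hidx0 hidx0) hG0) hS0 hnum.symm
  obtain ⟨hcard_num, u, huu2, hN, hclass⟩ := pairs_of_nonempty hP hC hodd hg2 hv hv1 hne
  have hAK : ∀ χ ∈ K, (A χ : ℝ) ^ 2 ≤ 4 := fun χ hχ => by
    obtain ⟨hχ', hd⟩ := Finset.mem_filter.mp hχ
    have hφ := Char.isCharacter_of_isIrr χ.2
    have hdeg : charDegree (χ : G → ℂ) = p + 1 := by
      rcases hX χ hχ' with ⟨h, -⟩ | ⟨-, h⟩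
      · omega
      · exact h
    obtain ⟨a, ha, hab⟩ := exists_fixed_trace hφ (P : Subgroup G) hP huu2 hN (hclass _ hφ).2
      (K := 2) (by
        rw [← Finset.add_sum_erase _ _ (Finset.mem_univ (1 : (P : Subgroup G))),
          Finset.sum_congr rfl (g := fun _ => (1 : ℂ)) (fun w hw => by
            rw [hone w w.2 (fun e => Finset.ne_of_mem_erase hw (Subtype.ext e)) χ
              (Finset.mem_of_mem_erase hχ'), hd, Int.cast_one]),
          Finset.sum_const, Finset.card_erase_of_mem (Finset.mem_univ _), Finset.card_univ,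
          ← Nat.card_eq_fintype_card, hP, Subgroup.coe_one, BrauerReynolds.value_one, hdeg]
        push_cast [Nat.cast_sub hp.one_le, nsmul_eq_mul]
        ring)
    rw [← (hclass _ hφ).1, hA] at ha
    have ha' : A χ = a := by exact_mod_cast ha
    rw [ha']
    have h4 : a ^ 2 ≤ 4 := by
      obtain ⟨h1, h2⟩ := abs_le.mp hab
      push_cast at h1 h2
      nlinarith
    exact_mod_cast h4
  have hAψ : (A ψ₀ : ℝ) ^ 2 ≤ 1 := by
    have hφ : IsCharacter G (∑ ψ ∈ D.Y, (ψ : G → ℂ)) :=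
      Char.isCharacter_sum _ _ fun ψ _ => Char.isCharacter_of_isIrr ψ.2
    obtain ⟨a, ha, hab⟩ := exists_fixed_trace hφ (P : Subgroup G) hP huu2 hN (hclass _ hφ).2
      (K := D.t) (by
        rw [← Finset.add_sum_erase _ _ (Finset.mem_univ (1 : (P : Subgroup G))),
          Finset.sum_congr rfl (g := fun _ => (1 : ℂ)) (fun w hw => by
            rw [Finset.sum_apply, D.sumY w w.2 (fun e => Finset.ne_of_mem_erase hw (Subtype.ext e)), hε]
            simp),
          Finset.sum_const, Finset.card_erase_of_mem (Finset.mem_univ _), Finset.card_univ,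
          ← Nat.card_eq_fintype_card, hP, Subgroup.coe_one, Finset.sum_apply,
          Finset.sum_congr rfl (g := fun _ => (z : ℂ)) (fun ψ hψ => by
            rw [BrauerReynolds.value_one, hz ψ hψ]), Finset.sum_const, D.card_Y]
        have hzp'' : (z : ℂ) + D.e = p := by exact_mod_cast hzp
        have hett : (D.e : ℂ) * D.t + 1 = p := by exact_mod_cast D.het
        push_cast [Nat.cast_sub hp.one_le, nsmul_eq_mul]
        linear_combination (D.t : ℂ) * hzp'' - hett)
    rw [← (hclass _ hφ).1, Finset.sum_apply, Finset.sum_congr rfl (g := fun _ => (A ψ₀ : ℂ))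
      (fun ψ hψ => by rw [hA, hAY ψ hψ]), Finset.sum_const, D.card_Y, nsmul_eq_mul] at ha
    have ha' : (D.t : ℤ) * A ψ₀ = a := by exact_mod_cast ha
    rw [← ha', abs_mul, Nat.abs_cast] at hab
    have h1 : |A ψ₀| ≤ 1 := by
      refine le_of_mul_le_mul_left ?_ (show (0 : ℤ) < D.t by exact_mod_cast D.one_le_t)
      rwa [mul_one]
    have h4 : A ψ₀ ^ 2 ≤ 1 := (sq_le_one_iff_abs_le_one _).mpr h1
    exact_mod_cast h4
  -- the equation
  rw [hcard_num] at hnum
  have heq : ((cg : ℝ)) ^ 2 = 2 ^ b * z * S := by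
    have hG' : (Nat.card G : ℂ) = (p : ℂ) * 2 ^ b * z := by exact_mod_cast hcard
    have h1 : ((cg : ℂ)) ^ 2 * (p : ℂ) = (p : ℂ) * (2 ^ b * z * (S : ℂ)) := by
      calc ((cg : ℂ)) ^ 2 * (p : ℂ) = ((cg : ℂ) * idx) * ((cg : ℂ) * idx) / (Nat.card G : ℂ) * S := by
            rw [hnum]; ring
        _ = (Nat.card G : ℂ) * S := by rw [hmul, mul_div_assoc, div_self hG0, mul_one]
        _ = _ := by rw [hG']; ring
    rw [mul_comm (((cg : ℂ)) ^ 2)] at h1
    have h2 := mul_left_cancel₀ (Nat.cast_ne_zero.mpr hp.ne_zero) h1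
    exact_mod_cast h2
  have hcgle : (2 : ℝ) ^ b ≤ cg := by exact_mod_cast Nat.le_of_dvd Nat.card_pos hgC
  have hle : (2 : ℝ) ^ b ≤ z * S := by
    have h1 : (2 : ℝ) ^ b * (2 ^ b) ≤ 2 ^ b * (z * S) := by
      rw [← mul_assoc, ← heq, ← pow_two]
      exact pow_le_pow_left₀ (by positivity) hcgle 2
    exact le_of_mul_le_mul_left h1 (by positivity)
  have hSle : (z : ℝ) * S * (p + 1) ≤ (z + 1) * (p + 1) + 4 * z * K.card := by
    have hz' : (0 : ℝ) < z := by exact_mod_cast hz0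
    have hp' : (0 : ℝ) < p + 1 := by positivity
    have hKsum : (∑ χ ∈ K, (A χ : ℝ) ^ 2 / ((p : ℝ) + 1)) ≤ 4 * (K.card : ℝ) / ((p : ℝ) + 1) := by
      calc (∑ χ ∈ K, (A χ : ℝ) ^ 2 / ((p : ℝ) + 1)) ≤ ∑ _χ ∈ K, (4 : ℝ) / ((p : ℝ) + 1) :=
            Finset.sum_le_sum fun χ hχ => div_le_div_of_nonneg_right (hAK χ hχ) hp'.le
        _ = _ := by rw [Finset.sum_const, nsmul_eq_mul]; ring
    calc (z : ℝ) * S * (p + 1) ≤ z * (1 + 4 * K.card / (p + 1) + 1 / z) * (p + 1) := by
          rw [hS]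
          gcongr
      _ = _ := by field_simp; ring
  have : (2 : ℝ) ^ b * (p + 1) ≤ (z + 1) * (p + 1) + 4 * z * K.card :=
    le_trans (mul_le_mul_of_nonneg_right hle (by positivity)) hSle
  exact_mod_cast this

end CfsgLib.BrauerTuan
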