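import Cfsg.Agent.Lib.BrauerTuan.Orders

/-!
# Two primes dividing the order once: commuting elements
-/

set_option autoImplicit false
set_option linter.style.haveILetI false

namespace CfsgLib.BrauerTuan

universe u

/-- If `q` divides the order of the centralizer of a Sylow `p`-subgroup of order `p`, then `p` divides
that of a Sylow `q`-subgroup of order `q`. -/
theorem dvd_card_centralizer_swap {G : Type u} [Group G] [Finite G] {p q : ℕ} [Fact p.Prime] [Fact q.Prime]
    (P : Sylow p G) (Q : Sylow q G) (hP : Nat.card (P : Subgroup G) = p) (hQ : Nat.card (Q : Subgroup G) = q)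
    (h : q ∣ Nat.card (Subgroup.centralizer ((P : Subgroup G) : Set G))) :
    p ∣ Nat.card (Subgroup.centralizer ((Q : Subgroup G) : Set G)) := by
  obtain ⟨y, hy⟩ := exists_prime_orderOf_dvd_card' q h
  have hyo : orderOf (y : G) = q := by rw [Subgroup.orderOf_coe]; exact hy
  obtain ⟨R, hR⟩ := (IsPGroup.of_card (p := q) (n := 1)
    (show Nat.card (Subgroup.zpowers (y : G)) = q ^ 1 by rw [Nat.card_zpowers, hyo, pow_one])).exists_le_sylow
  obtain ⟨c, hc⟩ := MulAction.exists_smul_eq G R Q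
  have hyQ : c * (y : G) * c⁻¹ ∈ (Q : Subgroup G) := by
    rw [← hc, Sylow.coe_subgroup_smul]
    exact Subgroup.smul_mem_pointwise_smul _ (MulAut.conj c) _ (hR (Subgroup.mem_zpowers _))
  have hz : Subgroup.zpowers (c * (y : G) * c⁻¹) = (Q : Subgroup G) :=
    Subgroup.eq_of_le_of_card_ge (Subgroup.zpowers_le.mpr hyQ) (by
      rw [Nat.card_zpowers, ← MulAut.conj_apply, MulEquiv.orderOf_eq, hyo, hQ])
  obtain ⟨v, hv⟩ := exists_prime_orderOf_dvd_card' (G := (P : Subgroup G)) p (by rw [hP])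
  have hmem : c * (v : G) * c⁻¹ ∈ Subgroup.centralizer ((Q : Subgroup G) : Set G) := by
    refine Subgroup.mem_centralizer_iff.mpr fun a ha => ?_
    rw [← hz] at ha
    obtain ⟨i, rfl⟩ := Subgroup.mem_zpowers_iff.mp ha
    refine (Commute.zpow_left ?_ i).eq
    have hvy : (y : G) * v = v * y := (Subgroup.mem_centralizer_iff.mp y.2 v v.2).symm
    show c * (y : G) * c⁻¹ * (c * v * c⁻¹) = c * v * c⁻¹ * (c * (y : G) * c⁻¹)
    calc c * (y : G) * c⁻¹ * (c * v * c⁻¹) = c * ((y : G) * v) * c⁻¹ := by group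
      _ = _ := by rw [hvy]; group
  have h3 := orderOf_dvd_natCard (⟨_, hmem⟩ : Subgroup.centralizer ((Q : Subgroup G) : Set G))
  rwa [Subgroup.orderOf_mk, ← MulAut.conj_apply, MulEquiv.orderOf_eq, Subgroup.orderOf_coe, hv] at h3

end CfsgLib.BrauerTuan
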