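import Cfsg.Agent.Lib.BrauerTuan.Basic

/-!
# The principal block of a simple group with a Sylow subgroup of order `p`
-/

set_option autoImplicit false
set_option linter.unusedSectionVars false
set_option linter.style.haveILetI false

namespace CfsgLib.BrauerTuan

open Cfsg
open scoped ComplexConjugate CfsgLib.Char
open CfsgLib
open scoped _root_.Classical

universe u

variable {G : Type u} [Group G] [Fintype G] {p : ℕ} [Fact p.Prime]

/-- The rows of the principal block, with `C = C(P)` arbitrary. -/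
structure Data (P : Sylow p G) where
  n : ℕ
  n_pos : 1 ≤ n
  e : ℕ
  t : ℕ
  X : Finset (IrrCharacter G)
  Y : Finset (IrrCharacter G)
  δ : IrrCharacter G → ℤ
  ε : ℤ
  card_G : Nat.card G = e * (1 + n * p) * Nat.card (Subgroup.centralizer ((P : Subgroup G) : Set G))
  card_sylow : Nat.card (Sylow p G) = 1 + n * p
  two_le_e : 2 ≤ e
  one_le_t : 1 ≤ t
  het : e * t + 1 = p
  disj : Disjoint X Y
  card_X : X.card = e
  card_Y : Y.card = t
  hδ : ∀ χ ∈ X, δ χ = 1 ∨ δ χ = -1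
  hε : ε = 1 ∨ ε = -1
  triv : Blocks.trivIrr G ∈ X ∪ Y
  valX : ∀ χ ∈ X, ∀ v ∈ (P : Subgroup G), v ≠ 1 →
    ∀ y ∈ Subgroup.centralizer ((P : Subgroup G) : Set G), ¬ p ∣ orderOf y → (χ : G → ℂ) (v * y) = δ χ
  valY : ∀ ψ ∈ Y, ∀ v ∈ (P : Subgroup G), v ≠ 1 →
    ∀ y ∈ Subgroup.centralizer ((P : Subgroup G) : Set G), ¬ p ∣ orderOf y →
      (ψ : G → ℂ) (v * y) = (ψ : G → ℂ) v
  sumY : ∀ v ∈ (P : Subgroup G), v ≠ 1 → ∑ ψ ∈ Y, (ψ : G → ℂ) v = -(ε : ℂ)
  rel : ∀ ψ ∈ Y, ∀ g, ¬ p ∣ orderOf g → (ε : ℂ) * (ψ : G → ℂ) g = ∑ χ ∈ X, (δ χ : ℂ) * (χ : G → ℂ) g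
  degX : ∀ χ ∈ X, (charDegree (χ : G → ℂ) : ℤ) ≡ δ χ [ZMOD p]
  degY : ∀ ψ ∈ Y, (charDegree (ψ : G → ℂ) : ℤ) ≡ ε * e [ZMOD p]
  dvdX : ∀ χ ∈ X, charDegree (χ : G → ℂ) ∣ e * (1 + n * p)
  dvdY : ∀ ψ ∈ Y, charDegree (ψ : G → ℂ) ∣ e * (1 + n * p)
  degY_eq : ∀ ψ ∈ Y, ∀ ψ' ∈ Y, charDegree (ψ : G → ℂ) = charDegree (ψ' : G → ℂ)
  out : Subgroup.centralizer ((P : Subgroup G) : Set G) = (P : Subgroup G) →
    ∀ χ : IrrCharacter G, χ ∉ X → χ ∉ Y → ∀ v ∈ (P : Subgroup G), v ≠ 1 → (χ : G → ℂ) v = 0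

theorem nonempty_data [IsSimpleGroup G] (hG : ¬ IsCyclic G) (P : Sylow p G)
    (hP : Nat.card (P : Subgroup G) = p) : Nonempty (Data P) := by
  obtain ⟨n, hn⟩ : ∃ n, Nat.card (Sylow p G) = 1 + n * p := ⟨Nat.card (Sylow p G) / p, by
    have h := card_sylow_modEq_one p G
    rw [Nat.ModEq, Nat.mod_eq_of_lt (Fact.out : p.Prime).one_lt] at h
    conv_lhs => rw [← Nat.mod_add_div (Nat.card (Sylow p G)) p, h, mul_comm p]⟩
  have hp : p.Prime := Fact.out
  have hcomm := BrauerReynolds.not_comm_of_not_cyclic' hG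
  have hdvdG : p ∣ Nat.card G := hP ▸ Subgroup.card_subgroup_dvd_card (P : Subgroup G)
  have hsq : ¬ p ^ 2 ∣ Nat.card G := fun h => by
    have h2 : 2 ≤ (Nat.card G).factorization p :=
      (hp.pow_dvd_iff_le_factorization Nat.card_pos.ne').mp h
    have h' := Sylow.card_eq_multiplicity P
    rw [hP] at h'
    have : p ^ 2 ≤ p ^ 1 := by
      rw [pow_one]
      calc p ^ 2 ≤ p ^ (Nat.card G).factorization p := Nat.pow_le_pow_right hp.pos h2
        _ = p := h'.symm
    exact absurd ((Nat.pow_le_pow_iff_right hp.one_lt).mp this) (by omega)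
  have hnn : ∀ K : Subgroup G, K.Normal → Nat.card K ≠ p := fun K hK hc => by
    rcases hK.eq_bot_or_eq_top with h | h
    · rw [h, Subgroup.card_bot] at hc
      exact hp.one_lt.ne hc
    · rw [h, Subgroup.card_top] at hc
      exact hG (isCyclic_of_prime_card hc)
  have hn1 : 1 ≤ n := by
    by_contra h
    refine SmallOrder.card_sylow_ne_one hcomm hdvdG ?_
    rw [hn, show n = 0 by omega, zero_mul, add_zero]
  have hm : 1 < 1 + n * p := by have := Nat.mul_pos hn1 hp.pos; omega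
  obtain ⟨M, hM⟩ := Blocks.exists_isPModular hp
  haveI := Blocks.isPrime_of_isPModular hM
  set S := Blocks.PrimeDefect.principalSetup hM P hP with hS
  set e := S.C.relIndex S.N with he_def
  have hSe : S.e = e := by
    rw [Blocks.PrimeDefect.Setup.e, Blocks.PrimeDefect.principal_T hM P hP]
  have hidx : S.C.index = e * (1 + n * p) := by
    rw [← Subgroup.relIndex_mul_index S.C_le_N, ← hn, Sylow.card_eq_index_normalizer P]
    rfl
  have he2 : 2 ≤ e := by
    have h0 : e ≠ 0 := Subgroup.index_ne_zero_of_finite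
    have h1 : e ≠ 1 := fun h =>
      SmallOrder.not_normalizer_le_centralizer hcomm hdvdG P (Subgroup.relIndex_eq_one.mp h)
    omega
  have hdeg1 : charDegree (S.θ : S.C → ℂ) = 1 := Blocks.PrimeDefect.principal_degree hM P hP
  obtain ⟨hdvd, X, Y, δ, ε, hdisj, hmem, hXc, hYc, hε, hδ, ha, hdX, hdY, hrel, -⟩ := S.structure_block
  rw [hSe, hdeg1, Nat.div_self (by omega)] at hdX
  rw [hdeg1, mul_one] at hdY
  have hweq := S.weight_eq
  rw [hSe] at hXc hYc hdvd hweq
  set t := (p - 1) / e with ht_def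
  have het : e * t + 1 = p := by rw [ht_def, Nat.mul_div_cancel' hdvd]; have := hp.one_lt; omega
  have ht1 : 1 ≤ t := by
    rcases Nat.eq_zero_or_pos t with h | h
    · rw [h, mul_zero] at het; have := hp.one_lt; omega
    · exact h
  have hep : e < p := by have := Nat.le_mul_of_pos_right e ht1; omega
  have hB : ∀ χ ∈ X ∪ Y, χ ∈ principalBlock M G := fun χ hχ => (hmem χ).mpr hχ
  have hone : ¬ p ∣ orderOf (1 : G) := orderOf_one (G := G) ▸ hp.not_dvd_one
  obtain ⟨v, hv, hv1⟩ : ∃ v, v ∈ (P : Subgroup G) ∧ v ≠ 1 := by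
    rcases (P : Subgroup G).bot_or_exists_ne_one with h | h
    · rw [h, Subgroup.card_bot] at hP
      exact absurd hP hp.one_lt.ne
    · exact h
  -- the sum over the exceptional characters
  have hsumY : ∀ u ∈ (P : Subgroup G), u ≠ 1 → ∑ ψ ∈ Y, S.a ψ u = -(ε : ℂ) := by
    intro u hu hu1
    obtain ⟨ψ₀, hψ₀⟩ : Y.Nonempty := Finset.card_pos.mp (by rw [hYc]; exact ht1)
    have h := S.sum_a_mul_regular (v := u) hu hu1 (g := 1) (Blocks.PrimeDefect.Setup.isPRegular_one hp)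
    rw [show (Finset.univ.filter fun χ => χ ∈ S.B) = X ∪ Y from
      Finset.ext fun χ => by simp [hmem], Finset.sum_union hdisj] at h
    have hYdeg : ∀ ψ ∈ Y, (ψ : G → ℂ) 1 = (ψ₀ : G → ℂ) 1 := fun ψ hψ =>
      mul_left_cancel₀ (show (ε : ℂ) ≠ 0 by rcases hε with h | h <;> simp [h])
        ((hrel ψ hψ 1 hone).trans (hrel ψ₀ hψ₀ 1 hone).symm)
    rw [Finset.sum_congr (s₁ := X) rfl (g := fun χ => (δ χ : ℂ) * (χ : G → ℂ) 1) (fun χ hχ => by
        rw [ha χ hχ u hu hu1, BrauerReynolds.value_one, Complex.conj_natCast]),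
      ← hrel ψ₀ hψ₀ 1 hone,
      Finset.sum_congr (s₁ := Y) rfl (g := fun ψ => S.a ψ u * (ψ₀ : G → ℂ) 1) (fun ψ hψ => by
        rw [hYdeg ψ hψ, BrauerReynolds.value_one ψ₀, Complex.conj_natCast]), ← Finset.sum_mul, ← add_mul] at h
    have := (mul_eq_zero.mp h).resolve_right (Char.irr_degree_ne_zero ψ₀.2)
    linear_combination this
  have hvalY : ∀ v ∈ (P : Subgroup G), v ≠ 1 → ∑ ψ ∈ Y, (ψ : G → ℂ) v = -(ε : ℂ) := by
    intro v hv hv1
    have hT : (Nat.card S.T : ℂ) ≠ 0 := Nat.cast_ne_zero.mpr Nat.card_pos.ne'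
    refine mul_left_cancel₀ hT ?_
    rw [Finset.mul_sum]
    have hterm : ∀ ψ ∈ Y, (Nat.card S.T : ℂ) * (ψ : G → ℂ) v =
        ∑ g : G with g ∈ S.N, S.a ψ (g⁻¹ * v * g) := by
      intro ψ hψ
      have hval := S.value_section (hB ψ (Finset.mem_union_right _ hψ)) hv hv1 (y := 1)
        (Blocks.PrimeDefect.Setup.isPRegular_one hp)
      rw [Subgroup.coe_one, mul_one] at hval
      rw [hval]
      refine Finset.sum_congr rfl fun g _ => ?_
      have h1 : g⁻¹ * 1 * g = 1 := by group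
      rw [dif_pos (show g⁻¹ * 1 * g ∈ S.C by rw [h1]; exact one_mem _)]
      exact (mul_one _)
    rw [Finset.sum_congr rfl hterm, Finset.sum_comm,
      Finset.sum_congr rfl (s₁ := Finset.univ.filter fun g : G => g ∈ S.N) (g := fun _ => -(ε : ℂ)) fun g hg => hsumY (g⁻¹ * v * g)
        ((Subgroup.mem_normalizer_iff''.mp (Finset.mem_filter.mp hg).2 v).mp hv) fun e => hv1 (by
          have := congrArg (fun z => g * z * g⁻¹) e
          simpa [mul_assoc] using this),
      Finset.sum_const, nsmul_eq_mul, ← Fintype.card_subtype, ← Nat.card_eq_fintype_card,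
      show Nat.card {g // g ∈ S.N} = Nat.card S.T by rw [hS, Blocks.PrimeDefect.principal_T hM P hP]]
  have hcent : Subgroup.centralizer ({v} : Set G) = S.C := (S.centralizer_eq hv hv1).symm
  -- the degrees divide the index of the centralizer
  have hdivX : ∀ χ ∈ X, (χ : G → ℂ) v = δ χ → charDegree (χ : G → ℂ) ∣ e * (1 + n * p) := by
    intro χ hχ hval
    refine Char.dvd_of_isIntegral_div (Blocks.irr_degree_eq χ).2.ne' ?_
    have h := Char.isIntegral_omega_irr χ.2 v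
    rw [Char.omega, hcent, hidx, hval, BrauerReynolds.value_one] at h
    refine BrauerReynolds.isIntegral_of_sign (hδ χ hχ) ?_
    rwa [div_mul_eq_mul_div]
  have hval : ∀ χ ∈ X ∪ Y, ∀ σ : ℤ, (∀ u ∈ (P : Subgroup G), u ≠ 1 → S.a χ u = σ) →
      ∀ u ∈ (P : Subgroup G), u ≠ 1 → ∀ y ∈ S.C, ¬ p ∣ orderOf y → (χ : G → ℂ) (u * y) = σ :=
    fun χ hχ σ hσ u hu hu1 y hy hyr =>
      Blocks.PrimeDefect.principal_value hM P hP (hB χ hχ) hσ hu hu1 hy hyr
  have hvalX : ∀ χ ∈ X, (χ : G → ℂ) v = δ χ := fun χ hχ => by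
    have := hval χ (Finset.mem_union_left _ hχ) (δ χ) (ha χ hχ) v hv hv1 1 (one_mem _) hone
    rwa [mul_one] at this
  have hvalY' : ∀ ψ ∈ Y, ∀ u ∈ (P : Subgroup G), u ≠ 1 → ∀ y ∈ S.C, ¬ p ∣ orderOf y →
      (ψ : G → ℂ) (u * y) = (ψ : G → ℂ) u := by
    intro ψ hψ u hu hu1 y hy hyr
    have h1 := S.value_section (hB ψ (Finset.mem_union_right _ hψ)) hu hu1 (y := ⟨y, hy⟩)
      (by rw [IsPRegular, ← Subgroup.orderOf_coe]; exact hyr)
    have h2 := S.value_section (hB ψ (Finset.mem_union_right _ hψ)) hu hu1 (y := 1)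
      (Blocks.PrimeDefect.Setup.isPRegular_one hp)
    rw [Subgroup.coe_one, mul_one] at h2
    refine mul_left_cancel₀ (Nat.cast_ne_zero.mpr (Nat.card_pos (α := S.T)).ne') ((h1.trans ?_).trans h2.symm)
    refine Finset.sum_congr rfl fun g hg => ?_
    have hgN : g ∈ S.N := (Finset.mem_filter.mp hg).2
    have hyC : g⁻¹ * y * g ∈ S.C := by
      have := (S.conj_C_iff (inv_mem hgN) y).mpr hy
      rwa [inv_inv] at this
    rw [dif_pos (show g⁻¹ * ((⟨y, hy⟩ : S.C) : G) * g ∈ S.C from hyC),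
      dif_pos (show g⁻¹ * 1 * g ∈ S.C by rw [mul_one, inv_mul_cancel]; exact one_mem _)]
    rfl
  have hYdeg : ∀ ψ ∈ Y, ∀ ψ' ∈ Y, charDegree (ψ : G → ℂ) = charDegree (ψ' : G → ℂ) := by
    intro ψ hψ ψ' hψ'
    have h1 := (hrel ψ hψ 1 hone).trans (hrel ψ' hψ' 1 hone).symm
    have h2 := mul_left_cancel₀ (show (ε : ℂ) ≠ 0 by rcases hε with h | h <;> simp [h]) h1
    rw [BrauerReynolds.value_one, BrauerReynolds.value_one] at h2
    exact_mod_cast h2
  have hdivY : ∀ ψ ∈ Y, charDegree (ψ : G → ℂ) ∣ e * (1 + n * p) := by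
    intro ψ₀ hψ₀
    refine Char.dvd_of_isIntegral_div (Blocks.irr_degree_eq ψ₀).2.ne' ?_
    have h : IsIntegral ℤ (∑ ψ ∈ Y, Char.omega ((ψ : IrrCharacter G) : G → ℂ) v) :=
      IsIntegral.sum _ fun ψ _ => Char.isIntegral_omega_irr ψ.2 v
    rw [Finset.sum_congr (s₁ := Y) rfl
      (g := fun ψ => ((e * (1 + n * p) : ℕ) : ℂ) * (ψ : G → ℂ) v / (charDegree (ψ₀ : G → ℂ) : ℂ))
      fun ψ hψ => by rw [Char.omega, hcent, hidx, BrauerReynolds.value_one, hYdeg ψ hψ ψ₀ hψ₀],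
      ← Finset.sum_div, ← Finset.mul_sum, hvalY v hv hv1] at h
    refine BrauerReynolds.isIntegral_of_sign (σ := -ε) (by rcases hε with hd | hd <;> simp [hd]) ?_
    rwa [div_mul_eq_mul_div, Int.cast_neg]
  refine ⟨{ n := n, n_pos := hn1, e := e, t := t, X := X, Y := Y, δ := δ, ε := ε,
            card_G := ?_, card_sylow := hn, two_le_e := he2, one_le_t := ht1, het := het,
            disj := hdisj, card_X := hXc, card_Y := hYc, hδ := hδ, hε := hε,
            triv := (hmem _).mp (Blocks.trivIrr_mem_principalBlock _),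
            valX := fun χ hχ u hu hu1 y hy hyr =>
              hval χ (Finset.mem_union_left _ hχ) _ (ha χ hχ) u hu hu1 y hy hyr,
            valY := hvalY', sumY := hvalY, rel := hrel,
            degX := fun χ hχ => by simpa using hdX χ hχ,
            degY := hdY, dvdX := fun χ hχ => hdivX χ hχ (hvalX χ hχ), dvdY := hdivY,
            degY_eq := hYdeg, out := ?_ }⟩
  · rw [← hidx, mul_comm]
    exact (Subgroup.card_mul_index S.C).symm
  · intro hC χ hX hY u hu hu1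
    refine Char.defect_zero_vanish χ.2 (p := p) (n := 1) (Blocks.irr_degree_eq χ).1
      (by rw [pow_one]; exact hdvdG) hsq ?_ (by
        rw [show orderOf u = p from S.orderOf_mem hu hu1])
    rw [pow_one]
    by_contra hd
    have hcount := Blocks.PrimeDefect.count_eq hM (P := (P : Subgroup G)) hP hdvdG hsq
    rw [BrauerReynolds.weight_self_centralizing hC] at hcount
    have hf : Nat.card (Subgroup.normalizer ((P : Subgroup G) : Set G)) = e * p := by
      have h := (S.C.subgroupOf S.N).index_mul_card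
      rw [Nat.card_congr (Subgroup.subgroupOfEquivOfLe S.C_le_N).toEquiv,
        show Nat.card S.C = p by rw [show S.C = (P : Subgroup G) from hC, hP]] at h
      exact h.symm
    rw [hf, hP, Nat.mul_div_cancel _ hp.pos] at hcount
    change e * _ = e ^ 2 + (p - 1) at hcount
    have hsub : (X ∪ Y) ⊆ Finset.univ.filter fun χ : IrrCharacter G => ¬ p ∣ charDegree (χ : G → ℂ) :=
      fun ξ hξ => Finset.mem_filter.mpr ⟨Finset.mem_univ _, S.not_dvd_degree_mem ((hmem ξ).mpr hξ)⟩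
    have hle : (Finset.univ.filter fun χ : IrrCharacter G => ¬ p ∣ charDegree (χ : G → ℂ)).card ≤
        (X ∪ Y).card := by
      rw [← Fintype.card_subtype, ← Nat.card_eq_fintype_card]
      refine (Nat.eq_of_mul_eq_mul_left (show 0 < e by omega) ?_).le
      rw [hcount, hweq, show S.B = ↑(X ∪ Y) from Set.ext fun χ => by rw [hmem, Finset.mem_coe],
        Nat.card_eq_card_toFinset, Finset.toFinset_coe]
    have := Finset.eq_of_subset_of_card_le hsub hle
    have : χ ∈ X ∪ Y := this.symm ▸ Finset.mem_filter.mpr ⟨Finset.mem_univ _, hd⟩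
    exact (Finset.mem_union.mp this).elim hX hY

end CfsgLib.BrauerTuan
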