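import Cfsg.Agent.Lib.SmallOrder.Exclude
import Cfsg.Agent.Lib.SmallOrder.Klein
import Cfsg.Agent.Lib.Perm.JordanPrime
import Mathlib.GroupTheory.SpecificGroups.Alternating

/-!
# There is no simple group of order 5400

An element of order 5 in the intersection of two Sylow 5-subgroups moves only five conjugates of that
intersection, so Jordan's theorem gives a contradiction.
-/

set_option autoImplicit false
set_option linter.unusedSectionVars false
set_option linter.style.haveILetI false

namespace CfsgLib.BrauerTuan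

theorem key_card_sylow_5400 : ∀ c < 217, 216 % c = 0 → c % 5 = 1 → 10 ≤ c → c = 36 ∨ c = 216 := by
  decide +kernel

theorem key_six_5400 :
    ∀ s' < 22, ∀ t' < 22, 216 % s' = 0 → s' % t' = 0 → t' % 5 = 1 → 2 ≤ t' → t' = 6 := by
  intro s' hs
  interval_cases s' <;> decide +kernel

theorem key_index_5400 : ∀ j' < 4, ∀ i < 151, 25 * j' * i = 150 → i = 36 / (6 * j') := by
  decide +kernel

theorem badIndex_5400 : ∀ e < 10, e < 2 ∨ 5400 % e ≠ 0 ∨ SmallOrder.badIndex 5400 e = true := by
  decide +kernel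

open scoped _root_.Classical

universe u

variable {G : Type u} [Group G] [Finite G] [IsSimpleGroup G]

theorem ten_le_index (hn : Nat.card G = 5400) {H : Subgroup G} (hH : H ≠ ⊤) : 10 ≤ H.index := by
  have hcomm : ¬ IsMulCommutative G := SmallOrder.not_comm_of_not_prime (by rw [hn]; norm_num)
  have hb := SmallOrder.badIndex_eq_false hcomm hH
  have h2 := SmallOrder.two_le_index hH
  by_contra h
  rcases badIndex_5400 H.index (by omega) with h' | h' | h'
  · omega
  · exact h' (Nat.mod_eq_zero_of_dvd (hn ▸ H.index_dvd_card))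
  · rw [hn, h'] at hb
    exact Bool.noConfusion hb

/-- A group element moving at most five points of the cosets of a proper subgroup and of order 5. -/
theorem false_of_five_moved (hn : Nat.card G = 5400) {N : Subgroup G} (hN : N ≠ ⊤) {d : G}
    (hd : orderOf d = 5) (hmove : Nat.card {q : G ⧸ N // d • q ≠ q} ≤ 5) : False := by
  haveI : Fintype G := Fintype.ofFinite G
  haveI : Fact (Nat.Prime 5) := ⟨by norm_num⟩
  obtain ⟨M, hM, hNM⟩ : ∃ M : Subgroup G, IsCoatom M ∧ N ≤ M := by
    rcases eq_top_or_exists_le_coatom N with h | h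
    · exact absurd h hN
    · exact h
  set ρ := MulAction.toPermHom G (G ⧸ M) with hρ
  have hker : ρ.ker = ⊥ := by
    rcases ρ.normal_ker.eq_bot_or_eq_top with h | h
    · exact h
    · refine absurd (top_le_iff.mp fun g _ => ?_) hM.1
      have hg : ρ g = 1 := MonoidHom.mem_ker.mp (h ▸ Subgroup.mem_top g)
      have h' : g • (QuotientGroup.mk 1 : G ⧸ M) = QuotientGroup.mk 1 :=
        Equiv.Perm.congr_fun hg (QuotientGroup.mk 1 : G ⧸ M)
      rw [MulAction.Quotient.smul_mk, smul_eq_mul, mul_one, QuotientGroup.eq, mul_one] at h'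
      exact inv_mem_iff.mp h'
  have hinj : Function.Injective ρ := (MonoidHom.ker_eq_bot_iff ρ).mp hker
  have hcardX : 10 ≤ Nat.card (G ⧸ M) := Subgroup.index_eq_card M ▸ ten_le_index hn hM.1
  haveI : Nontrivial (G ⧸ M) := Finite.one_lt_card_iff_nontrivial.mp (by omega)
  have hprim : MulAction.IsPreprimitive G (G ⧸ M) := by
    rw [← MulAction.isCoatom_stabilizer_iff_preprimitive (G := G) (a := (QuotientGroup.mk 1 : G ⧸ M)),
      show MulAction.stabilizer G (QuotientGroup.mk 1 : G ⧸ M) = M from Subgroup.ext fun g => by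
        rw [MulAction.mem_stabilizer_iff, MulAction.Quotient.smul_mk, smul_eq_mul, mul_one,
          QuotientGroup.eq, mul_one, inv_mem_iff]]
    exact hM
  have hprim' : MulAction.IsPreprimitive ρ.range (G ⧸ M) :=
    MulAction.IsPreprimitive.of_surjective (f := ({ toFun := id, map_smul' := fun g x => rfl } :
      (G ⧸ M) →ₑ[ρ.rangeRestrict] (G ⧸ M))) Function.surjective_id
  -- few points are moved
  have hsupp : (ρ d).support.card ≤ 5 := by
    refine le_trans ?_ hmove
    rw [Nat.card_eq_fintype_card, Fintype.card_subtype]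
    refine Finset.card_le_card_of_surjOn (fun q : G ⧸ N => (QuotientGroup.mk q.out : G ⧸ M)) ?_
    intro y hy
    rw [Finset.mem_coe, Equiv.Perm.mem_support] at hy
    obtain ⟨g, rfl⟩ := QuotientGroup.mk_surjective y
    refine ⟨QuotientGroup.mk g, ?_, ?_⟩
    · refine Finset.mem_coe.mpr (Finset.mem_filter.mpr ⟨Finset.mem_univ _, fun h => hy ?_⟩)
      rw [MulAction.Quotient.smul_mk, smul_eq_mul, QuotientGroup.eq] at h
      show d • (QuotientGroup.mk g : G ⧸ M) = QuotientGroup.mk g
      rw [MulAction.Quotient.smul_mk, smul_eq_mul, QuotientGroup.eq]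
      exact hNM h
    · show (QuotientGroup.mk (QuotientGroup.mk g : G ⧸ N).out : G ⧸ M) = QuotientGroup.mk g
      rw [QuotientGroup.eq]
      exact hNM (QuotientGroup.eq.mp (QuotientGroup.out_eq' (QuotientGroup.mk g : G ⧸ N)))
  have hord : orderOf (ρ d) = 5 := by rw [orderOf_injective ρ hinj, hd]
  have hcyc : (ρ d).IsCycle := Equiv.Perm.isCycle_of_prime_order (hord ▸ Fact.out) (by
    rw [hord]
    omega)
  have hs5 : (ρ d).support.card = 5 := by rw [← hcyc.orderOf, hord]
  have halt := Perm.alternatingGroup_le_of_isCycle_prime hprim' (p := 5) (by norm_num) (by omega) hcyc hs5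
    ⟨d, rfl⟩
  have h1 := Subgroup.card_dvd_of_le halt
  rw [Nat.card_congr (MonoidHom.ofInjective hinj).toEquiv.symm, hn] at h1
  have h2 := two_mul_nat_card_alternatingGroup (α := G ⧸ M)
  have h3 : 2 * Nat.card (alternatingGroup (G ⧸ M)) ≤ 2 * 5400 :=
    Nat.mul_le_mul_left 2 (Nat.le_of_dvd (by norm_num) h1)
  rw [h2, Nat.card_perm] at h3
  have h4 := Nat.factorial_le hcardX
  have h5 : Nat.factorial 10 = 3628800 := rfl
  omega

set_option maxHeartbeats 1000000 in
theorem false_5400 (hn : Nat.card G = 5400) : False := by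
  haveI : Fintype G := Fintype.ofFinite G
  haveI : Fact (Nat.Prime 5) := ⟨by norm_num⟩
  have hcomm : ¬ IsMulCommutative G := SmallOrder.not_comm_of_not_prime (by rw [hn]; norm_num)
  have hS : ∀ S : Sylow 5 G, Nat.card (S : Subgroup G) = 25 := fun S => by
    rw [S.card_eq_multiplicity, hn]; decide +kernel
  obtain ⟨P⟩ := (inferInstance : Nonempty (Sylow 5 G))
  have hidx : (P : Subgroup G).index = 216 := by
    have := (P : Subgroup G).card_mul_index
    rw [hS, hn] at this
    omega
  have hd : Nat.card (Sylow 5 G) ∣ 216 := hidx ▸ Sylow.card_dvd_index P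
  have hm : Nat.card (Sylow 5 G) % 5 = 1 := card_sylow_modEq_one 5 G
  have h10 := ten_le_index hn (SmallOrder.normalizer_sylow_ne_top hcomm (p := 5) (by rw [hn]; norm_num) P)
  erw [← Sylow.card_eq_index_normalizer P] at h10
  have h216 : Nat.card (Sylow 5 G) ≠ 216 := fun h => by
    refine SmallOrder.not_normalizer_le_centralizer hcomm (p := 5) (by rw [hn]; norm_num) P ?_
    have hNc := (Subgroup.normalizer ((P : Subgroup G) : Set G)).card_mul_index
    erw [← Sylow.card_eq_index_normalizer P] at hNc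
    rw [h, hn] at hNc
    have heq : (P : Subgroup G) = Subgroup.normalizer ((P : Subgroup G) : Set G) :=
      Subgroup.eq_of_le_of_card_ge Subgroup.le_normalizer (by rw [hS]; omega)
    intro a ha
    rw [← heq] at ha
    refine Subgroup.mem_centralizer_iff.mpr fun b hb => ?_
    exact congrArg Subtype.val
      (IsPGroup.commutative_of_card_eq_prime_sq (p := 5) (G := (P : Subgroup G)) (hS P) ⟨b, hb⟩ ⟨a, ha⟩)
  have hc36 : Nat.card (Sylow 5 G) = 36 := by
    have hle := Nat.le_of_dvd (by norm_num) hd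
    exact (key_card_sylow_5400 _ (by omega) (Nat.mod_eq_zero_of_dvd hd) hm h10).resolve_right h216
  obtain ⟨R, hRP, hR⟩ := SmallOrder.exists_sylow_relIndex_le (p := 5) (k := 2) (by
    rw [hc36]; decide) P
  rw [show 2 - 1 = 1 by norm_num, pow_one] at hR
  set D : Subgroup G := (P : Subgroup G) ⊓ (R : Subgroup G) with hD
  have hDc : Nat.card D = 5 := by
    have hd' : Nat.card D ∣ 5 ^ 2 := by
      have := Subgroup.card_dvd_of_le (inf_le_left : D ≤ (P : Subgroup G))
      rwa [hS] at this
    obtain ⟨j, hj, hjc⟩ := (Nat.dvd_prime_pow (by norm_num : Nat.Prime 5)).mp hd'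
    have e1 := SmallOrder.card_inf_mul_relIndex (R : Subgroup G) (P : Subgroup G)
    rw [inf_comm, ← hD, hS] at e1
    interval_cases j
    · rw [hjc] at e1; omega
    · rw [hjc]; norm_num
    · exfalso
      have h1 : D = (P : Subgroup G) :=
        Subgroup.eq_of_le_of_card_ge inf_le_left (by rw [hS, hjc]; norm_num)
      exact hRP (Sylow.ext (Subgroup.eq_of_le_of_card_ge (h1 ▸ inf_le_right : (P : Subgroup G) ≤ R)
        (by rw [hS, hS])).symm)
  set N := Subgroup.normalizer (D : Set G) with hN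
  have hNtop : N ≠ ⊤ := fun ht => by
    rcases (Subgroup.normalizer_eq_top_iff.mp ht).eq_bot_or_eq_top with h' | h'
    · rw [h', Subgroup.card_bot] at hDc; omega
    · rw [h', Subgroup.card_top, hn] at hDc; omega
  have hsylN : ∀ S : Sylow 5 G, D ≤ (S : Subgroup G) → (S : Subgroup G) ≤ N := by
    intro S hDS s hs
    refine Subgroup.mem_normalizer_iff.mpr fun h => ?_
    have hcomm' : ∀ a ∈ (S : Subgroup G), ∀ b ∈ (S : Subgroup G), a * b = b * a := fun a ha b hb =>
      congrArg Subtype.val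
        (IsPGroup.commutative_of_card_eq_prime_sq (p := 5) (G := (S : Subgroup G)) (hS S) ⟨a, ha⟩ ⟨b, hb⟩)
    refine ⟨fun hh => ?_, fun hh => ?_⟩
    · rwa [hcomm' s hs h (hDS hh), mul_inv_cancel_right]
    · have hmem : h ∈ (S : Subgroup G) := by
        have := mul_mem (mul_mem (inv_mem hs) (hDS hh)) hs
        simpa [mul_assoc] using this
      rwa [hcomm' s hs h hmem, mul_inv_cancel_right] at hh
  have hPN := hsylN P inf_le_left
  have hRN := hsylN R inf_le_right
  let P' : Sylow 5 N := P.subtype hPN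
  let R' : Sylow 5 N := R.subtype hRN
  have hS' : ∀ Q : Sylow 5 N, Nat.card (Q : Subgroup N) = 25 := fun Q => by
    rw [Sylow.card_eq_multiplicity, ← Sylow.card_eq_multiplicity P']
    rw [← hS P]
    exact Nat.card_congr (Subgroup.subgroupOfEquivOfLe hPN).toEquiv
  set t := Nat.card (Sylow 5 N) with ht
  have ht2 : 2 ≤ t := by
    have : Nontrivial (Sylow 5 N) := ⟨⟨P', R', fun h => hRP (Sylow.subtype_injective h).symm⟩⟩
    exact Finite.one_lt_card
  have htm : t % 5 = 1 := card_sylow_modEq_one 5 N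
  obtain ⟨s, hs⟩ : ∃ s, Nat.card N = 25 * s := hS P ▸ Subgroup.card_dvd_of_le hPN
  have hes : N.index * s = 216 := by
    have h := N.card_mul_index
    rw [hs, hn] at h
    linarith
  have hts : t ∣ s := by
    have h' := Sylow.card_dvd_index P'
    have h'' := (P' : Subgroup N).card_mul_index
    rw [hS', hs] at h''
    rwa [Nat.eq_of_mul_eq_mul_left (by norm_num) h''] at h'
  have he10 := ten_le_index hn hNtop
  have hs21 : s ≤ 21 := by
    by_contra h
    have := Nat.mul_le_mul he10 (show 22 ≤ s by omega)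
    omega
  have hs0 : 0 < s := Nat.pos_of_ne_zero fun h => by rw [h, mul_zero] at hes; omega
  have ht6 : t = 6 := by
    exact key_six_5400 s (by omega) t (by have := Nat.le_of_dvd hs0 hts; omega)
      (Nat.mod_eq_zero_of_dvd ⟨N.index, by rw [← hes, mul_comm]⟩) (Nat.mod_eq_zero_of_dvd hts) htm ht2
  -- the generator
  haveI : IsCyclic D := isCyclic_of_prime_card hDc
  obtain ⟨d, hdgen⟩ := (inferInstance : IsCyclic D).exists_generator
  have hdo : orderOf (d : G) = 5 := by
    rw [Subgroup.orderOf_coe, orderOf_eq_card_of_forall_mem_zpowers hdgen, hDc]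
  refine false_of_five_moved hn hNtop hdo ?_
  -- fixed cosets from each Sylow subgroup through `D`
  set Qg : Sylow 5 N → Subgroup G := fun Q => (Q : Subgroup N).map N.subtype with hQg
  have hQle : ∀ Q, Qg Q ≤ N := fun Q => Subgroup.map_subtype_le _
  have hQcard : ∀ Q, Nat.card (Qg Q) = 25 := fun Q => by
    rw [hQg, Subgroup.card_map_of_injective N.subtype_injective, hS']
  have hDQ : ∀ Q, D ≤ Qg Q := by
    intro Q
    -- `D` is a normal 5-subgroup of `N`
    haveI : (D.subgroupOf N).Normal := ⟨fun x hx g => by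
      rw [Subgroup.mem_subgroupOf] at hx ⊢
      exact (Subgroup.mem_normalizer_iff.mp g.2 x).mp hx⟩
    have hDN : D ≤ N := Subgroup.le_normalizer
    have hpg : IsPGroup 5 (D.subgroupOf N) := IsPGroup.of_card (n := 1) (by
      rw [Nat.card_congr (Subgroup.subgroupOfEquivOfLe hDN).toEquiv, hDc, pow_one])
    have hle : D.subgroupOf N ≤ (Q : Subgroup N) :=
      le_sup_left.trans (Q.3 (hpg.to_sup_of_normal_left Q.2) le_sup_right).le
    intro x hx
    exact ⟨⟨x, hDN hx⟩, hle (Subgroup.mem_subgroupOf.mpr hx), rfl⟩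
  have hmemQ : ∀ (Q : Sylow 5 N) (z : N), (z : G) ∈ Qg Q ↔ z ∈ (Q : Subgroup N) := fun Q z =>
    Subgroup.mem_map_iff_mem N.subtype_injective
  set F : Sylow 5 N → Finset (G ⧸ N) := fun Q => Finset.univ.filter fun q : G ⧸ N =>
    q ≠ QuotientGroup.mk 1 ∧ ∃ n ∈ Subgroup.normalizer (Qg Q : Set G), q = QuotientGroup.mk n with hF
  have hFcard : ∀ Q, (F Q).card + 1 = 36 / s := by
    intro Q
    set NQ := Subgroup.normalizer (Qg Q : Set G) with hNQ
    let Q₁ : Sylow 5 G := Sylow.ofCard (Qg Q) (by rw [hQcard, hn]; decide +kernel)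
    have hNQc : Nat.card NQ = 150 := by
      have h1 := NQ.card_mul_index
      have h2 : NQ.index = 36 := (Sylow.card_eq_index_normalizer Q₁).symm.trans hc36
      rw [h2, hn] at h1
      omega
    have himg : insert (QuotientGroup.mk 1) (F Q) =
        Finset.univ.filter fun q : G ⧸ N => q ∈ MulAction.orbit NQ (QuotientGroup.mk 1 : G ⧸ N) := by
      ext q
      simp only [hF, Finset.mem_insert, Finset.mem_filter, Finset.mem_univ, true_and, MulAction.mem_orbit_iff]
      constructor
      · rintro (rfl | ⟨-, n, hn', rfl⟩)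
        · exact ⟨1, one_smul _ _⟩
        · exact ⟨⟨n, hn'⟩, by show (n • (QuotientGroup.mk 1 : G ⧸ N)) = _; rw [MulAction.Quotient.smul_mk, smul_eq_mul, mul_one]⟩
      · rintro ⟨n, rfl⟩
        by_cases h : n • (QuotientGroup.mk 1 : G ⧸ N) = QuotientGroup.mk 1
        · exact Or.inl h
        · refine Or.inr ⟨h, n, n.2, ?_⟩
          show (n : G) • (QuotientGroup.mk 1 : G ⧸ N) = _
          rw [MulAction.Quotient.smul_mk, smul_eq_mul, mul_one]
    have hnot : (QuotientGroup.mk 1 : G ⧸ N) ∉ F Q := fun h => (Finset.mem_filter.mp h).2.1 rfl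
    rw [← Finset.card_insert_of_notMem hnot, himg, ← Fintype.card_subtype, ← Nat.card_eq_fintype_card]
    show Nat.card (MulAction.orbit NQ (QuotientGroup.mk 1 : G ⧸ N)) = _
    rw [Nat.card_congr (MulAction.orbitEquivQuotientStabilizer NQ (QuotientGroup.mk 1 : G ⧸ N)),
      ← Subgroup.index_eq_card]
    have hstab : MulAction.stabilizer NQ (QuotientGroup.mk 1 : G ⧸ N) = N.subgroupOf NQ := by
      ext n
      rw [MulAction.mem_stabilizer_iff, Subgroup.mem_subgroupOf]
      show (n : G) • (QuotientGroup.mk 1 : G ⧸ N) = _ ↔ _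
      rw [MulAction.Quotient.smul_mk, smul_eq_mul, mul_one, QuotientGroup.eq, mul_one, inv_mem_iff]
    rw [hstab]
    have hinf : Nat.card (N.subgroupOf NQ) = 25 * s / 6 := by
      have h1 : Nat.card (N.subgroupOf NQ) = Nat.card (Subgroup.normalizer ((Q : Subgroup N) : Set N)) := by
        refine Nat.card_congr
          { toFun := fun a => ⟨⟨((a : NQ) : G), a.2⟩, Subgroup.mem_normalizer_iff.mpr fun y => ?_⟩
            invFun := fun a => ⟨⟨((a : N) : G), Subgroup.mem_normalizer_iff.mpr fun y => ?_⟩, (a : N).2⟩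
            left_inv := fun a => rfl
            right_inv := fun a => rfl }
        · have h := Subgroup.mem_normalizer_iff.mp (a : NQ).2 (y : G)
          rw [hmemQ] at h
          exact h.trans (hmemQ Q (⟨((a : NQ) : G), a.2⟩ * y * ⟨((a : NQ) : G), a.2⟩⁻¹))
        · constructor
          · rintro ⟨z, hz, rfl⟩
            exact (hmemQ Q ((a : N) * z * (a : N)⁻¹)).mpr ((Subgroup.mem_normalizer_iff.mp a.2 z).mp hz)
          · intro hy
            have hyN : y ∈ N := by
              have h' := mul_mem (mul_mem (inv_mem (a : N).2) (hQle Q hy)) (a : N).2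
              rwa [show ((a : N) : G)⁻¹ * (((a : N) : G) * y * ((a : N) : G)⁻¹) * ((a : N) : G) = y by group] at h'
            exact (hmemQ Q ⟨y, hyN⟩).mpr ((Subgroup.mem_normalizer_iff.mp a.2 ⟨y, hyN⟩).mpr
              ((hmemQ Q ((a : N) * ⟨y, hyN⟩ * (a : N)⁻¹)).mp hy))
      have h2 := (Subgroup.normalizer ((Q : Subgroup N) : Set N)).card_mul_index
      erw [← Sylow.card_eq_index_normalizer Q, ← ht] at h2
      rw [ht6, hs] at h2
      rw [h1]
      omega
    have h3 := (N.subgroupOf NQ).card_mul_index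
    rw [hinf, hNQc] at h3
    obtain ⟨j, hj⟩ : 6 ∣ s := ht6 ▸ hts
    rw [hj, show 25 * (6 * j) / 6 = 25 * j by omega] at h3
    rw [hj]
    refine key_index_5400 j (by omega) _ ?_ h3
    have hj0 : 0 < 25 * j := by omega
    have := Nat.le_mul_of_pos_left (N.subgroupOf NQ).index hj0
    omega
  set src := (Finset.univ : Finset (Sylow 5 N)).sigma F with hsrc
  have hsrcc : src.card = 6 * (36 / s - 1) := by
    rw [hsrc, Finset.card_sigma, Finset.sum_congr rfl (g := fun _ => 36 / s - 1) fun Q _ => by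
      have := hFcard Q; omega,
      Finset.sum_const, Finset.card_univ, ← Nat.card_eq_fintype_card, ← ht, ht6, smul_eq_mul]
  have hfix : insert (QuotientGroup.mk 1) (src.image fun x => x.2) ⊆
      Finset.univ.filter fun q : G ⧸ N => (d : G) • q = q := by
    intro q hq
    refine Finset.mem_filter.mpr ⟨Finset.mem_univ _, ?_⟩
    rcases Finset.mem_insert.mp hq with rfl | hq
    · rw [MulAction.Quotient.smul_mk, smul_eq_mul, mul_one, QuotientGroup.eq, mul_one]
      exact inv_mem (Subgroup.le_normalizer d.2)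
    · obtain ⟨⟨Q, q'⟩, hx, rfl⟩ := Finset.mem_image.mp hq
      obtain ⟨-, -, n, hn', rfl⟩ := Finset.mem_filter.mp (Finset.mem_sigma.mp hx).2
      rw [MulAction.Quotient.smul_mk, smul_eq_mul, QuotientGroup.eq]
      have h1 : n⁻¹ * ((d : G))⁻¹ * n ∈ Qg Q :=
        (Subgroup.mem_normalizer_iff''.mp hn' _).mp (inv_mem (hDQ Q d.2))
      rw [mul_inv_rev]
      exact hQle Q h1
  have hinj : Set.InjOn (fun x : (Σ _ : Sylow 5 N, G ⧸ N) => x.2) ↑src := by
    rintro ⟨Q₁, q₁⟩ h1 ⟨Q₂, q₂⟩ h2 (rfl : q₁ = q₂)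
    obtain ⟨-, hne, n, hn1, rfl⟩ := Finset.mem_filter.mp (Finset.mem_sigma.mp h1).2
    obtain ⟨-, -, n', hn2, hq⟩ := Finset.mem_filter.mp (Finset.mem_sigma.mp h2).2
    have hnN : n ∉ N := fun h => hne (QuotientGroup.eq.mpr (by simpa using inv_mem h))
    -- the conjugate of `D` lies in both Sylow subgroups
    have hm1 : n * (d : G) * n⁻¹ ∈ Qg Q₁ := (Subgroup.mem_normalizer_iff.mp hn1 _).mp (hDQ Q₁ d.2)
    have hm2 : n * (d : G) * n⁻¹ ∈ Qg Q₂ := by
      obtain ⟨m, hm, hmn⟩ : ∃ m ∈ N, n = n' * m :=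
        ⟨n'⁻¹ * n, QuotientGroup.eq.mp hq.symm, by group⟩
      have hmd : m * (d : G) * m⁻¹ ∈ D := (Subgroup.mem_normalizer_iff.mp hm _).mp d.2
      rw [hmn, show n' * m * (d : G) * (n' * m)⁻¹ = n' * (m * (d : G) * m⁻¹) * n'⁻¹ by group]
      exact (Subgroup.mem_normalizer_iff.mp hn2 _).mp (hDQ Q₂ hmd)
    have heq : Qg Q₁ = Qg Q₂ := by
      have hlt : D < Qg Q₁ ⊓ Qg Q₂ := lt_of_le_not_ge (le_inf (hDQ Q₁) (hDQ Q₂)) fun hle => by
        have h0 : n * (d : G) * n⁻¹ ∈ D := hle ⟨hm1, hm2⟩
        refine hnN ?_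
        rw [hN, ← inv_mem_iff]
        have hz : Subgroup.zpowers (n * (d : G) * n⁻¹) = D :=
          Subgroup.eq_of_le_of_card_ge (Subgroup.zpowers_le.mpr h0) (by
            rw [Nat.card_zpowers, ← MulAut.conj_apply, MulEquiv.orderOf_eq, hdo, hDc])
        refine Subgroup.mem_normalizer_fintype fun a ha => ?_
        rw [SetLike.mem_coe] at ha ⊢
        rw [← hz] at ha
        obtain ⟨i, rfl⟩ := Subgroup.mem_zpowers_iff.mp ha
        rw [inv_inv, conj_zpow, show n⁻¹ * (n * (d : G) ^ i * n⁻¹) * n = (d : G) ^ i by group]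
        exact Subgroup.zpow_mem _ d.2 i
      have hc : Nat.card ↥(Qg Q₁ ⊓ Qg Q₂) = 25 := by
        have hd1 : Nat.card ↥(Qg Q₁ ⊓ Qg Q₂) ∣ 5 ^ 2 := by
          have := Subgroup.card_dvd_of_le (inf_le_left : Qg Q₁ ⊓ Qg Q₂ ≤ Qg Q₁)
          rwa [hQcard] at this
        obtain ⟨j, hj, hjc⟩ := (Nat.dvd_prime_pow (by norm_num : Nat.Prime 5)).mp hd1
        have hgt : 5 < Nat.card ↥(Qg Q₁ ⊓ Qg Q₂) := by
          rw [← hDc]
          by_contra hle
          exact hlt.ne (Subgroup.eq_of_le_of_card_ge hlt.le (by omega))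
        interval_cases j
        · rw [hjc] at hgt; norm_num at hgt
        · rw [hjc] at hgt; norm_num at hgt
        · rw [hjc]; norm_num
      have e1 : Qg Q₁ ⊓ Qg Q₂ = Qg Q₁ :=
        Subgroup.eq_of_le_of_card_ge inf_le_left (by rw [hc, hQcard])
      exact Subgroup.eq_of_le_of_card_ge (inf_eq_left.mp e1) (by rw [hQcard, hQcard])
    have : Q₁ = Q₂ := Sylow.ext (Subgroup.map_injective N.subtype_injective heq)
    subst this
    rfl
  have hf := Finset.card_le_card hfix
  rw [Finset.card_insert_of_notMem, Finset.card_image_of_injOn hinj, hsrcc] at hf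
  swap
  · intro h
    obtain ⟨⟨Q, q⟩, hx, hq⟩ := Finset.mem_image.mp h
    exact (Finset.mem_filter.mp (Finset.mem_sigma.mp hx).2).2.1 hq
  rw [Nat.card_eq_fintype_card, Fintype.card_subtype]
  have htot := Finset.card_filter_add_card_filter_not (s := (Finset.univ : Finset (G ⧸ N)))
    (p := fun q => (d : G) • q = q)
  rw [Finset.card_univ, ← Nat.card_eq_fintype_card, ← Subgroup.index_eq_card] at htot
  refine le_trans (le_of_eq ?_) (show (Finset.univ.filter fun q : G ⧸ N => ¬ (d : G) • q = q).card ≤ 5 from ?_)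
  · congr 1
  obtain ⟨j, hj⟩ : 6 ∣ s := ht6 ▸ hts
  have hj4 : j < 4 := by omega
  subst hj
  interval_cases j <;> omega

end CfsgLib.BrauerTuan
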