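import Cfsg.Agent.Lib.BrauerTuan.Orders
import Cfsg.Agent.Lib.BrauerTuan.Cross

/-!
# There is no simple group of order 5460

The principal blocks at 7 and at 13 have too many characters of large degree.
-/

set_option autoImplicit false
set_option linter.unusedSectionVars false
set_option linter.style.haveILetI false

namespace CfsgLib.BrauerTuan

theorem key5460X7 : ∀ d < 74, degOK 5460 7 1 780 [3, 5, 7, 13] d = true →
    (d % 7 = 1 → d = 15) ∧ (d % 7 = 6 → d = 13 ∨ d = 20) := by decide +kernel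

theorem key5460Y7 : ∀ d < 74, degOK 5460 7 1 780 [3, 5, 7, 13] d = true →
    (d % 7 = 3 → d = 10 ∨ d = 52) ∧ (d % 7 = 4 → d = 39 ∨ d = 60) := by decide +kernel

theorem key5460X13 : ∀ d < 74, degOK 5460 13 1 420 [3, 5, 7, 13] d = true →
    (d % 13 = 1 → d = 14) ∧ (d % 13 = 12 → d = 12) := by decide +kernel

theorem key5460Y13 : ∀ d < 74, degOK 5460 13 1 420 [3, 5, 7, 13] d = true →
    (d % 13 = 4 → d = 30) ∧ (d % 13 = 9 → d = 35) := by decide +kernel

open Cfsg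
open scoped ComplexConjugate CfsgLib.Char
open CfsgLib
open scoped _root_.Classical

universe u

variable {G : Type u} [Group G] [Fintype G] [IsSimpleGroup G] {p : ℕ} [Fact p.Prime]

/-- The degrees of a principal block with at least two exceptional characters. -/
theorem OrderCtx.block_facts {n k B : ℕ} {qs : List ℕ} (T : OrderCtx G n p qs B k) (ht : 2 ≤ T.D.t) :
    Blocks.trivIrr G ∈ T.D.X ∧
      (∀ χ ∈ T.D.X.erase (Blocks.trivIrr G),
        degOK n p k (T.D.e * (1 + T.D.n * p)) qs (charDegree (χ : G → ℂ)) = true ∧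
          charDegree (χ : G → ℂ) ≤ B ∧ (T.D.δ χ = 1 ∨ T.D.δ χ = -1) ∧
          (p : ℤ) ∣ (charDegree (χ : G → ℂ) : ℤ) - T.D.δ χ) ∧
      (∀ ψ ∈ T.D.Y, degOK n p k (T.D.e * (1 + T.D.n * p)) qs (charDegree (ψ : G → ℂ)) = true ∧
          charDegree (ψ : G → ℂ) ≤ B ∧ (p : ℤ) ∣ (charDegree (ψ : G → ℂ) : ℤ) - T.D.ε * T.D.e ∧
          T.D.ε * (charDegree (ψ : G → ℂ) : ℤ) = 1 + ∑ χ ∈ T.D.X.erase (Blocks.trivIrr G),
            T.D.δ χ * (charDegree (χ : G → ℂ) : ℤ)) := by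
  have hp : p.Prime := Fact.out
  have hone : ¬ p ∣ orderOf (1 : G) := orderOf_one (G := G) ▸ hp.not_dvd_one
  obtain ⟨v, hv, hv1⟩ : ∃ v, v ∈ (T.P : Subgroup G) ∧ v ≠ 1 := by
    rcases (T.P : Subgroup G).bot_or_exists_ne_one with h | h
    · have := T.card_P
      rw [h, Subgroup.card_bot] at this
      exact absurd this hp.one_lt.ne
    · exact h
  have hT : Blocks.trivIrr G ∈ T.D.X := by
    rcases Finset.mem_union.mp T.D.triv with h | h
    · exact h
    exfalso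
    obtain ⟨ψ', hψ', hne⟩ := Finset.exists_mem_ne (show 1 < T.D.Y.card by rw [T.D.card_Y]; omega)
      (Blocks.trivIrr G)
    have h1 := T.D.degY_eq ψ' hψ' _ h
    rw [BrauerReynolds.degree_triv] at h1
    exact (BrauerReynolds.one_lt_degree_of_simple T.noncomm hne).ne' h1
  have hδT : T.D.δ (Blocks.trivIrr G) = 1 := by
    have h := T.D.valX _ hT v hv hv1 1 (one_mem _) hone
    have h' : ((1 : ℤ) : ℂ) = (T.D.δ (Blocks.trivIrr G) : ℂ) := by rw [← h]; simp [Blocks.trivIrr]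
    exact (Int.cast_injective h').symm
  refine ⟨hT, fun χ hχ => ?_, fun ψ hψ => ?_⟩
  · obtain ⟨hne, hχ'⟩ := Finset.mem_erase.mp hχ
    obtain ⟨h1, h2⟩ := T.degOK_of hne (T.D.dvdX χ hχ') fun u hu hu1 y hy hyr => by
      have h := T.D.valX χ hχ' u hu hu1 1 (one_mem _) hone
      rw [mul_one] at h
      rw [T.D.valX χ hχ' u hu hu1 y hy hyr, h]
    exact ⟨h1, h2, T.D.hδ χ hχ', Int.modEq_iff_dvd.mp (T.D.degX χ hχ').symm⟩
  · obtain ⟨h1, h2⟩ := T.degOK_of (fun h => Finset.disjoint_left.mp T.D.disj hT (h ▸ hψ))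
      (T.D.dvdY ψ hψ) (T.D.valY ψ hψ)
    refine ⟨h1, h2, Int.modEq_iff_dvd.mp (T.D.degY ψ hψ).symm, ?_⟩
    have h := T.D.rel ψ hψ 1 hone
    simp only [BrauerReynolds.value_one] at h
    have h' : T.D.ε * (charDegree (ψ : G → ℂ) : ℤ) =
        ∑ χ ∈ T.D.X, T.D.δ χ * (charDegree (χ : G → ℂ) : ℤ) := by exact_mod_cast h
    rw [h', ← Finset.add_sum_erase _ _ hT, hδT, BrauerReynolds.degree_triv, Nat.cast_one, mul_one]

theorem false_5460 (hn : Nat.card G = 5460) : False := by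
  haveI : Fact (Nat.Prime 5) := ⟨by norm_num⟩
  haveI : Fact (Nat.Prime 7) := ⟨by norm_num⟩
  haveI : Fact (Nat.Prime 13) := ⟨by norm_num⟩
  obtain ⟨k₅, T₅, h5⟩ := exists_ctx_of_orderBad hn 5 [3, 5, 7, 13] 73 [(91, 2, 6), (546, 2, 1)]
    (by norm_num) (by norm_num) (by norm_num) (by norm_num) (by norm_num) (by simp <;> norm_num)
    (by decide +kernel)
  obtain ⟨k₇, T₇, h7⟩ := exists_ctx_of_orderBad hn 7 [3, 5, 7, 13] 73 [(78, 2, 5), (260, 3, 1)]
    (by norm_num) (by norm_num) (by norm_num) (by norm_num) (by norm_num) (by simp <;> norm_num)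
    (by decide +kernel)
  obtain ⟨k, T, h13⟩ := exists_ctx_of_orderBad hn 13 [3, 5, 7, 13] 73 [(105, 4, 1)]
    (by norm_num) (by norm_num) (by norm_num) (by norm_num) (by norm_num) (by simp <;> norm_num)
    (by decide +kernel)
  simp only [List.mem_cons, List.not_mem_nil, or_false, Prod.mk.injEq] at h5 h7 h13
  obtain ⟨hc, he, rfl⟩ := h13
  rcases h7 with ⟨-, -, hk⟩ | ⟨hc7, he7, rfl⟩
  · have h := dvd_card_centralizer_swap T₇.P T₅.P T₇.card_P T₅.card_P (by rw [T₇.card_C, hk]; norm_num)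
    rw [T₅.card_C] at h
    rcases h5 with ⟨-, -, e⟩ | ⟨-, -, e⟩ <;> rw [e] at h <;> norm_num at h
  have ht : T.D.t = 3 := by have := T.D.het; rw [he] at this; omega
  have ht7 : T₇.D.t = 2 := by have := T₇.D.het; rw [he7] at this; omega
  obtain ⟨hT, hX, hY⟩ := T.block_facts (by omega)
  obtain ⟨hT7, hX7, hY7⟩ := T₇.block_facts (by omega)
  rw [hc, he] at hX hY
  rw [hc7, he7] at hX7 hY7
  norm_num only at hX hY hX7 hY7
  set X := T.D.X.erase (Blocks.trivIrr G) with hXdef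
  set X₇ := T₇.D.X.erase (Blocks.trivIrr G) with hX7def
  have hXc : X.card = 3 := by rw [hXdef, Finset.card_erase_of_mem hT, T.D.card_X, he]
  have hX7c : X₇.card = 2 := by rw [hX7def, Finset.card_erase_of_mem hT7, T₇.D.card_X, he7]
  obtain ⟨a, b, c, hab, hac, hbc, hXe⟩ := Finset.card_eq_three.mp hXc
  obtain ⟨a₇, b₇, hab7, hX7e⟩ := Finset.card_eq_two.mp hX7c
  have hXval : ∀ χ ∈ X, T.D.δ χ * (charDegree (χ : G → ℂ) : ℤ) = 14 ∨
      T.D.δ χ * (charDegree (χ : G → ℂ) : ℤ) = -12 := fun χ hχ => by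
    obtain ⟨hok, hle, hδ, hm⟩ := hX χ hχ
    obtain ⟨h1, h2⟩ := key5460X13 _ (by omega) hok
    rcases hδ with e | e <;> rw [e] at hm ⊢
    · have := h1 (by omega); omega
    · have := h2 (by omega); omega
  have hX7val : ∀ χ ∈ X₇, T₇.D.δ χ * (charDegree (χ : G → ℂ) : ℤ) = 15 ∨
      T₇.D.δ χ * (charDegree (χ : G → ℂ) : ℤ) = -13 ∨
      T₇.D.δ χ * (charDegree (χ : G → ℂ) : ℤ) = -20 := fun χ hχ => by
    obtain ⟨hok, hle, hδ, hm⟩ := hX7 χ hχ
    obtain ⟨h1, h2⟩ := key5460X7 _ (by omega) hok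
    rcases hδ with e | e <;> rw [e] at hm ⊢
    · have := h1 (by omega); omega
    · have := h2 (by omega); omega
  have hY13 : ∀ ψ ∈ T.D.Y, charDegree (ψ : G → ℂ) = 35 ∧
      ∀ χ ∈ X, charDegree (χ : G → ℂ) = 12 := fun ψ hψ => by
    obtain ⟨hok, hle, hm, hs⟩ := hY ψ hψ
    obtain ⟨h1, h2⟩ := key5460Y13 _ (by omega) hok
    have ha := hXval a (hXe ▸ by simp)
    have hb := hXval b (hXe ▸ by simp)
    have hc := hXval c (hXe ▸ by simp)
    rw [hXe, Finset.sum_insert (by simp [hab, hac]), Finset.sum_insert (by simp [hbc]), Finset.sum_singleton] at hs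
    have hd : charDegree (ψ : G → ℂ) = 35 ∧ T.D.δ a * (charDegree (a : G → ℂ) : ℤ) = -12 ∧
        T.D.δ b * (charDegree (b : G → ℂ) : ℤ) = -12 ∧ T.D.δ c * (charDegree (c : G → ℂ) : ℤ) = -12 := by
      rcases T.D.hε with e | e <;> rw [e] at hm hs
      · have := h1 (by omega); omega
      · have := h2 (by omega); omega
    obtain ⟨hd, ea, eb, ec⟩ := hd
    refine ⟨hd, fun χ hχ => ?_⟩
    have hδ := (hX χ hχ).2.2.1
    rw [hXe] at hχ
    simp only [Finset.mem_insert, Finset.mem_singleton] at hχ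
    have hv : T.D.δ χ * (charDegree (χ : G → ℂ) : ℤ) = -12 := by
      rcases hχ with rfl | rfl | rfl
      exacts [ea, eb, ec]
    rcases hδ with e | e <;> rw [e] at hv <;> omega
  have hY7' : ∀ ψ ∈ T₇.D.Y, charDegree (ψ : G → ℂ) = 39 ∧
      ∀ χ ∈ X₇, charDegree (χ : G → ℂ) = 20 := fun ψ hψ => by
    obtain ⟨hok, hle, hm, hs⟩ := hY7 ψ hψ
    obtain ⟨h1, h2⟩ := key5460Y7 _ (by omega) hok
    have ha := hX7val a₇ (hX7e ▸ by simp)
    have hb := hX7val b₇ (hX7e ▸ by simp)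
    rw [hX7e, Finset.sum_pair hab7] at hs
    have hd : charDegree (ψ : G → ℂ) = 39 ∧ T₇.D.δ a₇ * (charDegree (a₇ : G → ℂ) : ℤ) = -20 ∧
        T₇.D.δ b₇ * (charDegree (b₇ : G → ℂ) : ℤ) = -20 := by
      rcases T₇.D.hε with e | e <;> rw [e] at hm hs
      · have := h1 (by omega); omega
      · have := h2 (by omega); omega
    obtain ⟨hd, ea, eb⟩ := hd
    refine ⟨hd, fun χ hχ => ?_⟩
    have hδ := (hX7 χ hχ).2.2.1
    rw [hX7e] at hχ
    simp only [Finset.mem_insert, Finset.mem_singleton] at hχ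
    have hv : T₇.D.δ χ * (charDegree (χ : G → ℂ) : ℤ) = -20 := by
      rcases hχ with rfl | rfl
      exacts [ea, eb]
    rcases hδ with e | e <;> rw [e] at hv <;> omega
  obtain ⟨ψ, hψ⟩ : T.D.Y.Nonempty := Finset.card_pos.mp (by rw [T.D.card_Y, ht]; norm_num)
  obtain ⟨ψ₇, hψ₇⟩ : T₇.D.Y.Nonempty := Finset.card_pos.mp (by rw [T₇.D.card_Y, ht7]; norm_num)
  have d12 := (hY13 ψ hψ).2
  have d20 := (hY7' ψ₇ hψ₇).2
  have d35 := fun χ hχ => (hY13 χ hχ).1
  have d39 := fun χ hχ => (hY7' χ hχ).1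
  have h := Char.sum_sq_degree (G := G)
  simp only [BrauerReynolds.value_one, ← Nat.cast_pow, ← Nat.cast_sum, Nat.cast_inj] at h
  have hdis : ∀ {s t : Finset (IrrCharacter G)} {x y : ℕ}, x ≠ y → (∀ χ ∈ s, charDegree (χ : G → ℂ) = x) →
      (∀ χ ∈ t, charDegree (χ : G → ℂ) = y) → Disjoint s t := fun hxy hs ht =>
    Finset.disjoint_left.mpr fun χ h1 h2 => hxy ((hs χ h1).symm.trans (ht χ h2))
  have hle : ∑ χ ∈ ((X ∪ X₇) ∪ T.D.Y) ∪ T₇.D.Y, charDegree (χ : G → ℂ) ^ 2 ≤ 5460 := by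
    refine le_trans ?_ (le_of_eq (h.trans hn))
    exact Finset.sum_le_sum_of_subset (Finset.subset_univ _)
  have d1 := hdis (by norm_num) d12 d20
  rw [Finset.sum_union (Finset.disjoint_union_left.mpr ⟨Finset.disjoint_union_left.mpr
      ⟨hdis (by norm_num) d12 d39, hdis (by norm_num) d20 d39⟩, hdis (by norm_num) d35 d39⟩),
    Finset.sum_union (Finset.disjoint_union_left.mpr ⟨hdis (by norm_num) d12 d35, hdis (by norm_num) d20 d35⟩),
    Finset.sum_union d1,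
    Finset.sum_congr rfl (g := fun _ => 12 ^ 2) (fun χ hχ => by rw [d12 χ hχ]),
    Finset.sum_congr (s₁ := X₇) rfl (g := fun _ => 20 ^ 2) (fun χ hχ => by rw [d20 χ hχ]),
    Finset.sum_congr (s₁ := T.D.Y) rfl (g := fun _ => 35 ^ 2) (fun χ hχ => by rw [d35 χ hχ]),
    Finset.sum_congr (s₁ := T₇.D.Y) rfl (g := fun _ => 39 ^ 2) (fun χ hχ => by rw [d39 χ hχ]),
    Finset.sum_const, Finset.sum_const, Finset.sum_const, Finset.sum_const, hXc, hX7c, T.D.card_Y,
    T₇.D.card_Y, ht, ht7] at hle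
  norm_num at hle

end CfsgLib.BrauerTuan
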