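import Cfsg.Agent.Lib.BrauerReynolds.SmallOrder
import Cfsg.Agent.Lib.Classical.Card
import Mathlib.FieldTheory.Finite.GaloisField

/-!
# Identifying simple groups of small order relative to a prime divisor
-/

set_option autoImplicit false
set_option linter.style.haveILetI false

namespace CfsgLib.BrauerTuan

open Matrix CfsgLib

universe u v w

/-- `PSL(2, q)` only depends on `q`. -/
theorem psl_congr {F : Type v} [Field F] [Fintype F] {K : Type w} [Field K] [Fintype K]
    (h : Fintype.card F = Fintype.card K) :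
    Nonempty (ProjectiveSpecialLinearGroup (Fin 2) F ≃* ProjectiveSpecialLinearGroup (Fin 2) K) := by
  let σ : F ≃+* K := FiniteField.ringEquivOfCardEq h
  let e : SpecialLinearGroup (Fin 2) F ≃* SpecialLinearGroup (Fin 2) K :=
    { toFun := SpecialLinearGroup.map σ.toRingHom
      invFun := SpecialLinearGroup.map σ.symm.toRingHom
      left_inv := fun A => by ext i j; exact σ.symm_apply_apply _
      right_inv := fun A => by ext i j; exact σ.apply_symm_apply _
      map_mul' := map_mul _ }
  refine ⟨QuotientGroup.congr _ _ e ?_⟩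
  ext x
  simp only [Subgroup.mem_map, Subgroup.mem_center_iff]
  refine ⟨?_, fun hx => ⟨e.symm x, fun y => e.injective ?_, e.apply_symm_apply x⟩⟩
  · rintro ⟨a, ha, rfl⟩ y
    obtain ⟨b, rfl⟩ := e.surjective y
    show e b * e a = e a * e b
    rw [← map_mul, ← map_mul, ha]
  · rw [map_mul, map_mul, MulEquiv.apply_symm_apply]; exact hx _

/-- A simple group of order `n < p ^ 3` divisible by `p` is the `PSL(2, F)` of its order. -/
theorem iso_of_small {G : Type u} [Group G] [Finite G] [IsSimpleGroup G] {n p : ℕ}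
    (hn : Nat.card G = n) (hp : p.Prime) (hprime : ¬ n.Prime) (hdvd : p ∣ n) (hbig : n < p ^ 3)
    {F : Type v} [Field F] [Fintype F]
    (hF : Fintype.card F = p ∧ (∀ m, p = 2 ^ m + 1 → n ≠ 2 ^ m * ((2 ^ m) ^ 2 - 1)) ∨
      (∃ m, Fintype.card F = 2 ^ m ∧ p = 2 ^ m + 1) ∧ 2 * n ≠ p * (p ^ 2 - 1)) :
    Nonempty (G ≃* ProjectiveSpecialLinearGroup (Fin 2) F) := by
  haveI := Fact.mk hp
  letI : Fintype G := Fintype.ofFinite G
  have hG : ¬ IsCyclic G := fun hc => by
    haveI := hc
    let _ : CommGroup G := IsCyclic.commGroup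
    exact hprime (hn ▸ IsSimpleGroup.prime_card)
  rcases BrauerReynolds.concl_of_small hG (hn.symm ▸ hdvd) (hn.symm ▸ hbig) with
    ⟨K, _, _, hK, hp3, ⟨iso⟩⟩ | ⟨m, K, _, _, hK, hpm, hp3, ⟨iso⟩⟩
  · rcases hF with ⟨hF, -⟩ | ⟨-, hne⟩
    · obtain ⟨e⟩ := psl_congr (F := K) (K := F) (hK.trans hF.symm)
      exact ⟨iso.trans e⟩
    · exfalso
      refine hne ?_
      have h := Classical.card_PSL_two (F := K)
      rw [← Nat.card_congr iso.toEquiv, hn, hK,
        show Nat.gcd 2 (p - 1) = 2 from Nat.gcd_eq_left (by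
          obtain ⟨k, hk⟩ := hp.odd_of_ne_two (by omega)
          exact ⟨k, by omega⟩)] at h
      exact h
  · rcases hF with ⟨-, hne⟩ | ⟨⟨m', hF, hpm'⟩, -⟩
    · exfalso
      refine hne m hpm ?_
      have h := Classical.card_PSL_two (F := K)
      have hm0 : m ≠ 0 := fun h0 => by rw [h0, pow_zero] at hpm; omega
      rw [← Nat.card_congr iso.toEquiv, hn, hK,
        show Nat.gcd 2 (2 ^ m - 1) = 1 from (Nat.prime_two.coprime_iff_not_dvd.mpr (by
          have := dvd_pow_self 2 hm0
          have := Nat.one_le_pow m 2 two_pos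
          omega)), one_mul] at h
      exact h
    · obtain ⟨e⟩ := psl_congr (F := K) (K := F) (by omega)
      exact ⟨iso.trans e⟩

end CfsgLib.BrauerTuan
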