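import Cfsg.Agent.Lib.BrauerTuan.Two
import Cfsg.Agent.Lib.BrauerTuan.Identify
import Cfsg.Agent.Lib.Invol.ElementaryPSL
import Mathlib.GroupTheory.SpecificGroups.Cyclic

/-!
# The simple group of order 504
-/

set_option autoImplicit false
set_option linter.unusedSectionVars false
set_option linter.style.haveILetI false

namespace CfsgLib.BrauerTuan

open CfsgLib
open scoped _root_.Classical

universe u v

/-- The possible values at an involution for order 504. -/
def fiveOhFourOK : Bool :=
  (List.range 23).all fun x => ([1, -1] : List ℤ).all fun δ =>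
    let z := ((1 : ℤ) + δ * x).natAbs
    let K := (((x : ℤ) + ((7 : ℤ) - 1) * δ) / 7).toNat
    decide (x < 2) || decide (72 % x ≠ 0) || decide (((x : ℤ) - δ) % 7 ≠ 0) || decide (72 % z ≠ 0) ||
      (List.range (2 * K + 1)).all fun i => decide (((x : ℤ) - ((i : ℤ) - K)) % 4 ≠ 0) ||
        decide (7 * (x * z) * 64 = 504 * ((((i : ℤ) - K) - x).natAbs * (((i : ℤ) - K) - x).natAbs))

theorem fiveOhFourOK_true : fiveOhFourOK = true := by decide +kernel

variable {G : Type u} [Group G] [Fintype G] [IsSimpleGroup G]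

theorem card_centralizer_invol_504 (hn : Nat.card G = 504) {g : G} (hg : orderOf g = 2) :
    Nat.card (Subgroup.centralizer ({g} : Set G)) = 8 := by
  haveI : Fact (Nat.Prime 7) := ⟨by norm_num⟩
  obtain ⟨k, T, hm⟩ := exists_ctx_of_orderBad hn 7 [7] 22 [(36, 2, 1)] (by norm_num) (by norm_num)
    (by norm_num) (by norm_num) (by norm_num) (by simp <;> norm_num) (by decide +kernel)
  simp only [List.mem_singleton, Prod.mk.injEq] at hm
  obtain ⟨hc, he, rfl⟩ := hm
  have hC : Subgroup.centralizer ((T.P : Subgroup G) : Set G) = (T.P : Subgroup G) := by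
    refine (Subgroup.eq_of_le_of_card_ge ?_ ?_).symm
    · haveI : IsCyclic (T.P : Subgroup G) := isCyclic_of_prime_card T.card_P
      exact fun a ha => Subgroup.mem_centralizer_iff.mpr fun c hc =>
        congrArg Subtype.val ((IsCyclic.commGroup (α := (T.P : Subgroup G))).mul_comm ⟨c, hc⟩ ⟨a, ha⟩)
    · rw [T.card_C, T.card_P, mul_one]
  obtain ⟨x, z, cg, K, A, δ, ε, ⟨j, hj⟩, hx2, hxd, hzd, hxn, hδ, hε, hmod, hz, hK, hA, hcg, -, heq⟩ :=
    two_facts_at T.noncomm T.D T.card_P hC he (by norm_num)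
      (show g * g = 1 by rw [← pow_two, ← hg, pow_orderOf_eq_one])
      (fun h => by rw [h, orderOf_one] at hg; omega)
  rw [hc] at hxd hzd
  rw [hn] at hxn heq
  have hz' : ((1 : ℤ) + δ * x).natAbs = z := by
    rw [← hz]; rcases hε with e | e <;> simp [e]
  have hB : x < 23 := by
    by_contra hlt
    have := Nat.mul_le_mul (Nat.le_of_not_lt hlt) (Nat.le_of_not_lt hlt)
    omega
  have hK' : (((x : ℤ) + ((7 : ℤ) - 1) * δ) / 7).toNat = K := by
    push_cast at hK
    rw [show (x : ℤ) + ((7 : ℤ) - 1) * δ = 7 * K by linarith]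
    simp
  have h := fiveOhFourOK_true
  simp only [fiveOhFourOK, List.all_eq_true, List.mem_range, Bool.or_eq_true, decide_eq_true_eq] at h
  obtain ⟨hA1, hA2⟩ := abs_le.mp hA
  have h' := h x hB δ (by rcases hδ with e | e <;> simp [e])
  rw [hz', hK'] at h'
  rcases h' with (((h' | h') | h') | h') | h'
  · omega
  · exact absurd (Nat.mod_eq_zero_of_dvd hxd) h'
  · exact absurd (Int.emod_eq_zero_of_dvd (by exact_mod_cast hmod)) h'
  · exact absurd (Nat.mod_eq_zero_of_dvd hzd) h'
  · have hi : ((A + K).toNat : ℤ) - K = A := by omega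
    rcases h' (A + K).toNat (by omega) with h'' | h''
    · rw [hi] at h''
      exact absurd (Int.emod_eq_zero_of_dvd ⟨j, by omega⟩) h''
    rw [hi] at h''
    have h1 := congrArg Int.natAbs heq
    simp only [Int.natAbs_mul, Int.natAbs_pow, Int.natAbs_natCast] at h1
    rw [show ε.natAbs = 1 by rcases hε with e | e <;> simp [e],
      show δ.natAbs = 1 by rcases hδ with e | e <;> simp [e]] at h1
    have hz0 : 0 < z := Nat.pos_of_ne_zero fun h0 => by simp [h0] at hzd
    have h2 : cg ^ 2 = 8 ^ 2 := Nat.eq_of_mul_eq_mul_left (show 0 < 7 * (x * z) by positivity)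
      (by linear_combination h1 - h'')
    rw [← hcg]
    exact Nat.pow_left_injective two_ne_zero h2

/-- An element commuting with an element of order 3 has odd order. -/
theorem centralizer_three_504 (hn : Nat.card G = 504) {x : G} (hx : x ≠ 1) (S : Sylow 3 G) (hxS : x ∈ S) :
    Subgroup.centralizer ({x} : Set G) = (S : Subgroup G) := by
  haveI : Fact (Nat.Prime 3) := ⟨by norm_num⟩
  haveI : Fact (Nat.Prime 7) := ⟨by norm_num⟩
  haveI : Fact (Nat.Prime 2) := ⟨Nat.prime_two⟩
  have hS : Nat.card (S : Subgroup G) = 3 ^ 2 := by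
    rw [S.card_eq_multiplicity, hn]; decide +kernel
  have hcomm : ∀ a ∈ (S : Subgroup G), a * x = x * a := fun a ha =>
    congrArg Subtype.val (IsPGroup.commutative_of_card_eq_prime_sq (p := 3) hS ⟨a, ha⟩ ⟨x, hxS⟩)
  have hle : (S : Subgroup G) ≤ Subgroup.centralizer ({x} : Set G) := fun a ha =>
    Subgroup.mem_centralizer_singleton_iff.mpr (hcomm a ha)
  refine (Subgroup.eq_of_le_of_card_ge hle ?_).symm
  set C := Subgroup.centralizer ({x} : Set G) with hC
  have hd : Nat.card C ∣ 504 := hn ▸ Subgroup.card_subgroup_dvd_card C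
  have hxo : 3 ∣ orderOf x := by
    obtain ⟨j, -, hj⟩ := (Nat.dvd_prime_pow (Fact.out : Nat.Prime 3)).mp
      (hS ▸ Subgroup.orderOf_mk x hxS ▸ orderOf_dvd_natCard (⟨x, hxS⟩ : (S : Subgroup G)))
    rcases Nat.eq_zero_or_pos j with h | h
    · rw [h, pow_zero] at hj; exact absurd (orderOf_eq_one_iff.mp hj) hx
    · rw [hj]; exact dvd_pow_self 3 h.ne'
  have hxC : x ∈ C := Subgroup.mem_centralizer_singleton_iff.mpr rfl
  have h2 : ¬ 2 ∣ Nat.card C := fun h => by
    obtain ⟨t, ht⟩ := exists_prime_orderOf_dvd_card' 2 h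
    have ht' : orderOf (t : G) = 2 := by rw [Subgroup.orderOf_coe]; exact ht
    have hmem : x ∈ Subgroup.centralizer ({(t : G)} : Set G) :=
      Subgroup.mem_centralizer_singleton_iff.mpr (Subgroup.mem_centralizer_singleton_iff.mp t.2).symm
    have h3 := hxo.trans (Subgroup.orderOf_mk x hmem ▸ orderOf_dvd_natCard (⟨x, hmem⟩ : Subgroup.centralizer ({(t : G)} : Set G)))
    rw [card_centralizer_invol_504 hn ht'] at h3
    omega
  have h7 : ¬ 7 ∣ Nat.card C := fun h => by
    obtain ⟨k, T, hm⟩ := exists_ctx_of_orderBad hn 7 [7] 22 [(36, 2, 1)] (by norm_num) (by norm_num)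
      (by norm_num) (by norm_num) (by norm_num) (by simp <;> norm_num) (by decide +kernel)
    simp only [List.mem_singleton, Prod.mk.injEq] at hm
    obtain ⟨-, -, rfl⟩ := hm
    obtain ⟨v, hv⟩ := exists_prime_orderOf_dvd_card' 7 h
    have hv' : orderOf (v : G) = 7 := by rw [Subgroup.orderOf_coe]; exact hv
    obtain ⟨Q, hQ⟩ := (IsPGroup.of_card (p := 7) (n := 1)
      (show Nat.card (Subgroup.zpowers (v : G)) = 7 ^ 1 by rw [Nat.card_zpowers, hv', pow_one])).exists_le_sylow
    obtain ⟨c, hc⟩ := MulAction.exists_smul_eq G Q T.P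
    have hvP : c * (v : G) * c⁻¹ ∈ (T.P : Subgroup G) := by
      rw [← hc, Sylow.coe_subgroup_smul]
      exact Subgroup.smul_mem_pointwise_smul _ (MulAut.conj c) _ (hQ (Subgroup.mem_zpowers _))
    have hz : Subgroup.zpowers (c * (v : G) * c⁻¹) = (T.P : Subgroup G) :=
      Subgroup.eq_of_le_of_card_ge (Subgroup.zpowers_le.mpr hvP) (by
        rw [Nat.card_zpowers, ← MulAut.conj_apply, MulEquiv.orderOf_eq, hv', T.card_P])
    have hmem : c * x * c⁻¹ ∈ Subgroup.centralizer ((T.P : Subgroup G) : Set G) := by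
      refine Subgroup.mem_centralizer_iff.mpr fun a ha => ?_
      rw [← hz] at ha
      obtain ⟨i, rfl⟩ := Subgroup.mem_zpowers_iff.mp ha
      refine (Commute.zpow_left ?_ i).eq
      have hvx : (v : G) * x = x * v := Subgroup.mem_centralizer_singleton_iff.mp v.2
      show c * (v : G) * c⁻¹ * (c * x * c⁻¹) = c * x * c⁻¹ * (c * (v : G) * c⁻¹)
      calc c * (v : G) * c⁻¹ * (c * x * c⁻¹) = c * ((v : G) * x) * c⁻¹ := by group
        _ = _ := by rw [hvx]; group
    have h3 := orderOf_dvd_natCard (⟨_, hmem⟩ : Subgroup.centralizer ((T.P : Subgroup G) : Set G))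
    rw [Subgroup.orderOf_mk, ← MulAut.conj_apply, MulEquiv.orderOf_eq, T.card_C] at h3
    have := hxo.trans h3
    omega
  rw [hS]
  have hcop : Nat.Coprime (Nat.card C) 56 := by
    rw [show 56 = 2 ^ 3 * 7 by norm_num]
    exact Nat.Coprime.mul_right ((Nat.prime_two.coprime_iff_not_dvd.mpr h2).pow_left 3).symm
      ((Fact.out : Nat.Prime 7).coprime_iff_not_dvd.mpr h7).symm
  exact Nat.le_of_dvd (by norm_num) (hcop.dvd_of_dvd_mul_left (show Nat.card C ∣ 56 * 3 ^ 2 by simpa using hd))

theorem orderOf_cases_504 (hn : Nat.card G = 504) (x : G) :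
    x = 1 ∨ orderOf x = 2 ∨ orderOf x = 7 ∨ ∃ S : Sylow 3 G, x ∈ S := by
  haveI : Fact (Nat.Prime 3) := ⟨by norm_num⟩
  haveI : Fact (Nat.Prime 7) := ⟨by norm_num⟩
  haveI : Fact (Nat.Prime 2) := ⟨Nat.prime_two⟩
  have hcomm : ¬ IsMulCommutative G := SmallOrder.not_comm_of_not_prime (by rw [hn]; norm_num)
  obtain ⟨k, T, hm⟩ := exists_ctx_of_orderBad hn 7 [7] 22 [(36, 2, 1)] (by norm_num) (by norm_num)
    (by norm_num) (by norm_num) (by norm_num) (by simp <;> norm_num) (by decide +kernel)
  simp only [List.mem_singleton, Prod.mk.injEq] at hm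
  have h7 : Nat.card (Sylow 7 G) = 36 := T.D.card_sylow.trans hm.1
  set I := Finset.univ.filter fun y : G => orderOf y = 2 with hI
  set A := Finset.univ.filter fun y : G => orderOf y = 7 with hA
  set B := Finset.univ.filter fun y : G => y ≠ 1 ∧ ∃ S : Sylow 3 G, y ∈ S with hB
  -- the involutions
  have hIle : 63 ≤ I.card := by
    obtain ⟨g, hg2, hg1, hgC, -⟩ := exists_central_involution (G := G) (b := 3) (by norm_num) (by rw [hn]; norm_num)
    have hgo : orderOf g = 2 := orderOf_eq_prime (by rw [pow_two, hg2]) hg1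
    have hidx : (Subgroup.centralizer ({g} : Set G)).index = 63 := by
      have h := (Subgroup.centralizer ({g} : Set G)).card_mul_index
      rw [card_centralizer_invol_504 hn hgo, hn] at h
      omega
    rw [← hidx, Subgroup.index_eq_card, Nat.card_eq_fintype_card]
    have hf : ∀ q : G ⧸ Subgroup.centralizer ({g} : Set G), orderOf (q.out * g * q.out⁻¹) = 2 := fun q => by
      rw [← MulAut.conj_apply, MulEquiv.orderOf_eq, hgo]
    refine le_trans (le_of_eq (Finset.card_univ (α := G ⧸ Subgroup.centralizer ({g} : Set G))).symm)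
      (Finset.card_le_card_of_injOn (fun q => q.out * g * q.out⁻¹)
        (fun q _ => Finset.mem_filter.mpr ⟨Finset.mem_univ _, hf q⟩) ?_)
    intro q₁ _ q₂ _ h
    simp only at h
    rw [← q₁.out_eq', ← q₂.out_eq', QuotientGroup.eq]
    refine Subgroup.mem_centralizer_singleton_iff.mpr ?_
    have h3 : q₂.out * g = q₁.out * g * q₁.out⁻¹ * q₂.out := by rw [h]; group
    calc q₁.out⁻¹ * q₂.out * g = q₁.out⁻¹ * (q₂.out * g) := by group
      _ = g * (q₁.out⁻¹ * q₂.out) := by rw [h3]; group
  -- the elements of order 7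
  have hAle : 216 ≤ A.card := by
    have hQ : ∀ Q : Sylow 7 G, Nat.card (Q : Subgroup G) = 7 := fun Q => by
      rw [Q.card_eq_multiplicity, hn]; decide +kernel
    have hgen : ∀ (Q : Sylow 7 G) (y : G), y ∈ (Q : Subgroup G) → y ≠ 1 →
        orderOf y = 7 ∧ Subgroup.zpowers y = (Q : Subgroup G) := fun Q y hy hy1 => by
      have h := orderOf_dvd_natCard (⟨y, hy⟩ : (Q : Subgroup G))
      rw [hQ Q, Subgroup.orderOf_mk] at h
      have ho : orderOf y = 7 := ((Nat.dvd_prime (Fact.out : Nat.Prime 7)).mp h).resolve_left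
        fun e => hy1 (orderOf_eq_one_iff.mp e)
      exact ⟨ho, Subgroup.eq_of_le_of_card_ge (Subgroup.zpowers_le.mpr hy)
        (by rw [Nat.card_zpowers, ho, hQ Q])⟩
    set src := (Finset.univ : Finset (Sylow 7 G)).sigma fun Q =>
      Finset.univ.filter fun y : G => y ∈ (Q : Subgroup G) ∧ y ≠ 1 with hsrc
    have hsc : src.card = 216 := by
      rw [hsrc, Finset.card_sigma, Finset.sum_congr rfl (g := fun _ => 6) fun Q _ => ?_,
        Finset.sum_const, Finset.card_univ, ← Nat.card_eq_fintype_card, h7, smul_eq_mul]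
      have h1 : (Finset.univ.filter fun y : G => y ∈ (Q : Subgroup G) ∧ y ≠ 1) =
          (Finset.univ.filter fun y : G => y ∈ (Q : Subgroup G)).erase 1 := by
        ext y; simp [and_comm]
      rw [h1, Finset.card_erase_of_mem (by simp), ← Fintype.card_subtype, ← Nat.card_eq_fintype_card]
      show Nat.card (Q : Subgroup G) - 1 = 6
      rw [hQ Q]
    rw [← hsc]
    refine Finset.card_le_card_of_injOn (fun s => s.2) (fun s hs => ?_) ?_
    · obtain ⟨-, hs⟩ := Finset.mem_sigma.mp hs
      obtain ⟨-, h1, h2⟩ := Finset.mem_filter.mp hs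
      exact Finset.mem_filter.mpr ⟨Finset.mem_univ _, (hgen s.1 _ h1 h2).1⟩
    · rintro ⟨Q₁, y₁⟩ h1 ⟨Q₂, y₂⟩ h2 (rfl : y₁ = y₂)
      obtain ⟨-, h1'⟩ := Finset.mem_sigma.mp h1
      obtain ⟨-, h2'⟩ := Finset.mem_sigma.mp h2
      obtain ⟨-, a1, a2⟩ := Finset.mem_filter.mp h1'
      obtain ⟨-, b1, b2⟩ := Finset.mem_filter.mp h2'
      have : Q₁ = Q₂ := Sylow.ext ((hgen Q₁ _ a1 a2).2.symm.trans (hgen Q₂ _ b1 b2).2)
      subst this
      rfl
  -- the 3-elements
  have hBle : 224 ≤ B.card := by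
    have hS : ∀ S : Sylow 3 G, Nat.card (S : Subgroup G) = 9 := fun S => by
      rw [S.card_eq_multiplicity, hn]; decide +kernel
    obtain ⟨S₀⟩ := (inferInstance : Nonempty (Sylow 3 G))
    have h28 : Nat.card (Sylow 3 G) = 28 := by
      have hd : Nat.card (Sylow 3 G) ∣ 56 := by
        have h1 := S₀.card_dvd_index
        have h2 := (S₀ : Subgroup G).card_mul_index
        rw [hS, hn] at h2
        rwa [show (S₀ : Subgroup G).index = 56 by omega] at h1
      have hm : Nat.card (Sylow 3 G) % 3 = 1 := card_sylow_modEq_one 3 G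
      have hN := SmallOrder.normalizer_sylow_ne_top hcomm (p := 3) (by rw [hn]; norm_num) S₀
      have hb := SmallOrder.badIndex_eq_false hcomm hN
      erw [← Sylow.card_eq_index_normalizer S₀] at hb
      rw [hn] at hb
      have h1 := SmallOrder.card_sylow_ne_one (p := 3) hcomm (by rw [hn]; norm_num)
      have hle := Nat.le_of_dvd (by norm_num) hd
      interval_cases hc : Nat.card (Sylow 3 G) <;> first | rfl | omega | exact absurd hb (by decide)
    set src := (Finset.univ : Finset (Sylow 3 G)).sigma fun S =>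
      Finset.univ.filter fun y : G => y ∈ (S : Subgroup G) ∧ y ≠ 1 with hsrc
    have hsc : src.card = 224 := by
      rw [hsrc, Finset.card_sigma, Finset.sum_congr rfl (g := fun _ => 8) fun Q _ => ?_,
        Finset.sum_const, Finset.card_univ, ← Nat.card_eq_fintype_card, h28, smul_eq_mul]
      have h1 : (Finset.univ.filter fun y : G => y ∈ (Q : Subgroup G) ∧ y ≠ 1) =
          (Finset.univ.filter fun y : G => y ∈ (Q : Subgroup G)).erase 1 := by
        ext y; simp [and_comm]
      rw [h1, Finset.card_erase_of_mem (by simp), ← Fintype.card_subtype, ← Nat.card_eq_fintype_card]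
      show Nat.card (Q : Subgroup G) - 1 = 8
      rw [hS Q]
    rw [← hsc]
    refine Finset.card_le_card_of_injOn (fun s => s.2) (fun s hs => ?_) ?_
    · obtain ⟨-, hs⟩ := Finset.mem_sigma.mp hs
      obtain ⟨-, h1, h2⟩ := Finset.mem_filter.mp hs
      exact Finset.mem_filter.mpr ⟨Finset.mem_univ _, h2, s.1, h1⟩
    · rintro ⟨Q₁, y₁⟩ h1 ⟨Q₂, y₂⟩ h2 (rfl : y₁ = y₂)
      obtain ⟨-, h1'⟩ := Finset.mem_sigma.mp h1
      obtain ⟨-, h2'⟩ := Finset.mem_sigma.mp h2
      obtain ⟨-, a1, a2⟩ := Finset.mem_filter.mp h1'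
      obtain ⟨-, b1, b2⟩ := Finset.mem_filter.mp h2'
      have : Q₁ = Q₂ := Sylow.ext ((centralizer_three_504 hn a2 Q₁ a1).symm.trans (centralizer_three_504 hn b2 Q₂ b1))
      subst this
      rfl
  -- they exhaust the group
  have hB3 : ∀ y ∈ B, orderOf y ∣ 9 := fun y hy => by
    obtain ⟨-, -, S, hS⟩ := Finset.mem_filter.mp hy
    have h := orderOf_dvd_natCard (⟨y, hS⟩ : (S : Subgroup G))
    rwa [Subgroup.orderOf_mk, show Nat.card (S : Subgroup G) = 9 by
      rw [S.card_eq_multiplicity, hn]; decide +kernel] at h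
  have d1 : Disjoint I A := Finset.disjoint_left.mpr fun y h1 h2 => by
    have := (Finset.mem_filter.mp h1).2; have := (Finset.mem_filter.mp h2).2; omega
  have d2 : Disjoint (I ∪ A) B := Finset.disjoint_left.mpr fun y h1 h2 => by
    have h9 := hB3 y h2
    rcases Finset.mem_union.mp h1 with h | h <;>
      · rw [(Finset.mem_filter.mp h).2] at h9
        norm_num at h9
  have d3 : Disjoint ({1} : Finset G) (I ∪ A ∪ B) := Finset.disjoint_singleton_left.mpr fun h => by
    rcases Finset.mem_union.mp h with h | h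
    · rcases Finset.mem_union.mp h with h | h <;>
        · have := (Finset.mem_filter.mp h).2
          rw [orderOf_one] at this
          omega
    · exact (Finset.mem_filter.mp h).2.1 rfl
  have hall : ({1} : Finset G) ∪ (I ∪ A ∪ B) = Finset.univ := by
    refine Finset.eq_univ_of_card _ (le_antisymm (Finset.card_le_univ _) ?_)
    rw [← Nat.card_eq_fintype_card, hn, Finset.card_union_of_disjoint d3,
      Finset.card_union_of_disjoint d2, Finset.card_union_of_disjoint d1, Finset.card_singleton]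
    omega
  have hx : x ∈ ({1} : Finset G) ∪ (I ∪ A ∪ B) := hall ▸ Finset.mem_univ x
  simp only [Finset.mem_union, Finset.mem_singleton, hI, hA, hB, Finset.mem_filter, Finset.mem_univ,
    true_and] at hx
  tauto

/-- A simple group of order 504 is `PSL(2, 8)`. -/
theorem iso_504 (hn : Nat.card G = 504) {F : Type v} [Field F] [Fintype F] (hF : Fintype.card F = 8) :
    Nonempty (G ≃* Matrix.ProjectiveSpecialLinearGroup (Fin 2) F) := by
  haveI : Fact (Nat.Prime 2) := ⟨Nat.prime_two⟩
  have hcomm : ¬ IsMulCommutative G := SmallOrder.not_comm_of_not_prime (by rw [hn]; norm_num)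
  have hcent : ∀ t : G, orderOf t = 2 → IsMulCommutative (Subgroup.centralizer ({t} : Set G)) ∧
      ∀ c ∈ Subgroup.centralizer ({t} : Set G), c ^ 2 = 1 := by
    intro t ht
    have hsq : ∀ c ∈ Subgroup.centralizer ({t} : Set G), c ^ 2 = 1 := fun c hc => by
      have h8 := orderOf_dvd_natCard (⟨c, hc⟩ : Subgroup.centralizer ({t} : Set G))
      rw [Subgroup.orderOf_mk, card_centralizer_invol_504 hn ht] at h8
      rcases orderOf_cases_504 hn c with h | h | h | ⟨S, hS⟩
      · rw [h, one_pow]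
      · rw [← h, pow_orderOf_eq_one]
      · rw [h] at h8; norm_num at h8
      · haveI : Fact (Nat.Prime 3) := ⟨by norm_num⟩
        have h9 := orderOf_dvd_natCard (⟨c, hS⟩ : (S : Subgroup G))
        rw [Subgroup.orderOf_mk, show Nat.card (S : Subgroup G) = 9 by
          rw [S.card_eq_multiplicity, hn]; decide +kernel] at h9
        have h1 : orderOf c ∣ 1 := (show Nat.gcd 8 9 = 1 by norm_num) ▸ Nat.dvd_gcd h8 h9
        rw [orderOf_eq_one_iff.mp (Nat.dvd_one.mp h1), one_pow]
    refine ⟨⟨⟨fun a b => Subtype.ext ?_⟩⟩, hsq⟩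
    have h1 := hsq _ (a * b).2
    have h2 := hsq _ a.2
    have h3 := hsq _ b.2
    rw [pow_two] at h1 h2 h3
    show (a : G) * b = b * a
    rw [Subgroup.coe_mul] at h1
    calc (a : G) * b = ((a : G) * b)⁻¹ := (inv_eq_of_mul_eq_one_right h1).symm
      _ = b * a := by rw [mul_inv_rev, inv_eq_of_mul_eq_one_right h2, inv_eq_of_mul_eq_one_right h3]
  obtain ⟨T⟩ := (inferInstance : Nonempty (Sylow 2 G))
  have hT : Nat.card (T : Subgroup G) = 8 := by
    rw [T.card_eq_multiplicity, hn]; decide +kernel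
  haveI : Nontrivial (T : Subgroup G) := Finite.one_lt_card_iff_nontrivial.mp (by rw [hT]; norm_num)
  have hnn : ¬ (T : Subgroup G).Normal := fun h => by
    rcases h.eq_bot_or_eq_top with h | h
    · rw [h, Subgroup.card_bot] at hT; omega
    · rw [h, Subgroup.card_top, hn] at hT; omega
  have hnc : ¬ IsCyclic (T : Subgroup G) := fun hc => by
    obtain ⟨c, hgen⟩ := hc.exists_generator
    have ho := orderOf_eq_card_of_forall_mem_zpowers hgen
    rw [hT] at ho
    rcases orderOf_cases_504 hn (c : G) with h | h | h | ⟨S, hS⟩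
    · rw [← Subgroup.orderOf_coe, h, orderOf_one] at ho; omega
    · rw [← Subgroup.orderOf_coe, h] at ho; omega
    · rw [← Subgroup.orderOf_coe, h] at ho; omega
    · haveI : Fact (Nat.Prime 3) := ⟨by norm_num⟩
      have h9 := orderOf_dvd_natCard (⟨(c : G), hS⟩ : (S : Subgroup G))
      rw [Subgroup.orderOf_mk, show Nat.card (S : Subgroup G) = 9 by
        rw [S.card_eq_multiplicity, hn]; decide +kernel, Subgroup.orderOf_coe, ho] at h9
      norm_num at h9
  obtain ⟨K, _, _, hK, ⟨e⟩⟩ := Invol.ElemCent.exists_psl_equiv (T := T) ⟨hnc, hnn, hcent⟩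
  obtain ⟨e'⟩ := psl_congr (F := K) (K := F) (hK.trans (hT.trans hF.symm))
  exact ⟨e.trans e'⟩

end CfsgLib.BrauerTuan
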