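import Cfsg.Agent.Lib.BrauerTuan.Basic
import Cfsg.Agent.Lib.SmallOrder.Basic

/-!
# A periodic character of degree `p + 1`
-/

set_option autoImplicit false
set_option linter.unusedSectionVars false
set_option linter.style.haveILetI false

namespace CfsgLib.BrauerTuan

open Cfsg Module
open scoped ComplexConjugate CfsgLib.Char
open CfsgLib
open scoped _root_.Classical

universe u

variable {G : Type u} [Group G] [Fintype G] {p : ℕ} [Fact p.Prime]

/-- The root of unity conclusion: `a + b = L + 1`, `a b L ^ (p - 1) = 1` force all to be one. -/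
theorem roots_eq_one {r : ℕ} (hr : r.Prime) (hrp : r ≠ p) (hp2 : p ≠ 2) {a b L : ℂ} (ha : a ^ r = 1)
    (hb : b ^ r = 1) (hL : L ^ r = 1) (hsum : a + b = L + 1) (hprod : a * b * L ^ (p - 1) = 1) :
    a = 1 ∧ b = 1 ∧ L = 1 := by
  have hp : p.Prime := Fact.out
  rcases hr.eq_two_or_odd' with rfl | hodd
  · have hpow : (-1 : ℂ) ^ (p - 1) = 1 := (Nat.Prime.even_sub_one hp hp2).neg_one_pow
    rcases sq_eq_one_iff.mp ha with rfl | rfl <;> rcases sq_eq_one_iff.mp hb with rfl | rfl <;>
      rcases sq_eq_one_iff.mp hL with rfl | rfl <;> first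
      | (simp; done)
      | (norm_num at hsum; done)
      | (norm_num [hpow] at hprod; done)
  have hL1 : L + 1 ≠ 0 := fun h => by
    rw [eq_neg_of_add_eq_zero_left h, hodd.neg_one_pow] at hL
    norm_num at hL
  have hn : ∀ x : ℂ, x ^ r = 1 → conj x = x⁻¹ := fun x hx =>
    (Complex.inv_eq_conj (Complex.norm_eq_one_of_pow_eq_one hx hr.ne_zero)).symm
  have ha0 : a ≠ 0 := fun h => by rw [h, zero_pow hr.ne_zero] at ha; exact zero_ne_one ha
  have hb0 : b ≠ 0 := fun h => by rw [h, zero_pow hr.ne_zero] at hb; exact zero_ne_one hb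
  have hL0 : L ≠ 0 := fun h => by rw [h, zero_pow hr.ne_zero] at hL; exact zero_ne_one hL
  have h1 := congrArg conj hsum
  rw [map_add, map_add, map_one, hn a ha, hn b hb, hn L hL] at h1
  field_simp at h1
  have hab : a * b = L := by
    refine mul_left_cancel₀ hL1 ?_
    linear_combination -h1 + L * hsum
  rw [hab, ← pow_succ', Nat.sub_add_cancel hp.one_le] at hprod
  have hL' : L = 1 := by
    have := pow_gcd_eq_one.mpr ⟨hprod, hL⟩
    rwa [(Nat.coprime_primes hp hr).mpr (Ne.symm hrp), pow_one] at this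
  subst hL'
  have hz : (a - 1) * (a - 1) = 0 := by linear_combination a * hsum - hab
  have ha1 : a = 1 := sub_eq_zero.mp (mul_self_eq_zero.mp hz)
  exact ⟨ha1, by linear_combination hsum - ha1, rfl⟩

/-- A character of degree `p + 1` with value `1` on the sections is not faithful on `C(P)` or `C(P)` is
a `p`-group. -/
theorem not_periodic_succ [IsSimpleGroup G] (hG : ¬ IsMulCommutative G) (hp2 : p ≠ 2) {χ : IrrCharacter G}
    (hne : χ ≠ Blocks.trivIrr G) (hd : charDegree (χ : G → ℂ) = p + 1) {v y : G} (hv : orderOf v = p)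
    (hvy : Commute v y) {r : ℕ} (hr : r.Prime) (hrp : r ≠ p) (hy : orderOf y = r)
    (hval : ∀ i : ℕ, ¬ p ∣ i → ∀ l : ℕ, (χ : G → ℂ) (v ^ i * y ^ l) = 1) : False := by
  have hp : p.Prime := Fact.out
  obtain ⟨k, ρ, hρ⟩ := Char.isCharacter_of_isIrr χ.2
  have hk : finrank ℂ (Fin k → ℂ) = p + 1 := by
    have h := BrauerReynolds.value_one χ
    rw [hd, ← hρ, Representation.char_one] at h
    exact_mod_cast h
  have hcop : p.Coprime r := (Nat.coprime_primes hp hr).mpr (Ne.symm hrp)
  obtain ⟨b, z, hz, hb⟩ := Char.exists_eigenBasis ρ (v * y)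
  rw [hvy.orderOf_mul_eq_mul_orderOf_of_coprime (by rw [hv, hy]; exact hcop), hv, hy] at hz
  set μ := fun i => z i ^ r with hμ
  set ν := fun i => z i ^ p with hν
  have hμp : ∀ i, μ i ^ p = 1 := fun i => by rw [hμ]; simp only; rw [← pow_mul, mul_comm, hz]
  have hνr : ∀ i, ν i ^ r = 1 := fun i => by rw [hν]; simp only; rw [← pow_mul, hz]
  have hgj : ∀ j l : ℕ, (v * y) ^ (r * j + p * l) = v ^ (r * j) * y ^ (p * l) := fun j l => by
    rw [pow_add, hvy.mul_pow, hvy.mul_pow, pow_mul y r, ← hy, pow_orderOf_eq_one, one_pow, mul_one,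
      pow_mul v p, ← hv, pow_orderOf_eq_one, one_pow, one_mul]
  have htr : ∀ j l : ℕ, (χ : G → ℂ) (v ^ (r * j) * y ^ (p * l)) = ∑ i, μ i ^ j * ν i ^ l := fun j l => by
    rw [← hρ, ← hgj]
    show LinearMap.trace ℂ _ (ρ _) = _
    rw [Char.trace_eq_sum_of_diag b _ _ (fun i => hb i (r * j + p * l))]
    exact Finset.sum_congr rfl fun i _ => by rw [hμ, hν]; simp only; rw [pow_add, pow_mul, pow_mul]
  set ζ := Complex.exp (2 * Real.pi * Complex.I / p) with hζdef
  have hζ : IsPrimitiveRoot ζ p := Complex.isPrimitiveRoot_exp p hp.ne_zero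
  have hex : ∀ i, ∃ m < p, ζ ^ m = μ i := fun i => hζ.eq_pow_of_pow_eq_one (hμp i)
  choose f hf hfe using hex
  have hfib : ∀ m < p, ∀ l : ℕ, (p : ℂ) * ∑ i ∈ Finset.univ.filter (fun i => f i = m), ν i ^ l =
      (χ : G → ℂ) (y ^ (p * l)) - 1 + if m = 0 then (p : ℂ) else 0 := by
    intro m hm l
    have hζm : ζ ^ m ≠ 0 := pow_ne_zero _ (hζ.ne_zero hp.ne_zero)
    have hgeom : ∀ w : ℂ, w ^ p = 1 → ∑ j ∈ Finset.range p, w ^ j = if w = 1 then (p : ℂ) else 0 :=
      fun w hw => by
        split_ifs with h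
        · simp [h]
        · rw [geom_sum_eq h, hw, sub_self, zero_div]
    have hinvp : ((ζ ^ m)⁻¹) ^ p = 1 := by
      rw [inv_pow, ← pow_mul, mul_comm, pow_mul, hζ.pow_eq_one, one_pow, inv_one]
    have key : ∑ j ∈ Finset.range p, ((ζ ^ m)⁻¹) ^ j * (χ : G → ℂ) (v ^ (r * j) * y ^ (p * l)) =
        (p : ℂ) * ∑ i ∈ Finset.univ.filter (fun i => f i = m), ν i ^ l := by
      simp only [htr, Finset.mul_sum, ← mul_assoc, ← mul_pow]
      rw [Finset.sum_comm, Finset.sum_filter]
      refine Finset.sum_congr rfl fun i _ => ?_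
      rw [← Finset.sum_mul, hgeom _ (by rw [mul_pow, hinvp, hμp, one_mul])]
      have : ((ζ ^ m)⁻¹ * μ i = 1) ↔ f i = m := by
        rw [inv_mul_eq_one₀ hζm, ← hfe i]
        exact ⟨fun e => (hζ.pow_inj hm (hf i) e).symm, fun e => by rw [e]⟩
      by_cases h : f i = m
      · rw [if_pos (this.mpr h), if_pos h]
      · rw [if_neg (fun e => h (this.mp e)), if_neg h, zero_mul]
    rw [← key, ← Finset.add_sum_erase _ _ (Finset.mem_range.mpr hp.pos), pow_zero, one_mul, mul_zero,
      pow_zero, one_mul]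
    have hrest : ∑ j ∈ (Finset.range p).erase 0, ((ζ ^ m)⁻¹) ^ j * (χ : G → ℂ) (v ^ (r * j) * y ^ (p * l)) =
        ∑ j ∈ (Finset.range p).erase 0, ((ζ ^ m)⁻¹) ^ j := by
      refine Finset.sum_congr rfl fun j hj => ?_
      obtain ⟨hj0, hjp⟩ := Finset.mem_erase.mp hj
      rw [Finset.mem_range] at hjp
      rw [hval (r * j) (fun h => (hp.dvd_mul.mp h).elim
        (fun h' => hrp ((Nat.prime_dvd_prime_iff_eq hp hr).mp h').symm)
        (fun h' => hj0 (Nat.eq_zero_of_dvd_of_lt h' hjp))), mul_one]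
    rw [hrest, Finset.sum_erase_eq_sub (Finset.mem_range.mpr hp.pos), pow_zero, hgeom _ hinvp]
    have : ((ζ ^ m)⁻¹ = 1) ↔ m = 0 := by
      rw [inv_eq_one]
      exact ⟨fun e => hζ.pow_inj hm hp.pos (by rw [e, pow_zero]), fun e => by rw [e, pow_zero]⟩
    by_cases h : m = 0
    · rw [if_pos (this.mpr h), if_pos h]; ring
    · rw [if_neg (fun e => h (this.mp e)), if_neg h]; ring
  have hp0 : (p : ℂ) ≠ 0 := Nat.cast_ne_zero.mpr hp.ne_zero
  have hcard : ∀ m < p, (Finset.univ.filter (fun i => f i = m)).card = if m = 0 then 2 else 1 := by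
    intro m hm
    have h := hfib m hm 0
    simp only [pow_zero, Finset.sum_const, nsmul_eq_mul, mul_one, mul_zero, BrauerReynolds.value_one, hd] at h
    have h' : p * (Finset.univ.filter (fun i => f i = m)).card = p + if m = 0 then p else 0 := by
      have : ((p * (Finset.univ.filter (fun i => f i = m)).card : ℕ) : ℂ) =
          ((p + if m = 0 then p else 0 : ℕ) : ℂ) := by
        push_cast
        rw [h]; push_cast; ring
      exact_mod_cast this
    split_ifs at h' ⊢ with h0 <;> refine Nat.eq_of_mul_eq_mul_left hp.pos ?_ <;> rw [h'] <;> ring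
  set L : ℂ := ((χ : G → ℂ) (y ^ p) - 1) / p with hLdef
  have hsum : ∀ m < p, ∑ i ∈ Finset.univ.filter (fun i => f i = m), ν i = L + if m = 0 then 1 else 0 := by
    intro m hm
    have h := hfib m hm 1
    simp only [pow_one, mul_one] at h
    refine mul_left_cancel₀ hp0 ?_
    rw [h, hLdef, mul_add, mul_div_cancel₀ _ hp0]
    split_ifs <;> simp
  have hsingle : ∀ i, f i ≠ 0 → ν i = L := fun i hi => by
    obtain ⟨j, hj⟩ := Finset.card_eq_one.mp ((hcard _ (hf i)).trans (if_neg hi))
    have h := hsum _ (hf i)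
    have hij : i = j := Finset.mem_singleton.mp (hj ▸ Finset.mem_filter.mpr ⟨Finset.mem_univ i, rfl⟩)
    rw [hj, Finset.sum_singleton, ← hij, if_neg hi, add_zero] at h
    exact h
  obtain ⟨i₁, i₂, h12, h0⟩ := Finset.card_eq_two.mp ((hcard 0 hp.pos).trans (if_pos rfl))
  have hab := hsum 0 hp.pos
  rw [h0, Finset.sum_pair h12, if_pos rfl] at hab
  obtain ⟨i₃, hi₃⟩ : ∃ i, f i = 1 := by
    obtain ⟨j, hj⟩ := Finset.card_eq_one.mp ((hcard 1 hp.one_lt).trans (if_neg one_ne_zero))
    have hm : j ∈ Finset.univ.filter (fun i => f i = 1) := by rw [hj]; exact Finset.mem_singleton_self j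
    exact ⟨j, (Finset.mem_filter.mp hm).2⟩
  have hLr : L ^ r = 1 := hsingle i₃ (by omega) ▸ hνr i₃
  have hdet : LinearMap.det (ρ (y ^ p)) = 1 := by
    have hD1 := SmallOrder.map_eq_one_of_comm hG (LinearMap.det.comp ρ).toHomUnits (y ^ p)
    exact congrArg Units.val hD1
  have hdiag : ∀ i, ρ (y ^ p) (b i) = ν i • b i := fun i => by
    have h := hb i (r * 0 + p * 1)
    rw [hgj, mul_zero, pow_zero, one_mul, mul_one, zero_add] at h
    exact h
  rw [← LinearMap.det_toMatrix b, show LinearMap.toMatrix b b (ρ (y ^ p)) = Matrix.diagonal ν from ?_,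
    Matrix.det_diagonal, ← Finset.prod_filter_mul_prod_filter_not Finset.univ (fun i => f i = 0), h0,
    Finset.prod_pair h12, Finset.prod_congr rfl (g := fun _ => L) (fun i hi => hsingle i (Finset.mem_filter.mp hi).2),
    Finset.prod_const] at hdet
  swap
  · ext i j
    rw [LinearMap.toMatrix_apply, hdiag, map_smul, Basis.repr_self, Finsupp.smul_apply, Matrix.diagonal_apply]
    by_cases h : i = j
    · subst h; simp
    · simp [h, Ne.symm h]
  have hrest : (Finset.univ.filter fun i => ¬ f i = 0).card = p - 1 := by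
    have h := Finset.card_filter_add_card_filter_not (s := (Finset.univ : Finset _)) (p := fun i => f i = 0)
    rw [Finset.card_univ, Fintype.card_fin, (hcard 0 hp.pos).trans (if_pos rfl)] at h
    omega
  rw [hrest] at hdet
  obtain ⟨-, -, hL1⟩ := roots_eq_one hr hrp hp2 (hνr i₁) (hνr i₂) hLr hab hdet
  rw [hLdef, div_eq_one_iff_eq hp0] at hL1
  have h1 : y ^ p = 1 := BrauerReynolds.faithful_of_simple hne (by
    rw [BrauerReynolds.value_one, hd]; push_cast; linear_combination hL1)
  rw [← orderOf_dvd_iff_pow_eq_one, hy] at h1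
  exact hrp ((Nat.prime_dvd_prime_iff_eq hr hp).mp h1)

end CfsgLib.BrauerTuan
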