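import Cfsg.Agent.Lib.BrauerTuan.Count
import Cfsg.Agent.Lib.BrauerTuan.Succ
import Cfsg.Agent.Lib.SmallOrder.Exclude
import Cfsg.Agent.Lib.Classical.Card

/-!
# Excluding orders of simple groups by the degrees in a principal block of prime defect
-/

set_option autoImplicit false
set_option linter.unusedSectionVars false
set_option linter.style.haveILetI false

namespace CfsgLib.BrauerTuan

/-- `d` can be the degree of a non-trivial character of the block, for order `n`, `|C(P)| = p k`,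
and `qs` primes dividing `n` exactly once. -/
def degOK (n p k ec : ℕ) (qs : List ℕ) (d : ℕ) : Bool :=
  decide (2 ≤ d) && decide (d * d < n) && decide (ec % d = 0) && (decide (k = 1) || decide (p ≤ d)) &&
    qs.all fun q => decide (q < 2 * d + 1) || (decide (q = 2 * d + 1) && decide (2 * n = q * (q ^ 2 - 1)))

/-- An involution centralising `P` has a possible value. -/
def invOK (p x : ℕ) (s : ℤ) : Bool :=
  let K := (((x : ℤ) + ((p : ℤ) - 1) * s) / p).toNat
  (List.range (2 * K + 1)).any fun i =>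
    let A := (p : ℤ) * ((i : ℤ) - K) - ((p : ℤ) - 1) * s
    decide (A < x) && decide (-(x : ℤ) < A) && decide (((x : ℤ) - A) % 4 = 0)

/-- The possible signed degrees of the rational characters. -/
def xList (n p k ec : ℕ) (qs : List ℕ) (B : ℕ) : List ℤ :=
  (List.range (B + 1)).flatMap fun x => ([1, -1] : List ℤ).filterMap fun s =>
    if degOK n p k ec qs x && decide (((x : ℤ) - s) % p = 0) && (decide (k % 2 = 1) || invOK p x s) &&
        (decide (k = 1) || decide (s ≠ 1) || decide (x ≠ p + 1)) then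
      some (s * x) else none

/-- The possible signed degrees of the exceptional characters. -/
def yList (n p k ec e : ℕ) (qs : List ℕ) (B : ℕ) : List ℤ :=
  (List.range (B + 1)).flatMap fun x => ([1, -1] : List ℤ).filterMap fun s =>
    if degOK n p k ec qs x && decide (((x : ℤ) - s * e) % p = 0) then some (s * x) else none

/-- The sums of `j` elements of `L`. -/
def sumsOf (L : List ℤ) : ℕ → List ℤ
  | 0 => [0]
  | j + 1 => ((sumsOf L j).flatMap fun v => L.map fun w => w + v).eraseDups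

/-- No principal block fits `c` Sylow subgroups, `|N(P) : C(P)| = e` and `|C(P)| = p k`. -/
def blockBad (n p : ℕ) (qs : List ℕ) (B c e k : ℕ) : Bool :=
  let L := xList n p k (e * c) qs B
  if e + 1 = p then !(sumsOf L e).contains (-1)
  else (sumsOf L (e - 1)).all fun v => !(yList n p k (e * c) e qs B).contains (1 + v)

/-- No number of Sylow subgroups and no block fit the order `n = p m`, apart from the exceptions
`(number of Sylow subgroups, e, k)`. -/
def orderBad (n p : ℕ) (qs : List ℕ) (B : ℕ) (exc : List (ℕ × ℕ × ℕ) := []) : Bool :=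
  (List.range (n / p / p + 1)).all fun j =>
    let c := 1 + j * p
    decide (j = 0) || decide (n / p % c ≠ 0) || SmallOrder.badIndex n c ||
      (List.range p).all fun e =>
        decide (e < 2) || decide ((p - 1) % e ≠ 0) || decide (n / p / c % e ≠ 0) ||
          exc.contains (c, e, n / p / c / e) || blockBad n p qs B c e (n / p / c / e)

theorem mem_sumsOf {ι : Type*} [DecidableEq ι] {L : List ℤ} {f : ι → ℤ} (s : Finset ι)
    (h : ∀ i ∈ s, f i ∈ L) : ∑ i ∈ s, f i ∈ sumsOf L s.card := by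
  induction s using Finset.induction_on with
  | empty => simp [sumsOf]
  | insert a s ha ih =>
    rw [Finset.sum_insert ha, Finset.card_insert_of_notMem ha, sumsOf, List.mem_eraseDups,
      List.mem_flatMap]
    exact ⟨_, ih fun i hi => h i (Finset.mem_insert_of_mem hi),
      List.mem_map.mpr ⟨f a, h a (Finset.mem_insert_self a s), rfl⟩⟩

open Cfsg Module
open scoped ComplexConjugate CfsgLib.Char
open CfsgLib
open scoped _root_.Classical

universe u

variable {G : Type u} [Group G] [Fintype G] {p : ℕ} [Fact p.Prime]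

theorem degree_sq_lt {χ : IrrCharacter G} (hχ : χ ≠ Blocks.trivIrr G) :
    charDegree (χ : G → ℂ) * charDegree (χ : G → ℂ) < Nat.card G := by
  have h := Char.sum_sq_degree (G := G)
  simp only [BrauerReynolds.value_one, ← Nat.cast_pow, ← Nat.cast_sum, Nat.cast_inj] at h
  rw [← h, ← pow_two]
  have h2 : (charDegree (χ : G → ℂ)) ^ 2 + charDegree (Blocks.trivIrr G : G → ℂ) ^ 2 ≤
      ∑ ξ : IrrCharacter G, charDegree (ξ : G → ℂ) ^ 2 := by
    rw [← Finset.sum_pair (f := fun ξ : IrrCharacter G => charDegree (ξ : G → ℂ) ^ 2) hχ]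
    exact Finset.sum_le_sum_of_subset (Finset.subset_univ _)
  rw [BrauerReynolds.degree_triv] at h2
  omega

/-- The determinant of an involution on a module of a simple group is `1`. -/
theorem involution_value_mod_four [IsSimpleGroup G] (hG : ¬ IsMulCommutative G) {φ : G → ℂ}
    (hφ : IsCharacter G φ) {g : G} (hg : g * g = 1) {d : ℕ} (hd : φ 1 = d) :
    ∃ j : ℤ, φ g = (((d : ℤ) - 4 * j : ℤ) : ℂ) := by
  obtain ⟨k, ρ, rfl⟩ := hφ
  have hdk : d = finrank ℂ (Fin k → ℂ) := by
    rw [Representation.char_one] at hd; exact_mod_cast hd.symm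
  let D : G →* ℂˣ := (LinearMap.det.comp ρ).toHomUnits
  have hD : LinearMap.det (ρ g) = 1 := by
    have hD1 := SmallOrder.map_eq_one_of_comm hG D g
    exact congrArg Units.val hD1
  obtain ⟨b, μ, hμ, hb⟩ := Char.exists_eigenBasis_of_pow_eq_one (ρ g) two_ne_zero
    (by rw [← map_pow, pow_two, hg, map_one])
  have hμ2 : ∀ i, μ i = 1 ∨ μ i = -1 := fun i => sq_eq_one_iff.mp (hμ i)
  set s := Finset.univ.filter fun i => μ i = -1 with hs
  have hmem : ∀ i, i ∈ s ↔ μ i = -1 := fun i => by simp [hs]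
  have hdet : LinearMap.det (ρ g) = ∏ i, μ i := by
    rw [← LinearMap.det_toMatrix b, show LinearMap.toMatrix b b (ρ g) = Matrix.diagonal μ from ?_,
      Matrix.det_diagonal]
    ext i j
    rw [LinearMap.toMatrix_apply, hb, map_smul, Basis.repr_self, Finsupp.smul_apply, Matrix.diagonal_apply]
    by_cases h : i = j
    · subst h; simp
    · simp [h, Ne.symm h]
  have hprod : ∏ i, μ i = (-1 : ℂ) ^ s.card := by
    rw [← Finset.prod_const, Finset.prod_congr rfl (g := fun i => if i ∈ s then (-1 : ℂ) else 1) fun i _ => by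
      rcases hμ2 i with h | h
      · rw [if_neg (by rw [hmem, h]; norm_num), h]
      · rw [if_pos ((hmem i).mpr h), h],
      Finset.prod_ite_mem, Finset.univ_inter]
  have htr : ρ.character g = (d : ℂ) - 2 * s.card := by
    show LinearMap.trace ℂ _ (ρ g) = _
    rw [Char.trace_eq_sum_of_diag b _ μ hb,
      Finset.sum_congr rfl (g := fun i => (1 : ℂ) - if i ∈ s then 2 else 0) fun i _ => by
        rcases hμ2 i with h | h
        · rw [if_neg (by rw [hmem, h]; norm_num), h, sub_zero]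
        · rw [if_pos ((hmem i).mpr h), h]; norm_num,
      Finset.sum_sub_distrib, Finset.sum_const, Finset.sum_ite_mem, Finset.univ_inter, Finset.sum_const,
      Finset.card_univ, Fintype.card_fin, hdk]
    simp [mul_comm]
  rw [hdet, hprod] at hD
  obtain ⟨r, hr⟩ : Even s.card := (neg_one_pow_eq_one_iff_even (by norm_num : (-1 : ℂ) ≠ 1)).mp hD
  refine ⟨r, ?_⟩
  rw [htr, hr]
  push_cast
  ring

variable {P : Sylow p G}

/-- A character of degree `< p` periodic on the sections makes `C(P) = P`. -/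
theorem centralizer_eq_of_small [IsSimpleGroup G] (hP : Nat.card (P : Subgroup G) = p)
    (hsq : ¬ p * p ∣ Nat.card G) {ψ : IrrCharacter G} (hne : ψ ≠ Blocks.trivIrr G)
    (hd : charDegree (ψ : G → ℂ) < p)
    (hval : ∀ v ∈ (P : Subgroup G), v ≠ 1 → ∀ y ∈ Subgroup.centralizer ((P : Subgroup G) : Set G),
      ¬ p ∣ orderOf y → (ψ : G → ℂ) (v * y) = (ψ : G → ℂ) v) :
    Subgroup.centralizer ((P : Subgroup G) : Set G) = (P : Subgroup G) := by
  have hp : p.Prime := Fact.out
  obtain ⟨v, hv, hv1⟩ : ∃ v, v ∈ (P : Subgroup G) ∧ v ≠ 1 := by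
    rcases (P : Subgroup G).bot_or_exists_ne_one with h | h
    · rw [h, Subgroup.card_bot] at hP
      exact absurd hP hp.one_lt.ne
    · exact h
  have hvo : orderOf v = p := by
    have h := orderOf_dvd_natCard (⟨v, hv⟩ : (P : Subgroup G))
    rw [hP, Subgroup.orderOf_mk] at h
    exact ((Nat.dvd_prime hp).mp h).resolve_left fun h' => hv1 (orderOf_eq_one_iff.mp h')
  set C := Subgroup.centralizer ((P : Subgroup G) : Set G) with hCdef
  have hexp : IsPGroup p C := fun c => ⟨1, by
    refine Subtype.ext ?_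
    rw [pow_one, Subgroup.coe_pow, Subgroup.coe_one]
    have hc : (c : G) ^ p ∈ C := Subgroup.pow_mem _ c.2 p
    have hr : ¬ p ∣ orderOf ((c : G) ^ p) := fun h => hsq <| by
      have hd : orderOf ((c : G) ^ p) * p ∣ orderOf (c : G) := by
        have h1 : p ∣ orderOf (c : G) := h.trans (orderOf_pow_dvd p)
        rw [orderOf_pow' _ hp.ne_zero, Nat.gcd_eq_right h1, Nat.div_mul_cancel h1]
      exact (mul_dvd_mul_right h p).trans (hd.trans (orderOf_dvd_natCard _))
    refine BrauerReynolds.faithful_of_simple hne (value_eq_of_periodic (Char.isCharacter_of_isIrr ψ.2) hvo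
      (BrauerReynolds.value_one ψ) hd fun i hi => ?_)
    refine hval (v ^ i) (Subgroup.pow_mem _ hv i) (fun h => hi ?_) _ hc hr
    rw [← hvo]
    exact orderOf_dvd_iff_pow_eq_one.mpr h⟩
  exact P.3 hexp fun a ha => by
    haveI : IsCyclic (P : Subgroup G) := isCyclic_of_prime_card hP
    exact Subgroup.mem_centralizer_iff.mpr fun c hc =>
      congrArg Subtype.val ((IsCyclic.commGroup (α := (P : Subgroup G))).mul_comm ⟨c, hc⟩ ⟨a, ha⟩)

/-- The facts about the order used by the checker. -/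
structure OrderCtx (G : Type u) [Group G] [Fintype G] (n p : ℕ) [Fact p.Prime] (qs : List ℕ) (B k : ℕ) where
  P : Sylow p G
  card_P : Nat.card (P : Subgroup G) = p
  D : Data P
  noncomm : ¬ IsMulCommutative G
  card_eq : Nat.card G = n
  sq : ¬ p * p ∣ n
  bound : n < (B + 1) * (B + 1)
  primes : ∀ q ∈ qs, q.Prime ∧ q ∣ n ∧ ¬ q * q ∣ n
  card_C : Nat.card (Subgroup.centralizer ((P : Subgroup G) : Set G)) = p * k

theorem OrderCtx.degOK_of [IsSimpleGroup G] {n k B : ℕ} {qs : List ℕ} (T : OrderCtx G n p qs B k)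
    {χ : IrrCharacter G} (hne : χ ≠ Blocks.trivIrr G)
    (hdvd : charDegree (χ : G → ℂ) ∣ T.D.e * (1 + T.D.n * p))
    (hval : ∀ v ∈ (T.P : Subgroup G), v ≠ 1 → ∀ y ∈ Subgroup.centralizer ((T.P : Subgroup G) : Set G),
      ¬ p ∣ orderOf y → (χ : G → ℂ) (v * y) = (χ : G → ℂ) v) :
    degOK n p k (T.D.e * (1 + T.D.n * p)) qs (charDegree (χ : G → ℂ)) = true ∧
      charDegree (χ : G → ℂ) ≤ B := by
  have hlt := T.card_eq ▸ degree_sq_lt hne
  set d := charDegree (χ : G → ℂ) with hd
  refine ⟨?_, ?_⟩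
  swap
  · by_contra h
    have := Nat.mul_le_mul (show B + 1 ≤ d by omega) (show B + 1 ≤ d by omega)
    have := T.bound
    omega
  simp only [degOK, Bool.and_eq_true, Bool.or_eq_true, decide_eq_true_eq, List.all_eq_true]
  refine ⟨⟨⟨⟨BrauerReynolds.one_lt_degree_of_simple T.noncomm hne, hlt⟩, Nat.mod_eq_zero_of_dvd hdvd⟩, ?_⟩, ?_⟩
  · rcases Nat.lt_or_ge d p with h | h
    · left
      have hC := centralizer_eq_of_small T.card_P (T.card_eq ▸ T.sq) hne h hval
      have h1 := T.card_C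
      rw [hC, T.card_P] at h1
      exact Nat.eq_of_mul_eq_mul_left (Fact.out : p.Prime).pos (by rw [mul_one]; exact h1.symm)
    · exact Or.inr h
  · intro q hq
    obtain ⟨hqp, hqn, hqs⟩ := T.primes q hq
    haveI := Fact.mk hqp
    have hnn : ∀ K : Subgroup G, K.Normal → Nat.card K ≠ q := fun K hK hc => by
      rcases hK.eq_bot_or_eq_top with h | h
      · rw [h, Subgroup.card_bot] at hc
        exact hqp.one_lt.ne hc
      · rw [h, Subgroup.card_top] at hc
        haveI := isCyclic_of_prime_card (p := q) hc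
        exact T.noncomm ⟨⟨fun a b => (IsCyclic.commGroup (α := G)).mul_comm a b⟩⟩
    have hsq' : ¬ q ^ 2 ∣ Nat.card G := by rw [T.card_eq, pow_two]; exact hqs
    have hchar := Char.isCharacter_of_isIrr χ.2
    have hfaith : ∀ g, (χ : G → ℂ) g = (χ : G → ℂ) 1 → g = 1 :=
      fun g hg => BrauerReynolds.faithful_of_simple hne hg
    have hle := Cfsg.Agent.S4503.result q hqp (T.card_eq ▸ hqn) hsq' hnn _ hchar hfaith
    rw [← hd] at hle
    rcases Nat.lt_or_ge q (2 * d + 1) with h | h
    · exact Or.inl h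
    right
    have heq : q = 2 * d + 1 := by omega
    refine ⟨heq, ?_⟩
    obtain ⟨φ⟩ := Cfsg.Agent.S4504.result q hqp (T.card_eq ▸ hqn) hsq' hnn _ hchar hfaith (by omega)
    have hZ : Subgroup.center G = ⊥ := by
      rcases (inferInstance : (Subgroup.center G).Normal).eq_bot_or_eq_top with h | h
      · exact h
      · exact absurd ⟨⟨fun a b => (Subgroup.mem_center_iff.mp (h ▸ Subgroup.mem_top b)) a⟩⟩ T.noncomm
    have iso := ((QuotientGroup.quotientBot (G := G)).symm.trans
      (QuotientGroup.quotientMulEquivOfEq hZ.symm)).trans φ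
    have hc := Classical.card_PSL_two (F := ZMod q)
    rw [← Nat.card_congr iso.toEquiv, T.card_eq, ZMod.card,
      show Nat.gcd 2 (q - 1) = 2 from Nat.gcd_eq_left ⟨d, by omega⟩] at hc
    exact hc

theorem OrderCtx.invOK_of [IsSimpleGroup G] {n k B : ℕ} {qs : List ℕ} (T : OrderCtx G n p qs B k)
    {χ : IrrCharacter G} (hne : χ ≠ Blocks.trivIrr G) (hk : k % 2 = 0) (hk1 : p ≤ charDegree (χ : G → ℂ))
    {σ : ℤ} (hσ : σ = 1 ∨ σ = -1) (hmod : (p : ℤ) ∣ (charDegree (χ : G → ℂ) : ℤ) - σ)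
    (hval : ∀ v ∈ (T.P : Subgroup G), v ≠ 1 → ∀ y ∈ Subgroup.centralizer ((T.P : Subgroup G) : Set G),
      ¬ p ∣ orderOf y → (χ : G → ℂ) (v * y) = σ) :
    invOK p (charDegree (χ : G → ℂ)) σ = true := by
  have hp : p.Prime := Fact.out
  haveI : Fact (Nat.Prime 2) := ⟨Nat.prime_two⟩
  have hp3 : 3 ≤ p := by
    have h1 := T.D.het
    have h2 : 2 * 1 ≤ T.D.e * T.D.t := Nat.mul_le_mul T.D.two_le_e T.D.one_le_t
    omega
  set d := charDegree (χ : G → ℂ) with hd
  set C := Subgroup.centralizer ((T.P : Subgroup G) : Set G) with hCdef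
  obtain ⟨y, hy⟩ := exists_prime_orderOf_dvd_card' (G := C) 2
    (by rw [T.card_C]; exact Dvd.dvd.mul_left (Nat.dvd_of_mod_eq_zero hk) p)
  have hy2 : orderOf (y : G) = 2 := by rw [Subgroup.orderOf_coe]; exact hy
  have hyy : (y : G) * y = 1 := by
    have := pow_orderOf_eq_one (y : G); rwa [hy2, pow_two] at this
  have hyr : ¬ p ∣ orderOf (y : G) := by
    rw [hy2]; exact fun h => by have := Nat.le_of_dvd two_pos h; omega
  have hN : (y : G) ∈ Subgroup.normalizer ((T.P : Subgroup G) : Set G) := by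
    refine Subgroup.mem_normalizer_iff.mpr fun h => ⟨fun hh => ?_, fun hh => ?_⟩
    · rw [← Subgroup.mem_centralizer_iff.mp y.2 h hh, mul_inv_cancel_right]
      exact hh
    · have h2 := Subgroup.mem_centralizer_iff.mp y.2 _ hh
      simp only [inv_mul_cancel_right, mul_assoc] at h2
      have e : (y : G) * h * (y : G)⁻¹ = h := by
        refine mul_left_cancel (a := (y : G)) ?_
        rw [mul_assoc]
        exact h2.symm.trans (by simp [mul_assoc])
      rwa [e] at hh
  have hφ := Char.isCharacter_of_isIrr χ.2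
  obtain ⟨A, hA⟩ := exists_int_of_involution hφ hyy
  obtain ⟨j, hj⟩ := involution_value_mod_four T.noncomm hφ hyy (BrauerReynolds.value_one χ)
  obtain ⟨K₀, hK₀⟩ := hmod
  have hK₀' : (d : ℤ) + ((p : ℤ) - 1) * σ = p * (K₀ + σ) := by linear_combination hK₀
  have hKn : 0 ≤ K₀ + σ := by
    have h1 : (0 : ℤ) ≤ (d : ℤ) + ((p : ℤ) - 1) * σ := by rcases hσ with e | e <;> rw [e] <;> omega
    rw [hK₀'] at h1
    exact (mul_nonneg_iff_of_pos_left (by exact_mod_cast hp.pos : (0 : ℤ) < p)).mp h1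
  obtain ⟨K, hK⟩ := Int.eq_ofNat_of_zero_le hKn
  rw [hK] at hK₀'
  have hone : ∀ v ∈ (T.P : Subgroup G), v ≠ 1 → (χ : G → ℂ) v = σ := fun v hv hv1 => by
    have h := hval v hv hv1 1 (one_mem _) (orderOf_one (G := G) ▸ hp.not_dvd_one)
    rwa [mul_one] at h
  obtain ⟨a, ha, hab⟩ := exists_fixed_trace_sum hφ (T.P : Subgroup G) T.card_P hyy hN (K := K) (by
    rw [← Finset.add_sum_erase _ _ (Finset.mem_univ (1 : (T.P : Subgroup G))),
      Finset.sum_congr rfl (g := fun _ => (σ : ℂ)) (fun (w : (T.P : Subgroup G)) hw => hone w w.2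
        (fun e => Finset.ne_of_mem_erase hw (Subtype.ext e))),
      Finset.sum_const, Finset.card_erase_of_mem (Finset.mem_univ _), Finset.card_univ,
      ← Nat.card_eq_fintype_card, T.card_P, Subgroup.coe_one, BrauerReynolds.value_one, ← hd]
    push_cast [Nat.cast_sub hp.one_le, nsmul_eq_mul]
    exact_mod_cast hK₀')
  rw [← Finset.add_sum_erase _ _ (Finset.mem_univ (1 : (T.P : Subgroup G))),
    Finset.sum_congr rfl (g := fun _ => (σ : ℂ)) (fun (w : (T.P : Subgroup G)) hw => hval w w.2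
      (fun e => Finset.ne_of_mem_erase hw (Subtype.ext e)) y y.2 hyr),
    Finset.sum_const, Finset.card_erase_of_mem (Finset.mem_univ _), Finset.card_univ,
    ← Nat.card_eq_fintype_card, T.card_P, Subgroup.coe_one, one_mul, hA, nsmul_eq_mul,
    Nat.cast_sub hp.one_le] at ha
  have hA' : A + ((p : ℤ) - 1) * σ = p * a := by exact_mod_cast ha
  have hy1 : (y : G) ≠ 1 := fun e => by rw [e, orderOf_one] at hy2; omega
  have hne' : ∀ τ : ℤ, τ = 1 ∨ τ = -1 → A ≠ τ * d := by
    intro τ hτ e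
    obtain ⟨m, ρ, eρ⟩ := hφ
    have hdn : (d : ℂ) = (finrank ℂ (Fin m → ℂ) : ℂ) := by
      rw [← Representation.char_one ρ, eρ, BrauerReynolds.value_one, hd]
    have hnorm : ‖ρ.character (y : G)‖ = (finrank ℂ (Fin m → ℂ) : ℝ) := by
      rw [eρ, hA, e, Int.cast_mul, Int.cast_natCast, hdn, norm_mul, Complex.norm_natCast]
      rcases hτ with h | h <;> simp [h]
    obtain ⟨ω, hω⟩ := (Char.norm_character_eq_iff ρ (y : G)).mp hnorm
    have hcen : (y : G) ∈ Subgroup.center G := Subgroup.mem_center_iff.mpr fun x => ?_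
    · rcases (inferInstance : (Subgroup.center G).Normal).eq_bot_or_eq_top with h0 | h0
      · exact hy1 (Subgroup.mem_bot.mp (h0 ▸ hcen))
      · exact T.noncomm ⟨⟨fun a b => (Subgroup.mem_center_iff.mp (h0 ▸ Subgroup.mem_top b)) a⟩⟩
    refine inv_mul_eq_one.mp (BrauerReynolds.faithful_of_simple hne (g := (x * y)⁻¹ * (y * x)) ?_)
    have h1 : ρ (x * (y : G)) = ρ ((y : G) * x) := by
      rw [map_mul, map_mul, hω]
      ext v; simp
    rw [← eρ]
    show LinearMap.trace ℂ _ (ρ ((x * (y : G))⁻¹ * ((y : G) * x))) = LinearMap.trace ℂ _ (ρ 1)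
    rw [map_mul, ← h1, ← map_mul, inv_mul_cancel]
  have hj' : A = (d : ℤ) - 4 * j := by
    rw [hA] at hj
    exact Int.cast_injective hj
  have hK' : ((((d : ℤ) + ((p : ℤ) - 1) * σ) / p)).toNat = K := by
    rw [hK₀', Int.mul_ediv_cancel_left _ (by exact_mod_cast hp.ne_zero)]
    simp
  have hbound : -(d : ℤ) ≤ A ∧ A ≤ d := by
    obtain ⟨m, ρ, eρ⟩ := hφ
    have h := Char.norm_character_le ρ (y : G)
    have hdn : (d : ℂ) = (finrank ℂ (Fin m → ℂ) : ℂ) := by
      rw [← Representation.char_one ρ, eρ, BrauerReynolds.value_one, hd]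
    rw [← Nat.cast_inj.mp hdn, eρ, hA, Complex.norm_intCast] at h
    have h' : |A| ≤ (d : ℤ) := by exact_mod_cast h
    exact abs_le.mp h'
  have h1 := hne' 1 (Or.inl rfl)
  have h2 := hne' (-1) (Or.inr rfl)
  simp only [invOK, hK', List.any_eq_true, List.mem_range, Bool.and_eq_true, decide_eq_true_eq]
  obtain ⟨hab1, hab2⟩ := abs_le.mp hab
  refine ⟨(a + K).toNat, by omega, ?_⟩
  rw [show ((a + K).toNat : ℤ) - K = a by omega, show (p : ℤ) * a - ((p : ℤ) - 1) * σ = A by linarith]
  omega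

/-- If `C(P) ≠ P`, no character of degree `p + 1` takes the value `1` on the sections. -/
theorem OrderCtx.degree_ne_succ [IsSimpleGroup G] {n k B : ℕ} {qs : List ℕ} (T : OrderCtx G n p qs B k)
    {χ : IrrCharacter G} (hne : χ ≠ Blocks.trivIrr G) (hk : k ≠ 1)
    (hval : ∀ v ∈ (T.P : Subgroup G), v ≠ 1 → ∀ y ∈ Subgroup.centralizer ((T.P : Subgroup G) : Set G),
      ¬ p ∣ orderOf y → (χ : G → ℂ) (v * y) = 1) :
    charDegree (χ : G → ℂ) ≠ p + 1 := by
  intro hd
  have hp : p.Prime := Fact.out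
  have hp3 : 3 ≤ p := by
    have h1 := T.D.het
    have h2 : 2 * 1 ≤ T.D.e * T.D.t := Nat.mul_le_mul T.D.two_le_e T.D.one_le_t
    omega
  obtain ⟨r, hr, hrk⟩ := Nat.exists_prime_and_dvd hk
  haveI := Fact.mk hr
  obtain ⟨y, hy⟩ := exists_prime_orderOf_dvd_card' (G := Subgroup.centralizer ((T.P : Subgroup G) : Set G)) r
    (by rw [T.card_C]; exact hrk.mul_left p)
  have hyo : orderOf (y : G) = r := by rw [Subgroup.orderOf_coe]; exact hy
  have hrp : r ≠ p := fun h => T.sq <| by
    rw [← T.card_eq]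
    refine (mul_dvd_mul_left p (h ▸ hrk)).trans ?_
    rw [← T.card_C]
    exact Subgroup.card_subgroup_dvd_card _
  obtain ⟨v, hv⟩ := exists_prime_orderOf_dvd_card' (G := (T.P : Subgroup G)) p (by rw [T.card_P])
  have hvo : orderOf (v : G) = p := by rw [Subgroup.orderOf_coe]; exact hv
  refine not_periodic_succ T.noncomm (by omega) hne hd hvo
    (Subgroup.mem_centralizer_iff.mp y.2 v v.2) hr hrp hyo fun i hi l => ?_
  refine hval _ (Subgroup.pow_mem _ v.2 i) (fun h => hi ?_) _ (Subgroup.pow_mem _ y.2 l) fun h => ?_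
  · rw [← hvo]
    exact orderOf_dvd_iff_pow_eq_one.mpr h
  · have h' := h.trans (orderOf_pow_dvd l)
    rw [hyo] at h'
    exact hrp ((Nat.prime_dvd_prime_iff_eq hp hr).mp h').symm

/-- The order and the block of a simple group are among the exceptions of the checker. -/
theorem exists_ctx_of_orderBad {G : Type u} [Group G] [Fintype G] [IsSimpleGroup G] {n : ℕ}
    (hn : Nat.card G = n) (p : ℕ) [Fact p.Prime] (qs : List ℕ) (B : ℕ) (exc : List (ℕ × ℕ × ℕ))
    (hp : p.Prime) (hprime : ¬ n.Prime)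
    (hdvd : p ∣ n) (hsq : ¬ p * p ∣ n) (hB : n < (B + 1) * (B + 1))
    (hqs : ∀ q ∈ qs, q.Prime ∧ q ∣ n ∧ ¬ q * q ∣ n) (h : orderBad n p qs B exc = true) :
    ∃ (k : ℕ) (T : OrderCtx G n p qs B k), (1 + T.D.n * p, T.D.e, k) ∈ exc := by
  have hcomm : ¬ IsMulCommutative G := SmallOrder.not_comm_of_not_prime (hn ▸ hprime)
  have hcyc : ¬ IsCyclic G := fun hc =>
    hcomm ⟨⟨fun a b => (IsCyclic.commGroup (α := G)).mul_comm a b⟩⟩
  obtain ⟨P⟩ := (inferInstance : Nonempty (Sylow p G))
  obtain ⟨m, hm⟩ := hdvd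
  have hmp : ¬ p ∣ m := fun h' => hsq (hm ▸ mul_dvd_mul_left p h')
  have hP : Nat.card (P : Subgroup G) = p := by
    rw [P.card_eq_multiplicity, hn, hm,
      Nat.factorization_mul hp.ne_zero (fun h => hmp (by rw [h]; exact dvd_zero _)), Finsupp.add_apply,
      hp.factorization_self, Nat.factorization_eq_zero_of_not_dvd hmp, add_zero, pow_one]
  obtain ⟨D⟩ := nonempty_data hcyc P hP
  have hdC : p ∣ Nat.card (Subgroup.centralizer ((P : Subgroup G) : Set G)) := by
    haveI : IsCyclic (P : Subgroup G) := isCyclic_of_prime_card hP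
    have hle : (P : Subgroup G) ≤ Subgroup.centralizer ((P : Subgroup G) : Set G) := fun a ha =>
      Subgroup.mem_centralizer_iff.mpr fun c hc =>
        congrArg Subtype.val ((IsCyclic.commGroup (α := (P : Subgroup G))).mul_comm ⟨c, hc⟩ ⟨a, ha⟩)
    have := Subgroup.card_dvd_of_le hle
    rwa [hP] at this
  obtain ⟨k, hk⟩ := hdC
  obtain ⟨T⟩ : Nonempty (OrderCtx G n p qs B k) := ⟨⟨P, hP, D, hcomm, hn, hsq, hB, hqs, hk⟩⟩
  clear hk hP
  have hP := T.card_P
  set D := T.D
  have hcard : p * m = D.e * (1 + D.n * p) * (p * k) := by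
    refine hm.symm.trans (hn.symm.trans (D.card_G.trans ?_))
    exact congrArg (fun x => D.e * (1 + D.n * p) * x) T.card_C
  have hm' : m = D.e * (1 + D.n * p) * k := Nat.eq_of_mul_eq_mul_left hp.pos (by rw [hcard]; ring)
  have hk0 : 0 < k := Nat.pos_of_ne_zero fun h0 => hmp ((hm'.trans (mul_eq_zero_of_right _ h0)).symm ▸ dvd_zero p)
  have hnp : n / p = m := by rw [hm, Nat.mul_div_cancel_left _ hp.pos]
  have hc0 : 0 < 1 + D.n * p := by omega
  have hmc : m / (1 + D.n * p) = D.e * k := by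
    rw [hm', show D.e * (1 + D.n * p) * k = D.e * k * (1 + D.n * p) by ring, Nat.mul_div_cancel _ hc0]
  have het := D.het
  have hep : D.e < p := by
    have := Nat.le_mul_of_pos_right D.e D.one_le_t
    omega
  simp only [orderBad, List.all_eq_true, List.mem_range, Bool.or_eq_true, decide_eq_true_eq] at h
  have hjle : D.n < n / p / p + 1 := by
    rw [hnp, Nat.lt_add_one_iff, Nat.le_div_iff_mul_le hp.pos]
    calc D.n * p ≤ (1 + D.n * p) * (D.e * k) := by
          exact le_trans (by omega) (Nat.le_mul_of_pos_right _ (Nat.mul_pos (by have := D.two_le_e; omega) hk0))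
      _ = m := by rw [hm']; ring
  have hdvd : p ∣ n := hm ▸ dvd_mul_right p m
  rcases h D.n hjle with ((h' | h') | h') | h'
  · have := D.n_pos; omega
  · exact absurd (Nat.mod_eq_zero_of_dvd (by rw [hnp, hm']; exact (dvd_mul_left _ _).mul_right _)) h'
  · have hN := SmallOrder.normalizer_sylow_ne_top hcomm (hn ▸ hm ▸ dvd_mul_right p m) T.P
    have h2 := SmallOrder.badIndex_eq_false hcomm hN
    erw [← Sylow.card_eq_index_normalizer T.P] at h2
    rw [D.card_sylow, hn, h'] at h2
    exact Bool.noConfusion h2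
  have he2 := D.two_le_e
  rcases h' D.e hep with (((h'' | h'') | h'') | hmemexc) | hbad
  · omega
  · exact absurd (Nat.mod_eq_zero_of_dvd ⟨D.t, by omega⟩) h''
  · exact absurd (Nat.mod_eq_zero_of_dvd (by rw [hnp, hmc]; exact dvd_mul_right _ _)) h''
  · rw [hnp, hmc, Nat.mul_div_cancel_left _ (by omega)] at hmemexc
    exact ⟨k, T, List.contains_iff_mem.mp hmemexc⟩
  exfalso
  rw [hnp, hmc, Nat.mul_div_cancel_left _ (by omega)] at hbad
  clear h
  have hone : ¬ p ∣ orderOf (1 : G) := orderOf_one (G := G) ▸ hp.not_dvd_one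
  have hvalX : ∀ χ ∈ D.X, ∀ v ∈ (T.P : Subgroup G), v ≠ 1 →
      ∀ y ∈ Subgroup.centralizer ((T.P : Subgroup G) : Set G), ¬ p ∣ orderOf y →
      (χ : G → ℂ) (v * y) = (χ : G → ℂ) v := fun χ hχ v hv hv1 y hy hyr => by
    have h := D.valX χ hχ v hv hv1 1 (one_mem _) hone
    rw [mul_one] at h
    rw [D.valX χ hχ v hv hv1 y hy hyr, h]
  have hentry : ∀ χ : IrrCharacter G, χ ≠ Blocks.trivIrr G → charDegree (χ : G → ℂ) ∣ D.e * (1 + D.n * p) →
      ∀ σ : ℤ, (σ = 1 ∨ σ = -1) → (p : ℤ) ∣ (charDegree (χ : G → ℂ) : ℤ) - σ →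
      (∀ v ∈ (T.P : Subgroup G), v ≠ 1 → ∀ y ∈ Subgroup.centralizer ((T.P : Subgroup G) : Set G),
        ¬ p ∣ orderOf y → (χ : G → ℂ) (v * y) = σ) →
      σ * (charDegree (χ : G → ℂ) : ℤ) ∈ xList n p k (D.e * (1 + D.n * p)) qs B := by
    intro χ hne hd σ hσ hmod hval
    obtain ⟨hok, hle⟩ := T.degOK_of hne hd fun v hv hv1 y hy hyr => by
      rw [hval v hv hv1 y hy hyr]
      have h := hval v hv hv1 1 (one_mem _) hone
      rw [mul_one] at h
      rw [h]
    simp only [xList, List.mem_flatMap, List.mem_range, List.mem_filterMap]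
    refine ⟨_, Nat.lt_add_one_iff.mpr hle, σ, by rcases hσ with h | h <;> simp [h], ?_⟩
    rw [if_pos]
    simp only [Bool.and_eq_true, Bool.or_eq_true, decide_eq_true_eq]
    refine ⟨⟨⟨hok, Int.emod_eq_zero_of_dvd hmod⟩, ?_⟩, ?_⟩
    swap
    · by_cases hk1 : k = 1
      · exact Or.inl (Or.inl hk1)
      by_cases hs1 : σ = 1
      · subst hs1
        exact Or.inr (T.degree_ne_succ hne hk1 fun v hv hv1 y hy hyr => by
          rw [hval v hv hv1 y hy hyr, Int.cast_one])
      · exact Or.inl (Or.inr hs1)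
    rcases Nat.mod_two_eq_zero_or_one k with hk2 | hk2
    · refine Or.inr (T.invOK_of hne hk2 ?_ hσ hmod hval)
      simp only [degOK, Bool.and_eq_true, Bool.or_eq_true, decide_eq_true_eq] at hok
      rcases hok.1.2 with h | h
      · omega
      · exact h
    · exact Or.inl hk2
  obtain ⟨ψ₀, hψ₀⟩ : D.Y.Nonempty := Finset.card_pos.mp (by rw [D.card_Y]; exact D.one_le_t)
  have hrel : D.ε * (charDegree (ψ₀ : G → ℂ) : ℤ) = ∑ χ ∈ D.X, D.δ χ * (charDegree (χ : G → ℂ) : ℤ) := by
    have h := D.rel ψ₀ hψ₀ 1 hone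
    simp only [BrauerReynolds.value_one] at h
    exact_mod_cast h
  obtain ⟨v, hv, hv1⟩ : ∃ v, v ∈ (T.P : Subgroup G) ∧ v ≠ 1 := by
    rcases (T.P : Subgroup G).bot_or_exists_ne_one with h | h
    · rw [h, Subgroup.card_bot] at hP
      exact absurd hP hp.one_lt.ne
    · exact h
  simp only [blockBad] at hbad
  rcases Nat.lt_or_ge D.t 2 with ht | ht
  · have ht1 : D.t = 1 := by have := D.one_le_t; omega
    rw [ht1, mul_one] at het
    rw [if_pos het] at hbad
    obtain ⟨ψ, hψ⟩ := Finset.card_eq_one.mp (D.card_Y.trans ht1)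
    have hψY : ψ ∈ D.Y := hψ ▸ Finset.mem_singleton_self _
    have hψ0 : ψ₀ = ψ := by rw [hψ, Finset.mem_singleton] at hψ₀; exact hψ₀
    subst hψ0
    set σ : IrrCharacter G → ℤ := fun χ => if χ ∈ D.X then D.δ χ else -D.ε with hσ
    have hval : ∀ χ ∈ D.X ∪ D.Y, ∀ u ∈ (T.P : Subgroup G), u ≠ 1 →
        ∀ y ∈ Subgroup.centralizer ((T.P : Subgroup G) : Set G), ¬ p ∣ orderOf y →
        (χ : G → ℂ) (u * y) = σ χ := by
      intro χ hχ u hu hu1 y hy hyr
      rcases Finset.mem_union.mp hχ with h | h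
      · simp only [hσ, if_pos h]; exact D.valX χ h u hu hu1 y hy hyr
      · simp only [hσ, if_neg fun h' => Finset.disjoint_left.mp D.disj h' h]
        rw [D.valY χ h u hu hu1 y hy hyr]
        rw [hψ, Finset.mem_singleton] at h
        have := D.sumY u hu hu1
        rw [hψ, Finset.sum_singleton, ← h] at this
        rw [this]; push_cast; rfl
    have hT : σ (Blocks.trivIrr G) = 1 := by
      have h := hval _ D.triv v hv hv1 1 (one_mem _) hone
      have h' : ((1 : ℤ) : ℂ) = (σ (Blocks.trivIrr G) : ℂ) := by rw [← h]; simp [Blocks.trivIrr]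
      exact (Int.cast_injective h').symm
    have hsum : ∑ χ ∈ D.X ∪ D.Y, σ χ * (charDegree (χ : G → ℂ) : ℤ) = 0 := by
      rw [Finset.sum_union D.disj, hψ, Finset.sum_singleton,
        Finset.sum_congr rfl (g := fun χ => D.δ χ * (charDegree (χ : G → ℂ) : ℤ)) fun χ h => by
          simp only [hσ, if_pos h], ← hrel]
      simp only [hσ, if_neg fun h' => Finset.disjoint_left.mp D.disj h' hψY]
      ring
    rw [← Finset.add_sum_erase _ _ D.triv, hT, BrauerReynolds.degree_triv] at hsum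
    have hmem := mem_sumsOf ((D.X ∪ D.Y).erase (Blocks.trivIrr G))
      (f := fun χ => σ χ * (charDegree (χ : G → ℂ) : ℤ)) fun χ hχ => by
      obtain ⟨hne, hχ'⟩ := Finset.mem_erase.mp hχ
      have hσ1 : σ χ = 1 ∨ σ χ = -1 := by
        simp only [hσ]
        split_ifs with h
        · exact D.hδ χ h
        · rcases D.hε with h | h <;> simp [h]
      refine hentry χ hne ?_ _ hσ1 ?_ (hval χ hχ')
      · rcases Finset.mem_union.mp hχ' with h | h
        · exact D.dvdX χ h
        · exact D.dvdY χ h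
      · rcases Finset.mem_union.mp hχ' with h | h
        · simp only [hσ, if_pos h]; exact Int.modEq_iff_dvd.mp (D.degX χ h).symm
        · simp only [hσ, if_neg fun h' => Finset.disjoint_left.mp D.disj h' h]
          refine Int.modEq_iff_dvd.mp ((D.degY χ h).trans ?_).symm
          rw [Int.modEq_iff_dvd]
          have : (D.e : ℤ) + 1 = p := by exact_mod_cast het
          exact ⟨-D.ε, by rw [← this]; ring⟩
    rw [Finset.card_erase_of_mem D.triv, Finset.card_union_of_disjoint D.disj, D.card_X, D.card_Y, ht1,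
      Nat.add_sub_cancel, show ∑ χ ∈ (D.X ∪ D.Y).erase (Blocks.trivIrr G),
        σ χ * (charDegree (χ : G → ℂ) : ℤ) = -1 by push_cast at hsum; linarith] at hmem
    rw [Bool.not_eq_true'] at hbad
    exact Bool.false_ne_true (hbad.symm.trans (List.contains_iff_mem.mpr hmem))
  · have h2e : D.e * 2 ≤ D.e * D.t := Nat.mul_le_mul_left _ ht
    rw [if_neg (by omega)] at hbad
    have hT : Blocks.trivIrr G ∈ D.X := by
      rcases Finset.mem_union.mp D.triv with h | h
      · exact h
      exfalso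
      obtain ⟨ψ', hψ', hne⟩ := Finset.exists_mem_ne (show 1 < D.Y.card by rw [D.card_Y]; omega) (Blocks.trivIrr G)
      have h1 := D.degY_eq ψ' hψ' _ h
      rw [BrauerReynolds.degree_triv] at h1
      exact (BrauerReynolds.one_lt_degree_of_simple hcomm hne).ne' h1
    have hδT : D.δ (Blocks.trivIrr G) = 1 := by
      have h := D.valX _ hT v hv hv1 1 (one_mem _) hone
      have h' : ((1 : ℤ) : ℂ) = (D.δ (Blocks.trivIrr G) : ℂ) := by rw [← h]; simp [Blocks.trivIrr]
      exact (Int.cast_injective h').symm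
    have hne0 : ψ₀ ≠ Blocks.trivIrr G := fun h => Finset.disjoint_left.mp D.disj hT (h ▸ hψ₀)
    rw [← Finset.add_sum_erase _ _ hT, hδT, BrauerReynolds.degree_triv, Nat.cast_one, mul_one] at hrel
    have hmem := mem_sumsOf (D.X.erase (Blocks.trivIrr G))
      (f := fun χ => D.δ χ * (charDegree (χ : G → ℂ) : ℤ)) fun χ hχ => by
      obtain ⟨hne, hχ'⟩ := Finset.mem_erase.mp hχ
      exact hentry χ hne (D.dvdX χ hχ') _ (D.hδ χ hχ') (Int.modEq_iff_dvd.mp (D.degX χ hχ').symm)
        (D.valX χ hχ')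
    rw [Finset.card_erase_of_mem hT, D.card_X] at hmem
    rw [List.all_eq_true] at hbad
    have hb := hbad _ hmem
    rw [Bool.not_eq_true', ← hrel] at hb
    obtain ⟨hok, hle⟩ := T.degOK_of hne0 (D.dvdY ψ₀ hψ₀) (D.valY ψ₀ hψ₀)
    refine Bool.false_ne_true (hb.symm.trans (List.contains_iff_mem.mpr ?_))
    simp only [yList, List.mem_flatMap, List.mem_range, List.mem_filterMap]
    refine ⟨_, Nat.lt_add_one_iff.mpr hle, D.ε, by rcases D.hε with h | h <;> simp [h], ?_⟩
    rw [if_pos]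
    simp only [Bool.and_eq_true, decide_eq_true_eq]
    exact ⟨hok, Int.emod_eq_zero_of_dvd (Int.modEq_iff_dvd.mp (D.degY ψ₀ hψ₀).symm)⟩

/-- An order is not the order of a simple group. -/
theorem false_of_orderBad {G : Type u} [Group G] [Finite G] [IsSimpleGroup G] {n : ℕ}
    (hn : Nat.card G = n) (p : ℕ) (qs : List ℕ) (B : ℕ) (hp : p.Prime) (hprime : ¬ n.Prime)
    (hdvd : p ∣ n) (hsq : ¬ p * p ∣ n) (hB : n < (B + 1) * (B + 1))
    (hqs : ∀ q ∈ qs, q.Prime ∧ q ∣ n ∧ ¬ q * q ∣ n) (h : orderBad n p qs B = true) : False := by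
  letI : Fintype G := Fintype.ofFinite G
  haveI := Fact.mk hp
  obtain ⟨k, T, hm⟩ := exists_ctx_of_orderBad hn p qs B [] hp hprime hdvd hsq hB hqs h
  exact List.not_mem_nil hm

end CfsgLib.BrauerTuan
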