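import Cfsg.Agent.Lib.BrauerTuan.RangeCerts

/-!
# Soundness of the certificates for the orders between 3640 and 6232
-/

set_option autoImplicit false

namespace CfsgLib.BrauerTuan.Range3640

universe u

theorem prime_of_isP {n : ℕ} (h : isP n = true) : n.Prime := by
  simp only [isP, Bool.and_eq_true, decide_eq_true_eq, List.all_eq_true, List.mem_range,
    Bool.or_eq_true] at h
  obtain ⟨⟨h2, hlt⟩, h⟩ := h
  refine Nat.prime_def_le_sqrt.mpr ⟨h2, fun d hd hsq hdvd => ?_⟩
  have hdd : d * d ≤ n := Nat.le_sqrt.mp hsq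
  have hd81 : d < 81 := by
    by_contra h'
    have := Nat.mul_le_mul (show 81 ≤ d by omega) (show 81 ≤ d by omega)
    omega
  rcases h d hd81 with (h' | h') | h'
  · omega
  · omega
  · exact h' (Nat.mod_eq_zero_of_dvd hdvd)

theorem mem_special {G : Type u} [Group G] [Finite G] [IsSimpleGroup G] (hG : ¬ IsMulCommutative G) {c : Cert}
    (h : check (Nat.card G) c = true) : Nat.card G ∈ special := by
  cases c with
  | pq p a q b =>
    exfalso
    simp only [check, Bool.and_eq_true, decide_eq_true_eq] at h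
    obtain ⟨⟨hp, hq⟩, hn⟩ := h
    have hs := Cfsg.Agent.S0144.result p q a b (prime_of_isP hp) (prime_of_isP hq) hn
    exact hG ⟨⟨IsSimpleGroup.comm_iff_isSolvable.2 hs⟩⟩
  | sylow q p a m =>
    exfalso
    simp only [check, Bool.and_eq_true, Bool.or_eq_true, decide_eq_true_eq] at h
    obtain ⟨⟨⟨⟨⟨hq, hp⟩, ha⟩, hn⟩, hm⟩, hex⟩ := h
    haveI := Fact.mk (prime_of_isP hp)
    rw [SmallOrder.excludedAt_eq_false hG q p a m (hq.imp_right prime_of_isP) ha hn
      (fun h' => hm (Nat.mod_eq_zero_of_dvd h'))] at hex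
    exact Bool.false_ne_true hex
  | block p qs =>
    exfalso
    simp only [check, Bool.and_eq_true, decide_eq_true_eq, List.all_eq_true] at h
    obtain ⟨⟨⟨⟨⟨⟨hp, hd⟩, hne⟩, hsq⟩, hqs⟩, hB⟩, hbad⟩ := h
    have hpp := prime_of_isP hp
    have key : ∀ {q n : ℕ}, 0 < q → n % q = 0 → n / q % q ≠ 0 → q ∣ n ∧ ¬ q * q ∣ n := by
      intro q n hq h1 h2
      refine ⟨Nat.dvd_of_mod_eq_zero h1, fun h => h2 (Nat.mod_eq_zero_of_dvd ?_)⟩
      exact Nat.dvd_div_of_mul_dvd h
    obtain ⟨hdvd, hsq'⟩ := key hpp.pos hd hsq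
    refine false_of_orderBad rfl p qs 80 hpp (fun hn => hne ((Nat.prime_dvd_prime_iff_eq hpp hn).mp hdvd).symm)
      hdvd hsq' hB (fun q hq => ?_) hbad
    obtain ⟨⟨h1, h2⟩, h3⟩ := hqs q hq
    exact ⟨prime_of_isP h1, key (prime_of_isP h1).pos h2 h3⟩
  | other =>
    simp only [check] at h
    exact List.contains_iff_mem.mp h

theorem exists_cert : ∀ (L : List Cert) (a : ℕ), checkFrom a L = true →
    ∀ n, a ≤ n → n < a + L.length → ∃ c, check n c = true
  | [], a, _, n, h1, h2 => by simp at h2; omega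
  | c :: cs, a, h, n, h1, h2 => by
    simp only [checkFrom, Bool.and_eq_true] at h
    rcases Nat.eq_or_lt_of_le h1 with rfl | h1
    · exact ⟨c, h.1⟩
    · exact exists_cert cs (a + 1) h.2 n h1 (by simp at h2; omega)

end CfsgLib.BrauerTuan.Range3640
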