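import Cfsg.Agent.S0907
import Cfsg.Agent.S0910
import Cfsg.Agent.Lib.Blocks.PairConj
import Cfsg.Agent.Lib.Blocks.BrauerFeit
import Cfsg.Agent.Lib.Char.DefectZero
import Cfsg.Agent.Lib.SmallOrder.Basic

/-!
# The Sylow subgroup of prime order in a simple group of order `p ^ a * q ^ b * r`
-/

set_option autoImplicit false
set_option linter.style.haveILetI false

namespace CfsgLib.BrauerTuan

open Cfsg
open scoped ComplexConjugate CfsgLib.Char

universe u

variable {G : Type u} [Group G] [Finite G]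

/-- No element of order `p` commutes with an element of order `r`. -/
theorem not_commute_of_paqbr [IsSimpleGroup G] (hG : ¬ IsMulCommutative G) {p q r a b : ℕ} (hp : p.Prime)
    (hq : q.Prime) (hr : r.Prime) (hpr : p ≠ r) (hqr : q ≠ r)
    (hcard : Nat.card G = p ^ a * q ^ b * r) {v y : G} (hv : orderOf v = r) (hy : orderOf y = p) :
    ¬ Commute v y := by
  intro hc
  haveI : Fintype G := Fintype.ofFinite G
  haveI := Fact.mk hp
  haveI := Fact.mk hr
  obtain ⟨M, hM⟩ := Blocks.exists_isPModular hp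
  have hvy : orderOf (v * y) = r * p := by
    rw [hc.orderOf_mul_eq_mul_orderOf_of_coprime (by rw [hv, hy]; exact (Nat.coprime_primes hr hp).mpr hpr.symm),
      hv, hy]
  have h0 := Cfsg.Agent.S0907.result p M hM (principalBlock M G) ⟨Blocks.trivIrr G, rfl⟩ 1 (v * y)
    (by rw [orderOf_one]; exact hp.not_dvd_one) (by rw [hvy]; exact dvd_mul_left _ _)
  classical
  haveI := Blocks.isPrime_of_isPModular hM
  rw [finsum_mem_eq_finite_toFinset_sum _ (Set.toFinite _)] at h0
  have hT : Blocks.trivIrr G ∈ (Set.toFinite (principalBlock M G)).toFinset :=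
    (Set.Finite.mem_toFinset _).mpr (Blocks.trivIrr_mem_principalBlock G)
  rw [← Finset.add_sum_erase _ _ hT] at h0
  have hterm : ∀ χ ∈ (Set.toFinite (principalBlock M G)).toFinset.erase (Blocks.trivIrr G),
      IsIntegral ℤ ((χ : G → ℂ) 1 * conj ((χ : G → ℂ) (v * y)) / (q : ℂ)) := by
    intro χ hχ
    obtain ⟨hne, hχB⟩ := Finset.mem_erase.mp hχ
    rw [Set.Finite.mem_toFinset] at hχB
    obtain ⟨d, hd, -, hdvd⟩ := Char.exists_degree_dvd_card χ.2
    rw [hcard] at hdvd
    have hq0 : (q : ℂ) ≠ 0 := Nat.cast_ne_zero.mpr hq.ne_zero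
    by_cases hrd : r ∣ d
    · rw [Char.defect_zero_vanish χ.2 hd (p := r) (n := 1) (x := v * y) (by rw [pow_one, hcard]; exact dvd_mul_left _ _)
        (fun h => by
          rw [hcard, pow_two] at h
          rcases hr.dvd_mul.mp ((Nat.mul_dvd_mul_iff_right hr.pos).mp h) with h' | h'
          · exact hpr ((Nat.prime_dvd_prime_iff_eq hr hp).mp (hr.dvd_of_dvd_pow h')).symm
          · exact hqr ((Nat.prime_dvd_prime_iff_eq hr hq).mp (hr.dvd_of_dvd_pow h')).symm)
        (by rwa [pow_one]) (by rw [hvy]; exact dvd_mul_right _ _)]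
      simpa using isIntegral_zero
    by_cases hqd : q ∣ d
    · obtain ⟨e, rfl⟩ := hqd
      rw [hd, Nat.cast_mul, mul_assoc, mul_div_cancel_left₀ _ hq0]
      exact (by simpa using isIntegral_algebraMap (R := ℤ) (A := ℂ) (x := (e : ℤ)) :
        IsIntegral ℤ ((e : ℕ) : ℂ)).mul (Blocks.irr_conj_isIntegral χ.2 _)
    · exfalso
      have h1 : Nat.Coprime d r := (hr.coprime_iff_not_dvd.mpr hrd).symm
      have h2 : Nat.Coprime d (q ^ b) := ((hq.coprime_iff_not_dvd.mpr hqd).pow_left b).symm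
      obtain ⟨k, -, rfl⟩ := (Nat.dvd_prime_pow hp).mp (h2.dvd_of_dvd_mul_right (h1.dvd_of_dvd_mul_right hdvd))
      have hna : ∃ x z : G, x * z ≠ z * x := by
        by_contra h
        push Not at h
        exact hG ⟨⟨h⟩⟩
      refine hne (Subtype.ext ?_)
      rw [Cfsg.Agent.S0910.result p M hM hna χ hχB k (by rw [hd, Nat.cast_pow])]
      rfl
  have hint := IsIntegral.sum _ hterm
  rw [← Finset.sum_div, eq_neg_of_add_eq_zero_right h0] at hint
  have h1 : IsIntegral ℤ (((1 : ℕ) : ℂ) / ((q : ℕ) : ℂ)) := by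
    have h := hint.neg
    simpa [Blocks.trivIrr, neg_div] using h
  exact hq.not_dvd_one (Char.dvd_of_isIntegral_div hq.ne_zero h1)

/-- A Sylow `r`-subgroup is its own centralizer. -/
theorem centralizer_eq_of_paqbr [IsSimpleGroup G] {p q r a b : ℕ} (hp : p.Prime) (hq : q.Prime)
    [Fact r.Prime] (hpr : p ≠ r) (hqr : q ≠ r) (hcard : Nat.card G = p ^ a * q ^ b * r) (S : Sylow r G) :
    Subgroup.centralizer ((S : Subgroup G) : Set G) = (S : Subgroup G) := by
  have hr : r.Prime := Fact.out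
  have hrm : ¬ r ∣ p ^ a * q ^ b := fun h => by
    rcases hr.dvd_mul.mp h with h' | h'
    · exact hpr ((Nat.prime_dvd_prime_iff_eq hr hp).mp (hr.dvd_of_dvd_pow h')).symm
    · exact hqr ((Nat.prime_dvd_prime_iff_eq hr hq).mp (hr.dvd_of_dvd_pow h')).symm
  have hS : Nat.card (S : Subgroup G) = r := by
    rw [S.card_eq_multiplicity, hcard, Nat.factorization_mul (fun h => hrm (by rw [h]; exact dvd_zero r)) hr.ne_zero,
      Finsupp.add_apply, Nat.factorization_eq_zero_of_not_dvd hrm, hr.factorization_self, zero_add, pow_one]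
  by_cases hG : IsMulCommutative G
  · have htop : (S : Subgroup G) = ⊤ := by
      rcases (Subgroup.Normal.mk (fun x hx g => by
        rw [hG.is_comm.comm g x, mul_inv_cancel_right]; exact hx) : (S : Subgroup G).Normal).eq_bot_or_eq_top with h | h
      · rw [h, Subgroup.card_bot] at hS
        exact absurd hS hr.one_lt.ne
      · exact h
    rw [htop, eq_top_iff]
    exact fun x _ => Subgroup.mem_centralizer_iff.mpr fun z _ => hG.is_comm.comm z x
  haveI : IsCyclic (S : Subgroup G) := isCyclic_of_prime_card hS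
  have hle : (S : Subgroup G) ≤ Subgroup.centralizer ((S : Subgroup G) : Set G) := fun x hx =>
    Subgroup.mem_centralizer_iff.mpr fun c hc =>
      congrArg Subtype.val ((IsCyclic.commGroup (α := (S : Subgroup G))).mul_comm ⟨c, hc⟩ ⟨x, hx⟩)
  refine (Subgroup.eq_of_le_of_card_ge hle ?_).symm
  obtain ⟨k, hk⟩ := hS ▸ Subgroup.card_dvd_of_le hle
  rw [hk, hS]
  by_contra hlt
  have hk1 : k ≠ 1 := fun h => hlt (by rw [h, mul_one])
  obtain ⟨s, hs, hsk⟩ := Nat.exists_prime_and_dvd hk1
  haveI := Fact.mk hs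
  obtain ⟨y, hy⟩ := exists_prime_orderOf_dvd_card'
    (G := Subgroup.centralizer ((S : Subgroup G) : Set G)) s (by rw [hk]; exact hsk.mul_left r)
  obtain ⟨v, hv⟩ := exists_prime_orderOf_dvd_card' (G := (S : Subgroup G)) r (by rw [hS])
  have hdvd : k ∣ p ^ a * q ^ b := by
    have h : r * k ∣ p ^ a * q ^ b * r := hk ▸ hcard ▸ Subgroup.card_subgroup_dvd_card _
    rw [mul_comm (p ^ a * q ^ b) r] at h
    exact (Nat.mul_dvd_mul_iff_left hr.pos).mp h
  have hvo : orderOf (v : G) = r := by rw [Subgroup.orderOf_coe]; exact hv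
  have hyo : orderOf (y : G) = s := by rw [Subgroup.orderOf_coe]; exact hy
  have hvy : Commute (v : G) (y : G) := Subgroup.mem_centralizer_iff.mp y.2 v v.2
  rcases hs.dvd_mul.mp (hsk.trans hdvd) with h | h
  · obtain rfl := (Nat.prime_dvd_prime_iff_eq hs hp).mp (hs.dvd_of_dvd_pow h)
    exact not_commute_of_paqbr hG hs hq hr hpr hqr hcard hvo hyo hvy
  · obtain rfl := (Nat.prime_dvd_prime_iff_eq hs hq).mp (hs.dvd_of_dvd_pow h)
    exact not_commute_of_paqbr hG hs hp hr hqr hpr (a := b) (b := a) (by rw [hcard]; ring) hvo hyo hvy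

end CfsgLib.BrauerTuan
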