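import Cfsg.Agent.Lib.BrauerTuan.FiftyFourSixty
import Cfsg.Agent.Lib.BrauerTuan.Cross
import Cfsg.Agent.Lib.BrauerTuan.Rational

/-!
# The character degrees of a simple group of order 7920
-/

set_option autoImplicit false
set_option linter.unusedSectionVars false
set_option linter.style.haveILetI false

namespace CfsgLib.BrauerTuan

theorem key7920X11 : ∀ d < 89, degOK 7920 11 1 720 [5, 11] d = true →
    (d % 11 = 1 → d = 12 ∨ d = 45) ∧ (d % 11 = 10 → d = 10) := by decide +kernel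

theorem key7920Y11 : ∀ d < 89, degOK 7920 11 1 720 [5, 11] d = true →
    (d % 11 = 5 → d = 16 ∨ d = 60) ∧ (d % 11 = 6 → d = 6 ∨ d = 72) := by decide +kernel

theorem key7920X5 : ∀ d < 89, degOK 7920 5 1 1584 [5, 11] d = true → d % 5 = 1 ∨ d % 5 = 4 →
    d % 11 = 0 → d = 11 ∨ d = 44 ∨ d = 66 := by decide +kernel

theorem key7920sum : ∀ a ∈ ([-10, 12, 45] : List ℤ), ∀ b ∈ ([-10, 12, 45] : List ℤ),
    ∀ c ∈ ([-10, 12, 45] : List ℤ), ∀ d ∈ ([-10, 12, 45] : List ℤ), ∀ y ∈ ([-6, 16, 60, -72] : List ℤ),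
    1 + a + b + c + d = y → 1 + a * a + b * b + c * c + d * d + 2 * (y * y) ≤ 7920 →
      y = 16 ∧ a.natAbs ::ₘ b.natAbs ::ₘ c.natAbs ::ₘ {d.natAbs} = (10 ::ₘ 10 ::ₘ 10 ::ₘ {45} : Multiset ℕ) := by
  decide +kernel

open Cfsg
open scoped ComplexConjugate CfsgLib.Char
open CfsgLib
open scoped _root_.Classical

universe u

variable {G : Type u} [Group G] [Fintype G] [IsSimpleGroup G]

/-- A character outside a principal block of full defect one with `C(P) = P` has degree divisible by `p`. -/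
theorem OrderCtx.dvd_of_not_mem {p : ℕ} [Fact p.Prime] {n B : ℕ} {qs : List ℕ} (T : OrderCtx G n p qs B 1)
    {χ : IrrCharacter G} (h : χ ∉ T.D.X ∪ T.D.Y) : p ∣ charDegree (χ : G → ℂ) := by
  have hC : Subgroup.centralizer ((T.P : Subgroup G) : Set G) = (T.P : Subgroup G) := by
    refine (Subgroup.eq_of_le_of_card_ge ?_ ?_).symm
    · haveI : IsCyclic (T.P : Subgroup G) := isCyclic_of_prime_card T.card_P
      exact fun a ha => Subgroup.mem_centralizer_iff.mpr fun c hc =>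
        congrArg Subtype.val ((IsCyclic.commGroup (α := (T.P : Subgroup G))).mul_comm ⟨c, hc⟩ ⟨a, ha⟩)
    · rw [T.card_C, T.card_P, mul_one]
  exact dvd_degree_of_vanish _ T.card_P
    (T.D.out hC χ (fun h' => h (Finset.mem_union_left _ h')) (fun h' => h (Finset.mem_union_right _ h')))

/-- The degrees in a principal block with a single exceptional character. -/
theorem OrderCtx.rational_facts {p : ℕ} [Fact p.Prime] {n k B : ℕ} {qs : List ℕ} (T : OrderCtx G n p qs B k)
    (ht : T.D.t = 1) :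
    ∃ σ : IrrCharacter G → ℤ,
      ∑ χ ∈ (T.D.X ∪ T.D.Y).erase (Blocks.trivIrr G), σ χ * (charDegree (χ : G → ℂ) : ℤ) = -1 ∧
      ∀ χ ∈ (T.D.X ∪ T.D.Y).erase (Blocks.trivIrr G),
        degOK n p k (T.D.e * (1 + T.D.n * p)) qs (charDegree (χ : G → ℂ)) = true ∧
          charDegree (χ : G → ℂ) ≤ B ∧ (σ χ = 1 ∨ σ χ = -1) ∧
          (p : ℤ) ∣ (charDegree (χ : G → ℂ) : ℤ) - σ χ := by
  have hp : p.Prime := Fact.out
  have hone : ¬ p ∣ orderOf (1 : G) := orderOf_one (G := G) ▸ hp.not_dvd_one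
  obtain ⟨v, hv, hv1⟩ : ∃ v, v ∈ (T.P : Subgroup G) ∧ v ≠ 1 := by
    rcases (T.P : Subgroup G).bot_or_exists_ne_one with h | h
    · have := T.card_P
      rw [h, Subgroup.card_bot] at this
      exact absurd this hp.one_lt.ne
    · exact h
  obtain ⟨ψ, hψ⟩ := Finset.card_eq_one.mp (T.D.card_Y.trans ht)
  have hψY : ψ ∈ T.D.Y := hψ ▸ Finset.mem_singleton_self _
  set σ : IrrCharacter G → ℤ := fun χ => if χ ∈ T.D.X then T.D.δ χ else -T.D.ε with hσ
  have hval : ∀ χ ∈ T.D.X ∪ T.D.Y, ∀ u ∈ (T.P : Subgroup G), u ≠ 1 →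
      ∀ y ∈ Subgroup.centralizer ((T.P : Subgroup G) : Set G), ¬ p ∣ orderOf y →
      (χ : G → ℂ) (u * y) = σ χ := by
    intro χ hχ u hu hu1 y hy hyr
    rcases Finset.mem_union.mp hχ with h | h
    · simp only [hσ, if_pos h]
      exact T.D.valX χ h u hu hu1 y hy hyr
    · simp only [hσ, if_neg fun h' => Finset.disjoint_left.mp T.D.disj h' h]
      rw [T.D.valY χ h u hu hu1 y hy hyr]
      rw [hψ, Finset.mem_singleton] at h
      have := T.D.sumY u hu hu1
      rw [hψ, Finset.sum_singleton, ← h] at this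
      rw [this]; push_cast; rfl
  refine ⟨σ, ?_, fun χ hχ => ?_⟩
  · have hT : σ (Blocks.trivIrr G) = 1 := by
      have h := hval _ T.D.triv v hv hv1 1 (one_mem _) hone
      have h' : ((1 : ℤ) : ℂ) = (σ (Blocks.trivIrr G) : ℂ) := by rw [← h]; simp [Blocks.trivIrr]
      exact (Int.cast_injective h').symm
    have h := T.D.rel ψ hψY 1 hone
    simp only [BrauerReynolds.value_one] at h
    have h' : T.D.ε * (charDegree (ψ : G → ℂ) : ℤ) =
        ∑ χ ∈ T.D.X, T.D.δ χ * (charDegree (χ : G → ℂ) : ℤ) := by exact_mod_cast h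
    have hs : ∑ χ ∈ T.D.X ∪ T.D.Y, σ χ * (charDegree (χ : G → ℂ) : ℤ) = 0 := by
      rw [Finset.sum_union T.D.disj, hψ, Finset.sum_singleton,
        Finset.sum_congr rfl (g := fun χ => T.D.δ χ * (charDegree (χ : G → ℂ) : ℤ)) fun χ h => by
          simp only [hσ, if_pos h], ← h']
      simp only [hσ, if_neg fun h' => Finset.disjoint_left.mp T.D.disj h' hψY]
      ring
    rw [← Finset.add_sum_erase _ _ T.D.triv, hT, BrauerReynolds.degree_triv] at hs
    push_cast at hs
    linarith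
  obtain ⟨hne, hχ'⟩ := Finset.mem_erase.mp hχ
  have hd : charDegree (χ : G → ℂ) ∣ T.D.e * (1 + T.D.n * p) := by
    rcases Finset.mem_union.mp hχ' with h | h
    · exact T.D.dvdX χ h
    · exact T.D.dvdY χ h
  obtain ⟨h1, h2⟩ := T.degOK_of hne hd fun u hu hu1 y hy hyr => by
    rw [hval χ hχ' u hu hu1 y hy hyr]
    have h := hval χ hχ' u hu hu1 1 (one_mem _) hone
    rw [mul_one] at h
    rw [h]
  have hσ1 : σ χ = 1 ∨ σ χ = -1 := by
    simp only [hσ]
    split_ifs with h
    · exact T.D.hδ χ h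
    · rcases T.D.hε with h | h <;> simp [h]
  refine ⟨h1, h2, hσ1, ?_⟩
  rcases Finset.mem_union.mp hχ' with h | h
  · simp only [hσ, if_pos h]; exact Int.modEq_iff_dvd.mp (T.D.degX χ h).symm
  · simp only [hσ, if_neg fun h' => Finset.disjoint_left.mp T.D.disj h' h]
    refine Int.modEq_iff_dvd.mp ((T.D.degY χ h).trans ?_).symm
    rw [Int.modEq_iff_dvd]
    have het := T.D.het
    rw [ht, mul_one] at het
    have : (T.D.e : ℤ) + 1 = p := by exact_mod_cast het
    exact ⟨-T.D.ε, by rw [← this]; ring⟩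

theorem degrees_7920 (hn : Nat.card G = 7920) :
    (Finset.univ : Finset (IrrCharacter G)).val.map (fun χ : IrrCharacter G => charDegree (χ : G → ℂ)) =
      ({1, 10, 10, 10, 45, 16, 16, 11, 44, 55} : Multiset ℕ) := by
  haveI : Fact (Nat.Prime 5) := ⟨by norm_num⟩
  haveI : Fact (Nat.Prime 11) := ⟨by norm_num⟩
  obtain ⟨k, T, h11⟩ := exists_ctx_of_orderBad hn 11 [5, 11] 88 [(144, 5, 1)]
    (by norm_num) (by norm_num) (by norm_num) (by norm_num) (by norm_num) (by simp <;> norm_num)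
    (by decide +kernel)
  obtain ⟨k₅, T₅, h5⟩ := exists_ctx_of_orderBad hn 5 [5, 11] 88 [(36, 4, 11), (66, 2, 12), (396, 2, 2), (396, 4, 1)]
    (by norm_num) (by norm_num) (by norm_num) (by norm_num) (by norm_num) (by simp <;> norm_num)
    (by decide +kernel)
  simp only [List.mem_cons, List.not_mem_nil, or_false, Prod.mk.injEq] at h5 h11
  obtain ⟨hc, he, rfl⟩ := h11
  have ht : T.D.t = 2 := by have := T.D.het; rw [he] at this; omega
  obtain ⟨hT, hX, hY⟩ := T.block_facts (by omega)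
  rw [hc, he] at hX hY
  norm_num only at hX hY
  set X := T.D.X.erase (Blocks.trivIrr G) with hXdef
  have hXc : X.card = 4 := by rw [hXdef, Finset.card_erase_of_mem hT, T.D.card_X, he]
  obtain ⟨a, b, c, d, hab, hac, had, hbc, hbd, hcd, hXe⟩ := Finset.card_eq_four.mp hXc
  obtain ⟨y₁, y₂, hy12, hYe⟩ := Finset.card_eq_two.mp (T.D.card_Y.trans ht)
  have hy1 : y₁ ∈ T.D.Y := by rw [hYe]; simp
  have hy2 : y₂ ∈ T.D.Y := by rw [hYe]; simp
  set deg : IrrCharacter G → ℕ := fun χ => charDegree (χ : G → ℂ) with hdeg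
  have hsq : ∑ χ : IrrCharacter G, deg χ ^ 2 = 7920 := by
    have h := Char.sum_sq_degree (G := G)
    simp only [BrauerReynolds.value_one, ← Nat.cast_pow, ← Nat.cast_sum, Nat.cast_inj] at h
    exact h.trans hn
  set A : Finset (IrrCharacter G) := T.D.X ∪ T.D.Y with hA
  have hXval : ∀ χ ∈ X, T.D.δ χ * (deg χ : ℤ) ∈ ([-10, 12, 45] : List ℤ) ∧
      (T.D.δ χ * (deg χ : ℤ)).natAbs = deg χ := fun χ hχ => by
    obtain ⟨hok, hle, hδ, hm⟩ := hX χ hχ
    obtain ⟨h1, h2⟩ := key7920X11 _ (by omega) hok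
    simp only [hdeg, List.mem_cons, List.not_mem_nil, or_false]
    rcases hδ with e | e <;> rw [e] at hm ⊢
    · have := h1 (by omega); omega
    · have := h2 (by omega); omega
  obtain ⟨hoky, hley, hmy, hsy⟩ := hY y₁ hy1
  obtain ⟨hY1, hY2⟩ := key7920Y11 _ (by omega) hoky
  have hyval : T.D.ε * (deg y₁ : ℤ) ∈ ([-6, 16, 60, -72] : List ℤ) := by
    simp only [hdeg, List.mem_cons, List.not_mem_nil, or_false]
    rcases T.D.hε with e | e <;> rw [e] at hmy ⊢
    · have := hY1 (by omega); omega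
    · have := hY2 (by omega); omega
  rw [hXe, Finset.sum_insert (by simp [hab, hac, had]), Finset.sum_insert (by simp [hbc, hbd]),
    Finset.sum_pair hcd] at hsy
  obtain ⟨ha', haA⟩ := hXval a (by rw [hXe]; simp)
  obtain ⟨hb', hbA⟩ := hXval b (by rw [hXe]; simp)
  obtain ⟨hc', hcA⟩ := hXval c (by rw [hXe]; simp)
  obtain ⟨hd', hdA⟩ := hXval d (by rw [hXe]; simp)
  have hy2d : deg y₂ = deg y₁ := T.D.degY_eq y₂ hy2 y₁ hy1
  have hXval' : X.val.map deg = deg a ::ₘ deg b ::ₘ deg c ::ₘ {deg d} := by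
    rw [hXe, Finset.insert_val_of_notMem (by simp [hab, hac, had]),
      Finset.insert_val_of_notMem (by simp [hbc, hbd]),
      Finset.insert_val_of_notMem (by simp [hcd]), Finset.singleton_val]
    simp
  have hAval : A.val.map deg = 1 ::ₘ (X.val.map deg + {deg y₁, deg y₁}) := by
    have hX' : T.D.X.val = Blocks.trivIrr G ::ₘ X.val := by
      rw [hXdef, Finset.erase_val]
      exact (Multiset.cons_erase hT).symm
    rw [hA, ← Finset.disjUnion_eq_union _ _ T.D.disj, Finset.disjUnion_val, hX', Multiset.map_add,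
      Multiset.map_cons, hYe, Finset.insert_val_of_notMem (by simp [hy12]), Finset.singleton_val,
      Multiset.map_cons, Multiset.map_singleton, hy2d, Multiset.cons_add]
    simp [hdeg, BrauerReynolds.degree_triv]
  have hsqA : ∑ χ ∈ A, deg χ ^ 2 = ((A.val.map deg).map (· ^ 2)).sum := by
    rw [Finset.sum_eq_multiset_sum, Multiset.map_map]
    rfl
  obtain ⟨hy16, hmul⟩ := key7920sum _ ha' _ hb' _ hc' _ hd' _ hyval
    (by simp only [hdeg] at hsy ⊢; linarith) (by
    have h := hsq ▸ Finset.sum_le_sum_of_subset (f := fun χ => deg χ ^ 2) (Finset.subset_univ A)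
    rw [hsqA, hAval, hXval'] at h
    simp only [Multiset.map_cons, Multiset.map_add, Multiset.map_singleton, Multiset.sum_cons,
      Multiset.sum_add, Multiset.sum_singleton, Multiset.insert_eq_cons] at h
    have e : ∀ (z : ℤ) (x : ℕ), z.natAbs = x → z * z = ((x ^ 2 : ℕ) : ℤ) := fun z x h => by
      rw [← h, pow_two, Int.natCast_mul, Int.natAbs_mul_self']
    have ey : T.D.ε * (deg y₁ : ℤ) * (T.D.ε * (deg y₁ : ℤ)) = ((deg y₁ ^ 2 : ℕ) : ℤ) :=
      e _ _ (by rcases T.D.hε with w | w <;> simp [w])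
    rw [e _ _ haA, e _ _ hbA, e _ _ hcA, e _ _ hdA, ey]
    omega)
  rw [haA, hbA, hcA, hdA, ← hXval'] at hmul
  have hd16 : deg y₁ = 16 := by rcases T.D.hε with w | w <;> rw [w] at hy16 <;> omega
  rw [hmul, hd16] at hAval
  -- the characters outside the block at 11
  set R := (Finset.univ : Finset (IrrCharacter G)) \ A with hR
  have hR11 : ∀ χ ∈ R, 11 ∣ deg χ := fun χ hχ => T.dvd_of_not_mem (Finset.mem_sdiff.mp hχ).2
  have hA' : ∀ χ ∈ A, deg χ = 1 ∨ deg χ = 10 ∨ deg χ = 45 ∨ deg χ = 16 := fun χ hχ => by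
    have h : deg χ ∈ A.val.map deg := Multiset.mem_map_of_mem deg hχ
    rw [hAval] at h
    simp at h
    omega
  have hnot11 : ∀ χ : IrrCharacter G, ¬ 11 ∣ deg χ → χ ∈ A := fun χ h => by
    by_contra hn'
    exact h (hR11 χ (Finset.mem_sdiff.mpr ⟨Finset.mem_univ _, hn'⟩))
  -- the block at 5
  have hk5 : T₅.D.e = 4 ∧ k₅ = 1 := by
    rcases h5 with ⟨-, -, hk⟩ | ⟨hc5, he5, hk⟩ | ⟨hc5, he5, hk⟩ | ⟨-, he5, hk⟩
    · exfalso
      have h := dvd_card_centralizer_swap T₅.P T.P T₅.card_P T.card_P (by rw [T₅.card_C, hk]; norm_num)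
      rw [T.card_C] at h
      norm_num at h
    rotate_left 2
    · exact ⟨he5, hk⟩
    all_goals
      exfalso
      have ht5 : T₅.D.t = 2 := by have := T₅.D.het; rw [he5] at this; omega
      obtain ⟨hT5, -, hY5⟩ := T₅.block_facts (by omega)
      obtain ⟨ψ, hψ⟩ : T₅.D.Y.Nonempty := Finset.card_pos.mp (by rw [T₅.D.card_Y, ht5]; norm_num)
      obtain ⟨-, -, hm, hs⟩ := hY5 ψ hψ
      obtain ⟨χ, hχ⟩ := Finset.card_eq_one.mp
        (show (T₅.D.X.erase (Blocks.trivIrr G)).card = 1 by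
          rw [Finset.card_erase_of_mem hT5, T₅.D.card_X, he5])
      obtain ⟨hχne, hχX⟩ := Finset.mem_erase.mp (hχ.symm ▸ Finset.mem_singleton_self χ :
        χ ∈ T₅.D.X.erase (Blocks.trivIrr G))
      have hmχ := Int.modEq_iff_dvd.mp (T₅.D.degX χ hχX).symm
      have hψ1 : deg ψ % 5 = 2 ∨ deg ψ % 5 = 3 := by
        rw [he5] at hm
        simp only [hdeg]
        rcases T₅.D.hε with w | w <;> rw [w] at hm <;> omega
      have hψ11 : 11 ∣ deg ψ := by
        by_contra h
        have := hA' ψ (hnot11 ψ h)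
        omega
      have hχ1 : deg χ % 11 = 0 ∨ deg χ = 10 ∨ deg χ = 45 ∨ deg χ = 16 ∨ deg χ = 1 := by
        by_cases h : 11 ∣ deg χ
        · exact Or.inl (Nat.mod_eq_zero_of_dvd h)
        · rcases hA' χ (hnot11 χ h) with w | w | w | w <;> simp [w]
      rw [hχ, Finset.sum_singleton] at hs
      simp only [hdeg] at hψ11 hχ1 hψ1
      rcases T₅.D.hδ χ hχX with w | w <;> rcases T₅.D.hε with w' | w' <;> rw [w] at hs hmχ <;> rw [w'] at hs <;> omega
  obtain ⟨he5, rfl⟩ := hk5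
  have hc5 : 1 + T₅.D.n * 5 = 396 := by
    rcases h5 with ⟨-, -, w⟩ | ⟨-, w, -⟩ | ⟨-, w, -⟩ | ⟨w, -, -⟩
    · exact absurd w (by norm_num)
    · omega
    · omega
    · exact w
  have ht5 : T₅.D.t = 1 := by have := T₅.D.het; rw [he5] at this; omega
  obtain ⟨σ, hsum5, hE5⟩ := T₅.rational_facts ht5
  rw [hc5, he5] at hE5
  norm_num only at hE5
  set E := (T₅.D.X ∪ T₅.D.Y).erase (Blocks.trivIrr G) with hE
  have hEc : E.card = 4 := by
    rw [hE, Finset.card_erase_of_mem T₅.D.triv, Finset.card_union_of_disjoint T₅.D.disj, T₅.D.card_X,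
      T₅.D.card_Y, ht5, he5]
  have hnot5 : ∀ χ : IrrCharacter G, χ ≠ Blocks.trivIrr G → ¬ 5 ∣ deg χ → χ ∈ E := fun χ hne h => by
    refine Finset.mem_erase.mpr ⟨hne, ?_⟩
    by_contra hn'
    exact h (T₅.dvd_of_not_mem hn')
  have hyE : ∀ χ ∈ T.D.Y, χ ∈ E := fun χ hχ => by
    have hd : deg χ = 16 := (T.D.degY_eq χ hχ y₁ hy1).trans hd16
    refine hnot5 χ (fun e => ?_) (by rw [hd]; norm_num)
    rw [e] at hd
    simp [hdeg, BrauerReynolds.degree_triv] at hd
  obtain ⟨u, w, huw, hUW⟩ := Finset.card_eq_two.mp (show (E \ T.D.Y).card = 2 by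
    rw [Finset.card_sdiff_of_subset hyE, hEc, T.D.card_Y, ht])
  have huE : u ∈ E ∧ u ∉ T.D.Y := Finset.mem_sdiff.mp (by rw [hUW]; simp)
  have hwE : w ∈ E ∧ w ∉ T.D.Y := Finset.mem_sdiff.mp (by rw [hUW]; simp)
  have hval5 : ∀ χ ∈ E, χ ∉ T.D.Y → 11 ∣ deg χ ∧ (σ χ * (deg χ : ℤ) = 11 ∨ σ χ * (deg χ : ℤ) = -44 ∨
      σ χ * (deg χ : ℤ) = 66) ∧ χ ∈ R := fun χ hχ hχY => by
    obtain ⟨hok, hle, hσ, hm⟩ := hE5 χ hχ
    have h5 : deg χ % 5 = 1 ∨ deg χ % 5 = 4 := by
      simp only [hdeg]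
      rcases hσ with w | w <;> rw [w] at hm <;> omega
    have hne := Finset.ne_of_mem_erase hχ
    have hdvd : 11 ∣ deg χ := by
      by_contra h
      have hmem := hnot11 χ h
      rcases hA' χ hmem with w | w | w | w
      · exact (BrauerReynolds.one_lt_degree_of_simple T.noncomm hne).ne' w
      · omega
      · omega
      · rcases Finset.mem_union.mp hmem with hx | hy
        · have hx' : deg χ ∈ X.val.map deg := Multiset.mem_map_of_mem deg (Finset.mem_erase.mpr ⟨hne, hx⟩)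
          rw [hmul] at hx'
          simp at hx'
          omega
        · exact hχY hy
    have hk := key7920X5 _ (by omega) hok h5 (Nat.mod_eq_zero_of_dvd hdvd)
    refine ⟨hdvd, ?_, Finset.mem_sdiff.mpr ⟨Finset.mem_univ _, fun h => ?_⟩⟩
    · simp only [hdeg] at hk ⊢
      rcases hσ with w | w <;> rw [w] at hm ⊢ <;> omega
    · have := hA' χ h; omega
  obtain ⟨hu11, huv, huR⟩ := hval5 u huE.1 huE.2
  obtain ⟨hw11, hwv, hwR⟩ := hval5 w hwE.1 hwE.2
  have hs16 : ∀ χ ∈ T.D.Y, σ χ * (deg χ : ℤ) = 16 := fun χ hχ => by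
    obtain ⟨-, -, hσ, hm⟩ := hE5 χ (hyE χ hχ)
    have hd : deg χ = 16 := (T.D.degY_eq χ hχ y₁ hy1).trans hd16
    simp only [hdeg] at hd ⊢
    rcases hσ with w | w <;> rw [w] at hm ⊢ <;> omega
  rw [← Finset.sum_sdiff (show T.D.Y ⊆ E from hyE), hUW, Finset.sum_pair huw,
    Finset.sum_congr (s₁ := T.D.Y) rfl (g := fun _ => (16 : ℤ)) fun χ hχ => hs16 χ hχ,
    Finset.sum_const, T.D.card_Y, ht] at hsum5
  norm_num at hsum5
  have hdu : (deg u = 11 ∧ deg w = 44) ∨ (deg u = 44 ∧ deg w = 11) := by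
    obtain ⟨-, -, hσu, -⟩ := hE5 u huE.1
    obtain ⟨-, -, hσw, -⟩ := hE5 w hwE.1
    simp only [hdeg] at huv hwv ⊢
    rcases hσu with e | e <;> rcases hσw with e' | e' <;> rw [e] at huv hsum5 <;> rw [e'] at hwv hsum5 <;> omega
  set R' := R \ {u, w} with hR'
  have hsub : ({u, w} : Finset (IrrCharacter G)) ⊆ R := by
    intro χ hχ
    simp only [Finset.mem_insert, Finset.mem_singleton] at hχ
    rcases hχ with rfl | rfl
    exacts [huR, hwR]
  have h55 : ∀ χ ∈ R', deg χ = 55 := fun χ hχ => by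
    obtain ⟨hχR, hχuw⟩ := Finset.mem_sdiff.mp hχ
    have h11 := hR11 χ hχR
    have h5 : 5 ∣ deg χ := by
      by_contra h
      have hne : χ ≠ Blocks.trivIrr G := fun e => by
        have := (Finset.mem_sdiff.mp hχR).2
        exact this (e ▸ T.D.triv)
      have hE' := hnot5 χ hne h
      have hY' : χ ∉ T.D.Y := fun h' => (Finset.mem_sdiff.mp hχR).2 (Finset.mem_union_right _ h')
      have := hUW ▸ Finset.mem_sdiff.mpr ⟨hE', hY'⟩
      exact hχuw this
    have hpos : 0 < deg χ := (Blocks.irr_degree_eq χ).2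
    have hlt : deg χ < 89 := by
      by_contra hge
      have h := Finset.single_le_sum (f := fun χ => deg χ ^ 2) (fun i _ => Nat.zero_le _) (Finset.mem_univ χ)
      rw [hsq] at h
      have h2 : 89 * 89 ≤ deg χ ^ 2 := by rw [pow_two]; exact Nat.mul_le_mul (by omega) (by omega)
      omega
    omega
  have huniv : (Finset.univ : Finset (IrrCharacter G)).val.map deg =
      A.val.map deg + ({deg u, deg w} + R'.val.map deg) := by
    have e1 : (Finset.univ : Finset (IrrCharacter G)).val = A.val + R.val := by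
      rw [← Finset.disjUnion_val _ _ Finset.disjoint_sdiff, Finset.disjUnion_eq_union,
        Finset.union_sdiff_of_subset (Finset.subset_univ A)]
    have e2 : R.val = ({u, w} : Finset (IrrCharacter G)).val + R'.val := by
      rw [← Finset.disjUnion_val _ _ Finset.disjoint_sdiff, Finset.disjUnion_eq_union,
        Finset.union_sdiff_of_subset hsub]
    rw [e1, e2, Multiset.map_add, Multiset.map_add, Finset.insert_val_of_notMem (by simp [huw]),
      Finset.singleton_val]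
    simp
  have hRmap : R'.val.map deg = Multiset.replicate R'.card 55 := by
    refine Multiset.eq_replicate.mpr ⟨by simp, fun x hx => ?_⟩
    obtain ⟨χ, hχ, rfl⟩ := Multiset.mem_map.mp hx
    exact h55 χ hχ
  rw [hRmap, hAval] at huniv
  have htot : (((Finset.univ : Finset (IrrCharacter G)).val.map deg).map (· ^ 2)).sum = 7920 := by
    rw [Multiset.map_map]
    exact hsq
  rw [huniv] at htot
  simp only [Multiset.map_cons, Multiset.map_add, Multiset.map_singleton, Multiset.sum_cons,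
    Multiset.sum_add, Multiset.sum_singleton, Multiset.insert_eq_cons, Multiset.map_replicate,
    Multiset.sum_replicate, smul_eq_mul] at htot
  rcases hdu with ⟨e1, e2⟩ | ⟨e1, e2⟩
  · rw [e1, e2] at htot huniv
    rw [show R'.card = 1 by omega] at huniv
    rw [huniv]
    decide
  · rw [e1, e2] at htot huniv
    rw [show R'.card = 1 by omega] at huniv
    rw [huniv]
    decide

end CfsgLib.BrauerTuan
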