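import Cfsg.Agent.Lib.BrauerTuan.SeventyNineTwenty
import Cfsg.Agent.Lib.BrauerTuan.Count

/-!
# The involutions of a simple group of order 7920

The values of the irreducible characters at an involution are forced by the orthogonality
relations and the absence of involutions inverting an element of order 11.
-/

set_option autoImplicit false
set_option linter.unusedSectionVars false
set_option linter.style.haveILetI false

namespace CfsgLib.BrauerTuan

open Cfsg
open scoped ComplexConjugate CfsgLib.Char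
open CfsgLib
open scoped _root_.Classical

universe u

variable {G : Type u} [Group G] [Fintype G]

/-- Self-centralizing Sylow subgroups of prime order leave no prime `p` in other centralizers. -/
theorem not_dvd_centralizer {p : ℕ} [Fact p.Prime] (P : Sylow p G)
    (hP : Nat.card (P : Subgroup G) = p)
    (hC : Nat.card (Subgroup.centralizer ((P : Subgroup G) : Set G)) = p) {g : G} (hg : g ≠ 1)
    (hgp : ¬ p ∣ orderOf g) : ¬ p ∣ Nat.card (Subgroup.centralizer ({g} : Set G)) := by
  intro h
  have hp : p.Prime := Fact.out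
  obtain ⟨c, hc⟩ := exists_prime_orderOf_dvd_card' p h
  have hc' : orderOf (c : G) = p := by rw [Subgroup.orderOf_coe, hc]
  obtain ⟨Q, hQ⟩ := (IsPGroup.of_card (p := p) (n := 1)
    (by rw [Nat.card_zpowers, hc', pow_one] : Nat.card (Subgroup.zpowers (c : G)) = p ^ 1)).exists_le_sylow
  obtain ⟨b, hb⟩ := MulAction.exists_smul_eq G Q P
  have hvP : b * c * b⁻¹ ∈ (P : Subgroup G) := by
    rw [← hb, Sylow.coe_subgroup_smul]
    exact Subgroup.smul_mem_pointwise_smul _ (MulAut.conj b) _ (hQ (Subgroup.mem_zpowers _))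
  have hzp : Subgroup.zpowers (b * c * b⁻¹) = (P : Subgroup G) := by
    refine Subgroup.eq_of_le_of_card_ge (Subgroup.zpowers_le.mpr hvP) ?_
    rw [Nat.card_zpowers, show orderOf (b * (c : G) * b⁻¹) = p from
      (MulEquiv.orderOf_eq (MulAut.conj b) (c : G)).trans hc', hP]
  have hgv : Commute (b * g * b⁻¹) (b * c * b⁻¹) := by
    have h1 : g * (c : G) = c * g := (Subgroup.mem_centralizer_singleton_iff.mp c.2).symm
    show b * g * b⁻¹ * (b * c * b⁻¹) = b * c * b⁻¹ * (b * g * b⁻¹)
    rw [show b * g * b⁻¹ * (b * c * b⁻¹) = b * (g * c) * b⁻¹ by group, h1]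
    group
  have hgC : b * g * b⁻¹ ∈ Subgroup.centralizer ((P : Subgroup G) : Set G) := by
    rw [Subgroup.mem_centralizer_iff]
    intro q hq
    rw [← hzp] at hq
    obtain ⟨i, rfl⟩ := Subgroup.mem_zpowers_iff.mp hq
    exact (hgv.zpow_right i).symm.eq
  have hd : orderOf g ∣ p := by
    rw [← hC, show orderOf g = orderOf (b * g * b⁻¹) from (MulEquiv.orderOf_eq (MulAut.conj b) g).symm]
    exact Subgroup.orderOf_dvd_natCard _ hgC
  rcases (Nat.dvd_prime hp).mp hd with h' | h'
  · exact hg (orderOf_eq_one_iff.mp h')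
  · exact hgp (h' ▸ dvd_rfl)

variable [IsSimpleGroup G]

theorem fact_five_7920 : Fact (Nat.Prime 5) := ⟨by norm_num⟩

theorem fact_eleven_7920 : Fact (Nat.Prime 11) := ⟨by norm_num⟩

attribute [local instance] fact_five_7920 fact_eleven_7920

/-- The facts at the primes 5 and 11. -/
theorem local_7920 (hn : Nat.card G = 7920) :
    (∃ T : OrderCtx G 7920 11 [5, 11] 88 1, T.D.e = 5 ∧ T.D.t = 2 ∧ Nat.card (Sylow 11 G) = 144) ∧
      ∃ P : Sylow 5 G, Nat.card (P : Subgroup G) = 5 ∧
        Nat.card (Subgroup.centralizer ((P : Subgroup G) : Set G)) = 5 := by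
  haveI : Fact (Nat.Prime 5) := ⟨by norm_num⟩
  haveI : Fact (Nat.Prime 11) := ⟨by norm_num⟩
  obtain ⟨k, T, h11⟩ := exists_ctx_of_orderBad hn 11 [5, 11] 88 [(144, 5, 1)]
    (by norm_num) (by norm_num) (by norm_num) (by norm_num) (by norm_num) (by simp <;> norm_num)
    (by decide +kernel)
  obtain ⟨k₅, T₅, h5⟩ := exists_ctx_of_orderBad hn 5 [5, 11] 88 [(36, 4, 11), (66, 2, 12), (396, 2, 2), (396, 4, 1)]
    (by norm_num) (by norm_num) (by norm_num) (by norm_num) (by norm_num) (by simp <;> norm_num)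
    (by decide +kernel)
  simp only [List.mem_cons, List.not_mem_nil, or_false, Prod.mk.injEq] at h5 h11
  obtain ⟨hc, he, rfl⟩ := h11
  have ht : T.D.t = 2 := by have := T.D.het; rw [he] at this; omega
  refine ⟨⟨T, he, ht, by rw [T.D.card_sylow]; exact hc⟩, T₅.P, T₅.card_P, ?_⟩
  have hk : k₅ = 11 ∨ T₅.D.e = 2 ∨ k₅ = 1 := by omega
  rcases hk with hk | he5 | hk
  · exfalso
    have h := dvd_card_centralizer_swap T₅.P T.P T₅.card_P T.card_P (by rw [T₅.card_C, hk]; norm_num)
    rw [T.card_C] at h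
    norm_num at h
  · exfalso
    obtain ⟨ψ, hψ⟩ : T₅.D.Y.Nonempty := Finset.card_pos.mp (by rw [T₅.D.card_Y]; exact T₅.D.one_le_t)
    have hd := T₅.D.degY ψ hψ
    rw [he5] at hd
    have hmem : charDegree (ψ : G → ℂ) ∈ ({1, 10, 10, 10, 45, 16, 16, 11, 44, 55} : Multiset ℕ) := by
      rw [← degrees_7920 hn]
      exact Multiset.mem_map_of_mem _ (Finset.mem_univ ψ)
    simp only [Multiset.insert_eq_cons, Multiset.mem_cons, Multiset.mem_singleton] at hmem
    rcases T₅.D.hε with w | w <;> rw [w] at hd <;>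
      rcases hmem with e | e | e | e | e | e | e | e | e | e <;> rw [e] at hd <;> norm_num [Int.ModEq] at hd
  · rw [T₅.card_C, hk]

theorem key7920_pairs : ∀ a ∈ ([-10, -6, -2, 2, 6, 10] : List ℤ), ∀ b ∈ ([-10, -6, -2, 2, 6, 10] : List ℤ),
    ∀ c ∈ ([-10, -6, -2, 2, 6, 10] : List ℤ), ∀ v ∈ ([-11, -7, -3, 1, 5, 9] : List ℤ),
    ∀ y ∈ ([-8, -4, 0, 4, 8] : List ℤ),
      720 - 72 * (a * a + b * b + c * c) + 16 * (v * v) - 45 * (y * y) = 0 →
      (a = 2 ∨ a = -2) ∧ (b = 2 ∨ b = -2) ∧ (c = 2 ∨ c = -2) ∧ v = -3 ∧ y = 0 := by decide +kernel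

theorem key7920_cen : ∀ s ∈ ([-6, -2, 2, 6] : List ℤ), ∀ u ∈ ([-9, -5, -1, 3, 7, 11] : List ℤ),
    ∀ w ∈ ([-8, -4, 0, 4, 8] : List ℤ), ∀ t ∈ ([-9, -5, -1, 3, 7, 11] : List ℤ),
      1 + 10 * s + 11 * u + 44 * w - 45 * 3 + 55 * t = 0 →
      (144 : ℤ) % (22 + u * u + w * w + t * t) = 0 →
      u = 3 ∧ w = 4 ∧ t = -1 := by decide +kernel

theorem mem7920_even {x : ℤ} (h1 : -11 ≤ x) (h2 : x ≤ 11) (h : (4 : ℤ) ∣ 10 - x) :
    x ∈ ([-10, -6, -2, 2, 6, 10] : List ℤ) := by
  simp only [List.mem_cons, List.not_mem_nil, or_false]; omega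

theorem mem7920_one {x : ℤ} (h1 : -11 ≤ x) (h2 : x ≤ 11) (h : (4 : ℤ) ∣ 45 - x) :
    x ∈ ([-11, -7, -3, 1, 5, 9] : List ℤ) := by
  simp only [List.mem_cons, List.not_mem_nil, or_false]; omega

theorem mem7920_three {x : ℤ} (h1 : -11 ≤ x) (h2 : x ≤ 11) (h : (4 : ℤ) ∣ 11 - x) :
    x ∈ ([-9, -5, -1, 3, 7, 11] : List ℤ) := by
  simp only [List.mem_cons, List.not_mem_nil, or_false]; omega

theorem mem7920_zero {x : ℤ} (h1 : -11 ≤ x) (h2 : x ≤ 11) (h : (4 : ℤ) ∣ x) :
    x ∈ ([-8, -4, 0, 4, 8] : List ℤ) := by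
  simp only [List.mem_cons, List.not_mem_nil, or_false]; omega

theorem sum7920_mem {a b c : ℤ} (ha : a = 2 ∨ a = -2) (hb : b = 2 ∨ b = -2) (hc : c = 2 ∨ c = -2) :
    a + b + c ∈ ([-6, -2, 2, 6] : List ℤ) ∧ a * a + b * b + c * c = 12 := by
  rcases ha with rfl | rfl <;> rcases hb with rfl | rfl <;> rcases hc with rfl | rfl <;> decide

theorem sum_by_degree (hn : Nat.card G = 7920) :
    ∃ a b c v y y' u w t : IrrCharacter G,
      (charDegree (a : G → ℂ) = 10 ∧ charDegree (b : G → ℂ) = 10 ∧ charDegree (c : G → ℂ) = 10 ∧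
        charDegree (v : G → ℂ) = 45 ∧ charDegree (y : G → ℂ) = 16 ∧ charDegree (y' : G → ℂ) = 16 ∧
        charDegree (u : G → ℂ) = 11 ∧ charDegree (w : G → ℂ) = 44 ∧ charDegree (t : G → ℂ) = 55) ∧
      y ≠ y' ∧ (∀ χ : IrrCharacter G, charDegree (χ : G → ℂ) = 16 → χ = y ∨ χ = y') ∧
      ∀ F : IrrCharacter G → ℂ, ∑ χ, F χ =
        F (Blocks.trivIrr G) + (F a + F b + F c) + F v + (F y + F y') + F u + F w + F t := by
  set deg : IrrCharacter G → ℕ := fun χ => charDegree (χ : G → ℂ) with hdeg
  have h := degrees_7920 hn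
  have hcount : ∀ d : ℕ, ((Finset.univ : Finset (IrrCharacter G)).filter fun χ => deg χ = d).card =
      Multiset.count d ({1, 10, 10, 10, 45, 16, 16, 11, 44, 55} : Multiset ℕ) := fun d => by
    rw [← h, Multiset.count_map, Finset.card_def, Finset.filter_val]
    congr 1
    exact Multiset.filter_congr fun χ _ => eq_comm
  have hone : ∀ d : ℕ, Multiset.count d ({1, 10, 10, 10, 45, 16, 16, 11, 44, 55} : Multiset ℕ) = 1 →
      ∃ χ, ((Finset.univ : Finset (IrrCharacter G)).filter fun χ => deg χ = d) = {χ} := fun d hd =>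
    Finset.card_eq_one.mp ((hcount d).trans hd)
  obtain ⟨a, b, c, hab, hac, hbc, hA⟩ := Finset.card_eq_three.mp ((hcount 10).trans (by decide))
  obtain ⟨y, y', hyy, hY⟩ := Finset.card_eq_two.mp ((hcount 16).trans (by decide))
  obtain ⟨e, hE⟩ := hone 1 (by decide)
  obtain ⟨v, hV⟩ := hone 45 (by decide)
  obtain ⟨u, hU⟩ := hone 11 (by decide)
  obtain ⟨w, hW⟩ := hone 44 (by decide)
  obtain ⟨t, hT⟩ := hone 55 (by decide)
  have mem : ∀ {d : ℕ} {s : Finset (IrrCharacter G)},
      ((Finset.univ : Finset (IrrCharacter G)).filter fun χ => deg χ = d) = s → ∀ χ ∈ s, deg χ = d := by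
    intro d s hs χ hχ
    rw [← hs] at hχ
    exact (Finset.mem_filter.mp hχ).2
  have he : e = Blocks.trivIrr G := by
    have : Blocks.trivIrr G ∈ ((Finset.univ : Finset (IrrCharacter G)).filter fun χ => deg χ = 1) :=
      Finset.mem_filter.mpr ⟨Finset.mem_univ _, BrauerReynolds.degree_triv⟩
    rw [hE, Finset.mem_singleton] at this
    exact this.symm
  refine ⟨a, b, c, v, y, y', u, w, t, ⟨mem hA a (by simp), mem hA b (by simp), mem hA c (by simp),
    mem hV v (by simp), mem hY y (by simp), mem hY y' (by simp), mem hU u (by simp),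
    mem hW w (by simp), mem hT t (by simp)⟩, hyy, fun χ hχ => ?_, fun F => ?_⟩
  · have : χ ∈ ((Finset.univ : Finset (IrrCharacter G)).filter fun χ => deg χ = 16) :=
      Finset.mem_filter.mpr ⟨Finset.mem_univ _, hχ⟩
    rw [hY] at this
    simpa using this
  · rw [← Finset.sum_fiberwise_of_maps_to (s := Finset.univ)
      (t := ({1, 10, 45, 16, 11, 44, 55} : Finset ℕ)) (g := deg) (fun χ _ => ?_) F]
    · rw [Finset.sum_insert (by decide), Finset.sum_insert (by decide), Finset.sum_insert (by decide),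
        Finset.sum_insert (by decide), Finset.sum_insert (by decide), Finset.sum_insert (by decide),
        Finset.sum_singleton, hE, hA, hV, hY, hU, hW, hT, Finset.sum_singleton, Finset.sum_singleton,
        Finset.sum_singleton, Finset.sum_singleton, Finset.sum_singleton, Finset.sum_pair hyy,
        Finset.sum_insert (by simp [hab, hac]), Finset.sum_pair hbc, he]
      ring
    · have hmem : deg χ ∈ ({1, 10, 10, 10, 45, 16, 16, 11, 44, 55} : Multiset ℕ) := by
        rw [← h]
        exact Multiset.mem_map_of_mem _ (Finset.mem_univ χ)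
      simp only [Multiset.insert_eq_cons, Multiset.mem_cons, Multiset.mem_singleton] at hmem
      simp only [Finset.mem_insert, Finset.mem_singleton]
      tauto

/-- Centralizers of involutions have order 48, and the involutions are conjugate. -/
theorem involution_7920 (hn : Nat.card G = 7920) :
    (∀ g : G, orderOf g = 2 → Nat.card (Subgroup.centralizer ({g} : Set G)) = 48) ∧
      ∀ g h : G, orderOf g = 2 → orderOf h = 2 → IsConj g h := by
  haveI : Fact (Nat.Prime 5) := ⟨by norm_num⟩
  haveI : Fact (Nat.Prime 11) := ⟨by norm_num⟩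
  obtain ⟨⟨T, he, ht, hsyl⟩, P₅, hP₅, hC₅⟩ := local_7920 hn
  obtain ⟨a, b, c, v, y, y', u, w, t, ⟨da, db, dc, dv, dy, dy', du, dw, dt⟩, hyy, h16, hsum⟩ :=
    sum_by_degree hn
  have hcomm : ¬ IsMulCommutative G := T.noncomm
  have hC11 : Subgroup.centralizer ((T.P : Subgroup G) : Set G) = (T.P : Subgroup G) := by
    refine (Subgroup.eq_of_le_of_card_ge ?_ ?_).symm
    · haveI : IsCyclic (T.P : Subgroup G) := isCyclic_of_prime_card T.card_P
      exact fun a ha => Subgroup.mem_centralizer_iff.mpr fun c hc =>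
        congrArg Subtype.val ((IsCyclic.commGroup (α := (T.P : Subgroup G))).mul_comm ⟨c, hc⟩ ⟨a, ha⟩)
    · rw [T.card_C, T.card_P]
  -- values on a nontrivial element of order 11
  obtain ⟨z, hz, hz1⟩ : ∃ z, z ∈ (T.P : Subgroup G) ∧ z ≠ 1 := by
    rcases (T.P : Subgroup G).bot_or_exists_ne_one with h | h
    · have := T.card_P
      rw [h, Subgroup.card_bot] at this
      norm_num at this
    · exact h
  have hmemY : ∀ χ : IrrCharacter G, χ ∈ T.D.Y → charDegree (χ : G → ℂ) % 11 = 5 ∨ charDegree (χ : G → ℂ) % 11 = 6 := by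
    intro χ hχ
    have hd := Int.modEq_iff_dvd.mp (T.D.degY χ hχ)
    rw [he] at hd
    rcases T.D.hε with e | e <;> rw [e] at hd <;> omega
  have hmemX : ∀ χ : IrrCharacter G, χ ∈ T.D.X →
      (charDegree (χ : G → ℂ) % 11 = 1 ∧ T.D.δ χ = 1) ∨ (charDegree (χ : G → ℂ) % 11 = 10 ∧ T.D.δ χ = -1) := by
    intro χ hχ
    have hd := Int.modEq_iff_dvd.mp (T.D.degX χ hχ)
    rcases T.D.hδ χ hχ with e | e <;> rw [e] at hd ⊢ <;> omega
  have hout : ∀ χ : IrrCharacter G, 11 ∣ charDegree (χ : G → ℂ) → (χ : G → ℂ) z = 0 := fun χ hd =>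
    T.D.out hC11 χ (fun h => by rcases hmemX χ h with ⟨h', -⟩ | ⟨h', -⟩ <;> omega)
      (fun h => by rcases hmemY χ h with h' | h' <;> omega) z hz hz1
  have hin : ∀ χ : IrrCharacter G, ¬ 11 ∣ charDegree (χ : G → ℂ) → χ ∈ T.D.X ∪ T.D.Y := fun χ hd => by
    by_contra h
    exact hd (T.dvd_of_not_mem h)
  have hvalX : ∀ χ : IrrCharacter G, ∀ δ : ℤ, ((charDegree (χ : G → ℂ) % 11 = 1 ∧ δ = 1) ∨
      (charDegree (χ : G → ℂ) % 11 = 10 ∧ δ = -1)) → (χ : G → ℂ) z = δ := by
    intro χ δ hd
    rcases Finset.mem_union.mp (hin χ (by omega)) with h | h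
    · have hv := T.D.valX χ h z hz hz1 1 (one_mem _) (by rw [orderOf_one]; norm_num)
      rw [mul_one] at hv
      rw [hv]
      rcases hmemX χ h with h' | h' <;> congr 1 <;> omega
    · rcases hmemY χ h with h' | h' <;> omega
  have hY : T.D.Y = {y, y'} := by
    refine Finset.eq_of_subset_of_card_le (fun χ hχ => ?_) ?_
    · have hmem : charDegree (χ : G → ℂ) ∈ ({1, 10, 10, 10, 45, 16, 16, 11, 44, 55} : Multiset ℕ) := by
        rw [← degrees_7920 hn]
        exact Multiset.mem_map_of_mem _ (Finset.mem_univ χ)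
      simp only [Multiset.insert_eq_cons, Multiset.mem_cons, Multiset.mem_singleton] at hmem
      have := hmemY χ hχ
      have h' := h16 χ (by omega)
      simpa using h'
    · rw [T.D.card_Y, ht, Finset.card_pair hyy]
  have hε : T.D.ε = 1 := by
    have hd := Int.modEq_iff_dvd.mp (T.D.degY y (by rw [hY]; simp))
    rw [he, dy] at hd
    rcases T.D.hε with e | e
    · exact e
    · rw [e] at hd; omega
  have hsumY : (y : G → ℂ) z + (y' : G → ℂ) z = -1 := by
    have := T.D.sumY z hz hz1
    rw [hY, Finset.sum_pair hyy, hε] at this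
    simpa using this
  -- values at an involution
  have hmain : ∀ g : G, orderOf g = 2 →
      ∃ A : IrrCharacter G → ℤ, (∀ χ : IrrCharacter G, (χ : G → ℂ) g = (A χ : ℂ)) ∧
        A (Blocks.trivIrr G) = 1 ∧ (A a = 2 ∨ A a = -2) ∧ (A b = 2 ∨ A b = -2) ∧ (A c = 2 ∨ A c = -2) ∧
        A v = -3 ∧ A y = 0 ∧ A y' = 0 ∧ A u = 3 ∧ A w = 4 ∧ A t = -1 ∧
        Nat.card (Subgroup.centralizer ({g} : Set G)) = 48 := by
    intro g hg
    have hg2 : g * g = 1 := by rw [← pow_two, ← hg, pow_orderOf_eq_one]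
    have hg1 : g ≠ 1 := fun h => by rw [h, orderOf_one] at hg; omega
    choose A hA using fun χ : IrrCharacter G =>
      exists_int_of_involution (Char.isCharacter_of_isIrr χ.2) hg2
    have hm4 : ∀ χ : IrrCharacter G, (4 : ℤ) ∣ (charDegree (χ : G → ℂ) : ℤ) - A χ := fun χ => by
      obtain ⟨j, hj⟩ := involution_value_mod_four hcomm (Char.isCharacter_of_isIrr χ.2) hg2
        (BrauerReynolds.value_one χ)
      rw [hA] at hj
      have : A χ = (charDegree (χ : G → ℂ) : ℤ) - 4 * j := by exact_mod_cast hj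
      exact ⟨j, by omega⟩
    have hAT : A (Blocks.trivIrr G) = 1 := by
      have := hA (Blocks.trivIrr G)
      simp [Blocks.trivIrr] at this
      exact_mod_cast this.symm
    set C := Nat.card (Subgroup.centralizer ({g} : Set G)) with hC
    have hCdvd : C ∣ 144 := by
      have h5 := not_dvd_centralizer P₅ hP₅ hC₅ hg1 (by rw [hg]; norm_num)
      have h11 := not_dvd_centralizer T.P T.card_P (by rw [T.card_C]) hg1 (by rw [hg]; norm_num)
      have hd : C ∣ 144 * (5 * 11) := by
        have := Subgroup.card_subgroup_dvd_card (Subgroup.centralizer ({g} : Set G))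
        rw [hn] at this
        exact this
      exact (Nat.Coprime.mul_right ((Fact.out : Nat.Prime 5).coprime_iff_not_dvd.mpr h5).symm
        ((Fact.out : Nat.Prime 11).coprime_iff_not_dvd.mpr h11).symm).dvd_of_dvd_mul_right hd
    have hcol : (C : ℤ) = 1 + (A a * A a + A b * A b + A c * A c) + A v * A v +
        (A y * A y + A y' * A y') + A u * A u + A w * A w + A t * A t := by
      have h := Char.column_orthogonality g g
      rw [if_pos (IsConj.refl g)] at h
      rw [hsum] at h
      simp only [hA, map_intCast, hAT] at h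
      have h' : (((C : ℤ)) : ℂ) = ((1 + (A a * A a + A b * A b + A c * A c) + A v * A v +
        (A y * A y + A y' * A y') + A u * A u + A w * A w + A t * A t : ℤ) : ℂ) := by
        simp only [Int.cast_one, map_one, mul_one] at h
        push_cast at h ⊢
        linear_combination -h
      exact_mod_cast h'
    have horth : 1 + 10 * (A a + A b + A c) + 45 * A v + 16 * (A y + A y') + 11 * A u + 44 * A w +
        55 * A t = 0 := by
      have h := Char.column_orthogonality g 1
      rw [if_neg (fun h' => hg1 (isConj_one_left.mp h'))] at h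
      rw [hsum] at h
      simp only [hA, BrauerReynolds.value_one, Complex.conj_natCast, hAT, Int.cast_one, one_mul,
        BrauerReynolds.degree_triv, da, db, dc, dv, dy, dy', du, dw, dt] at h
      have h' : (((1 + 10 * (A a + A b + A c) + 45 * A v + 16 * (A y + A y') + 11 * A u + 44 * A w +
        55 * A t : ℤ)) : ℂ) = 0 := by push_cast at h ⊢; linear_combination h
      exact_mod_cast h'
    have hyeq : A y = A y' := by
      have hreg : ¬ 11 ∣ orderOf g := by rw [hg]; norm_num
      have h := (T.D.rel y (by rw [hY]; simp) g hreg).trans (T.D.rel y' (by rw [hY]; simp) g hreg).symm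
      rw [hε, hA, hA] at h
      simpa using h
    -- no involution inverts an element of order 11
    have hpairs : 720 - 72 * (A a * A a + A b * A b + A c * A c) + 16 * (A v * A v) - 45 * (A y * A y) = 0 := by
      have hnum := Char.class_mult g g z
      rw [hsum] at hnum
      have hempty : ¬ Nonempty {pr : G × G // IsConj g pr.1 ∧ IsConj g pr.2 ∧ pr.1 * pr.2 = z} := by
        intro hne
        obtain ⟨-, u₀, hu2, huN, hcl⟩ := pairs_of_nonempty T.card_P hC11 (by norm_num) hg2 hz hz1 hne
        have hN : Nat.card (Subgroup.normalizer ((T.P : Subgroup G) : Set G)) = 55 := by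
          have h := Subgroup.card_mul_index (Subgroup.normalizer ((T.P : Subgroup G) : Set G))
          have hi : (Subgroup.normalizer ((T.P : Subgroup G) : Set G)).index = 144 :=
            (Sylow.card_eq_index_normalizer T.P).symm.trans hsyl
          rw [hi, hn] at h
          omega
        have hu1 : u₀ = 1 := by
          have hd1 : orderOf u₀ ∣ 2 := orderOf_dvd_of_pow_eq_one (by rw [pow_two, hu2])
          have hd2 : orderOf u₀ ∣ 55 := hN ▸ Subgroup.orderOf_dvd_natCard _ huN
          exact orderOf_eq_one_iff.mp (Nat.eq_one_of_dvd_coprimes (by norm_num) hd1 hd2)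
        have h := Char.column_orthogonality g 1
        rw [if_neg (fun h' => hg1 (isConj_one_left.mp h'))] at h
        simp only [fun χ : IrrCharacter G => (hcl _ (Char.isCharacter_of_isIrr χ.2)).1, hu1,
          BrauerReynolds.value_one, Complex.conj_natCast, ← Nat.cast_mul, ← Nat.cast_sum, Nat.cast_eq_zero] at h
        have h1 := Finset.single_le_sum (f := fun χ : IrrCharacter G => charDegree (χ : G → ℂ) * charDegree (χ : G → ℂ))
          (fun i _ => Nat.zero_le _) (Finset.mem_univ (Blocks.trivIrr G))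
        rw [BrauerReynolds.degree_triv] at h1
        omega
      rw [not_nonempty_iff] at hempty
      rw [Nat.card_of_isEmpty, Nat.cast_zero, eq_comm] at hnum
      have hidx : ((Subgroup.centralizer ({g} : Set G)).index : ℂ) ≠ 0 :=
        Nat.cast_ne_zero.mpr Subgroup.index_ne_zero_of_finite
      have h0 := (mul_eq_zero.mp hnum).resolve_left (div_ne_zero (mul_ne_zero hidx hidx)
        (Nat.cast_ne_zero.mpr Nat.card_pos.ne'))
      have ha := hvalX a (-1) (Or.inr ⟨by rw [da], rfl⟩)
      have hb := hvalX b (-1) (Or.inr ⟨by rw [db], rfl⟩)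
      have hc := hvalX c (-1) (Or.inr ⟨by rw [dc], rfl⟩)
      have hv := hvalX v 1 (Or.inl ⟨by rw [dv], rfl⟩)
      have hT1 := hvalX (Blocks.trivIrr G) 1 (Or.inl ⟨by rw [BrauerReynolds.degree_triv], rfl⟩)
      have hu := hout u (by rw [du])
      have hw := hout w (by rw [dw]; norm_num)
      have ht' := hout t (by rw [dt]; norm_num)
      have hy' : conj ((y' : G → ℂ) z) = -1 - conj ((y : G → ℂ) z) := by
        rw [eq_sub_iff_add_eq, ← map_add, add_comm, hsumY]
        simp
      simp only [hA, BrauerReynolds.value_one, hAT, ← hyeq, ha, hb, hc, hv, hT1, hu, hw, ht', hy', map_intCast,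
        map_zero, mul_zero, zero_div, add_zero, BrauerReynolds.degree_triv, da, db, dc, dv, dy, dy'] at h0
      push_cast at h0
      have h' : (((720 - 72 * (A a * A a + A b * A b + A c * A c) + 16 * (A v * A v) - 45 * (A y * A y) : ℤ)) : ℂ) = 0 := by
        push_cast
        linear_combination 720 * h0
      exact_mod_cast h'
    -- bounds
    have hC144 : (C : ℤ) ≤ 144 := by exact_mod_cast Nat.le_of_dvd (by norm_num) hCdvd
    have hbd : ∀ x : ℤ, x * x ≤ 143 → -11 ≤ x ∧ x ≤ 11 := fun x hx => by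
      constructor
      · by_contra hlt
        have h' : (12 : ℤ) ≤ -x := by omega
        have := mul_le_mul h' h' (by norm_num) (by omega)
        linarith
      · by_contra hlt
        have h' : (12 : ℤ) ≤ x := by omega
        have := mul_le_mul h' h' (by norm_num) (by omega)
        linarith
    have sq := fun x : ℤ => mul_self_nonneg x
    have := sq (A a); have := sq (A b); have := sq (A c); have := sq (A v); have := sq (A y)
    have := sq (A y'); have := sq (A u); have := sq (A w); have := sq (A t)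
    obtain ⟨a1, a2⟩ := hbd (A a) (by linarith)
    obtain ⟨b1, b2⟩ := hbd (A b) (by linarith)
    obtain ⟨c1, c2⟩ := hbd (A c) (by linarith)
    obtain ⟨v1, v2⟩ := hbd (A v) (by linarith)
    obtain ⟨y1, y2⟩ := hbd (A y) (by linarith)
    obtain ⟨u1, u2⟩ := hbd (A u) (by linarith)
    obtain ⟨w1, w2⟩ := hbd (A w) (by linarith)
    obtain ⟨t1, t2⟩ := hbd (A t) (by linarith)
    have ma := hm4 a; have mb := hm4 b; have mc := hm4 c; have mv := hm4 v; have my := hm4 y
    have mu := hm4 u; have mw := hm4 w; have mt := hm4 t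
    rw [da] at ma; rw [db] at mb; rw [dc] at mc; rw [dv] at mv; rw [dy] at my
    rw [du] at mu; rw [dw] at mw; rw [dt] at mt
    obtain ⟨ka, kb, kc, kv, ky⟩ := key7920_pairs (A a) (mem7920_even a1 a2 (by exact_mod_cast ma)) (A b)
      (mem7920_even b1 b2 (by exact_mod_cast mb)) (A c) (mem7920_even c1 c2 (by exact_mod_cast mc)) (A v)
      (mem7920_one v1 v2 (by exact_mod_cast mv)) (A y)
      (mem7920_zero y1 y2 ((dvd_sub_right (by norm_num)).mp my)) hpairs
    have hy0 : A y' = 0 := hyeq ▸ ky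
    have hsq3 : A a * A a + A b * A b + A c * A c = 12 := (sum7920_mem ka kb kc).2
    have hC' : (C : ℤ) = 22 + A u * A u + A w * A w + A t * A t := by
      rw [hcol, hsq3, kv, ky, hy0]; ring
    obtain ⟨ku, kw, kt⟩ := key7920_cen (A a + A b + A c) (sum7920_mem ka kb kc).1 (A u)
      (mem7920_three u1 u2 (by exact_mod_cast mu)) (A w) (mem7920_zero w1 w2 ((dvd_sub_right (by norm_num)).mp mw))
      (A t) (mem7920_three t1 t2 (by
        have := dvd_sub mt (show (4 : ℤ) ∣ 44 by norm_num)
        push_cast at this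
        exact (show (55 : ℤ) - A t - 44 = 11 - A t by ring) ▸ this))
      (by rw [kv, ky, hy0] at horth; linarith) (by
        rw [← hC']
        exact Int.emod_eq_zero_of_dvd (by exact_mod_cast hCdvd))
    refine ⟨A, hA, hAT, ka, kb, kc, kv, ky, hy0, ku, kw, kt, ?_⟩
    rw [ku, kw, kt] at hC'
    norm_num at hC'
    exact_mod_cast hC'
  refine ⟨fun g hg => ?_, fun g h hg hh => ?_⟩
  · obtain ⟨A, h⟩ := hmain g hg
    exact h.2.2.2.2.2.2.2.2.2.2.2
  · obtain ⟨A, hA, a0, a1, a2, a3, a4, a5, a6, a7, a8, a9, -⟩ := hmain g hg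
    obtain ⟨B, hB, b0, b1, b2, b3, b4, b5, b6, b7, b8, b9, -⟩ := hmain h hh
    by_contra hne
    have h := Char.column_orthogonality g h
    rw [if_neg hne, hsum] at h
    simp only [hA, hB, map_intCast, a0, b0, a4, b4, a5, b5, a6, b6, a7, b7, a8, b8, a9, b9] at h
    rcases a1 with e | e <;> rcases a2 with e' | e' <;> rcases a3 with e'' | e'' <;>
      rcases b1 with f | f <;> rcases b2 with f' | f' <;> rcases b3 with f'' | f'' <;>
      simp only [e, e', e'', f, f', f''] at h <;> norm_num at h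

end CfsgLib.BrauerTuan
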