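import Cfsg.Agent.Lib.BrauerTuan.SeventyNineTwentyInvolution
import Cfsg.Agent.Lib.PGroup.CoprimeAut
import Cfsg.Agent.Lib.Critical.Basic
import Cfsg.Agent.Lib.SmallOrder.Basic

/-!
# The Sylow 3-normalizer of a simple group of order 7920
-/

set_option autoImplicit false
set_option linter.style.haveILetI false

namespace CfsgLib.BrauerTuan

universe u

variable {G : Type u} [Group G]

theorem factorization_pow_mul_7920 {p k m : ℕ} (hp : p.Prime) (hm : ¬ p ∣ m) :
    (p ^ k * m).factorization p = k := by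
  rw [Nat.factorization_mul (pow_ne_zero _ hp.ne_zero) (fun h => hm (by rw [h]; exact dvd_zero p)), Finsupp.add_apply,
    hp.factorization_pow, Finsupp.single_eq_same, Nat.factorization_eq_zero_of_not_dvd hm, add_zero]

theorem eq_four_of_dvd_7920 {d : ℕ} (h : d ∣ 4) (h1 : d ≠ 1) (h2 : d ≠ 2) : d = 4 := by
  have := Nat.le_of_dvd (by norm_num) h
  interval_cases d <;> omega

theorem arith_ns_7920 {a M : ℕ} (h1 : a * 18 = M) (h2 : M ∣ 144) (h3 : a ≠ 1) (h4 : a % 3 = 1) :
    M = 72 := by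
  subst h1
  have h8 : a ∣ 8 := Nat.dvd_of_mul_dvd_mul_right (by norm_num : 0 < 18) h2
  have := Nat.le_of_dvd (by norm_num) h8
  interval_cases a <;> omega

/-- If every other Sylow subgroup meets `P` trivially, their number is `1` modulo `|P|`. -/
theorem card_sylow_modEq_card_of_ti [Finite G] {p : ℕ} [Fact p.Prime] (P : Sylow p G)
    (h : ∀ Q : Sylow p G, Q ≠ P → (P : Subgroup G) ⊓ (Q : Subgroup G) = ⊥) :
    Nat.card (Sylow p G) ≡ 1 [MOD Nat.card (P : Subgroup G)] := by
  classical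
  letI := Fintype.ofFinite (Sylow p G)
  letI := Fintype.ofFinite (MulAction.orbitRel.Quotient (P : Subgroup G) (Sylow p G))
  have hst : ∀ Q : Sylow p G, MulAction.stabilizer (P : Subgroup G) Q = if Q = P then ⊤ else ⊥ := by
    intro Q
    have h1 : MulAction.stabilizer (P : Subgroup G) Q =
        (Subgroup.normalizer (Q : Set G)).subgroupOf (P : Subgroup G) := by
      ext y
      rw [MulAction.mem_stabilizer_iff, Subgroup.mem_subgroupOf, Subgroup.smul_def]
      exact Sylow.smul_eq_iff_mem_normalizer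
    rw [h1, ← Subgroup.inf_subgroupOf_left, P.2.inf_normalizer_sylow Q, Subgroup.inf_subgroupOf_left]
    split_ifs with hQ
    · rw [hQ, Subgroup.subgroupOf_self]
    · rw [Subgroup.subgroupOf_eq_bot, disjoint_comm, disjoint_iff]
      exact h Q hQ
  have hcard : Nat.card (Sylow p G) =
      ∑ ω : MulAction.orbitRel.Quotient (P : Subgroup G) (Sylow p G),
        (MulAction.stabilizer (P : Subgroup G) ω.out).index := by
    rw [Nat.card_congr (MulAction.selfEquivSigmaOrbitsQuotientStabilizer (P : Subgroup G) (Sylow p G)),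
      Nat.card_sigma]
    rfl
  set ω₀ : MulAction.orbitRel.Quotient (P : Subgroup G) (Sylow p G) := Quotient.mk'' P
  have hout : ∀ ω, ω.out = P ↔ ω = ω₀ := by
    intro ω
    constructor
    · intro he; rw [← Quotient.out_eq' ω, he]
    · rintro rfl
      have hrel : (MulAction.orbitRel (P : Subgroup G) (Sylow p G)).r ω₀.out P := Quotient.mk_out' P
      obtain ⟨y, hy⟩ := MulAction.mem_orbit_iff.mp (MulAction.orbitRel_apply.mp hrel)
      rw [← hy]
      have := hst P
      rw [if_pos rfl] at this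
      exact MulAction.mem_stabilizer_iff.mp (this ▸ Subgroup.mem_top y)
  rw [hcard, ← Finset.add_sum_erase _ _ (Finset.mem_univ ω₀), hst, if_pos ((hout ω₀).mpr rfl),
    Subgroup.index_top]
  refine Nat.ModEq.trans (Nat.ModEq.add_left 1 (Nat.modEq_zero_iff_dvd.mpr ?_)) (by rw [add_zero])
  refine Finset.dvd_sum fun ω hω => ?_
  rw [hst, if_neg (fun he => Finset.ne_of_mem_erase hω ((hout ω).mp he)), Subgroup.index_bot]

/-- An element of order prime to 48 normalizing a subgroup of order dividing 9 centralizes it. -/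
theorem mem_centralizer_of_normalizes [Finite G] {Y : Subgroup G} {k : ℕ} (hk : k ≤ 2)
    (hY : Nat.card Y = 3 ^ k) {q : G} (hq : (orderOf q).Coprime 48)
    (hqn : q ∈ Subgroup.normalizer (Y : Set G)) : q ∈ Subgroup.centralizer (Y : Set G) := by
  haveI : Fact (Nat.Prime 3) := ⟨by norm_num⟩
  set φ := Y.normalizerMonoidHom ⟨q, hqn⟩ with hφ
  have hφo : orderOf φ ∣ orderOf q := by
    rw [hφ, ← Subgroup.orderOf_mk q hqn]
    exact orderOf_map_dvd _ _
  have hcop : (orderOf φ).Coprime 48 := Nat.Coprime.coprime_dvd_left hφo hq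
  have h1 : φ = 1 := by
    refine CfsgLib.PGroup.eq_one_of_coprime (IsPGroup.of_card hY) (r := k) ?_ φ
      (hcop.coprime_dvd_right (by norm_num)) fun i hi1 hi2 => ?_
    · rw [← hY]
      exact Nat.le_of_dvd Nat.card_pos (Subgroup.index_dvd_card _)
    · have : i = 1 ∨ i = 2 := by omega
      rcases this with rfl | rfl
      · exact hcop.coprime_dvd_right (by norm_num)
      · exact hcop.coprime_dvd_right (by norm_num)
  have h2 : (⟨q, hqn⟩ : Subgroup.normalizer (Y : Set G)) ∈ Y.normalizerMonoidHom.ker := h1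
  rw [Subgroup.normalizerMonoidHom_ker] at h2
  exact h2

variable [Fintype G] [IsSimpleGroup G]

/-- The orders of normalizers of non-trivial 3-subgroups of order at most 9. -/
theorem normalizer_dvd_144 (hn : Nat.card G = 7920) {Y : Subgroup G} {k : ℕ} (hk1 : 1 ≤ k)
    (hk : k ≤ 2) (hY : Nat.card Y = 3 ^ k) :
    Nat.card (Subgroup.normalizer (Y : Set G)) ∣ 144 := by
  haveI : Fact (Nat.Prime 3) := ⟨by norm_num⟩
  haveI : Fact (Nat.Prime 5) := ⟨by norm_num⟩
  haveI : Fact (Nat.Prime 11) := ⟨by norm_num⟩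
  obtain ⟨⟨T, -, -, -⟩, P₅, hP₅, hC₅⟩ := local_7920 (G := G) hn
  obtain ⟨y, hy⟩ := exists_prime_orderOf_dvd_card' (G := Y) 3 (by rw [hY]; exact dvd_pow_self 3 (by omega))
  have hyo : orderOf (y : G) = 3 := by rw [Subgroup.orderOf_coe, hy]
  have hy1 : (y : G) ≠ 1 := fun h => by rw [h, orderOf_one] at hyo; omega
  have key : ∀ q : ℕ, [Fact q.Prime] → q.Coprime 48 →
      ¬ q ∣ Nat.card (Subgroup.centralizer ({(y : G)} : Set G)) →
      ¬ q ∣ Nat.card (Subgroup.normalizer (Y : Set G)) := by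
    intro q hqF hq hC hd
    obtain ⟨c, hc⟩ := exists_prime_orderOf_dvd_card' q hd
    have hmem := mem_centralizer_of_normalizes hk hY
      (show (orderOf (c : G)).Coprime 48 by rw [Subgroup.orderOf_coe, hc]; exact hq) c.2
    refine hC ?_
    rw [← hc, ← Subgroup.orderOf_coe]
    exact Subgroup.orderOf_dvd_natCard _ (Subgroup.mem_centralizer_singleton_iff.mpr
      ((Subgroup.mem_centralizer_iff.mp hmem y y.2).symm))
  have h5 := key 5 (by norm_num) (not_dvd_centralizer P₅ hP₅ hC₅ hy1 (by rw [hyo]; norm_num))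
  have h11 := key 11 (by norm_num)
    (not_dvd_centralizer T.P T.card_P (by rw [T.card_C]) hy1 (by rw [hyo]; norm_num))
  have hd : Nat.card (Subgroup.normalizer (Y : Set G)) ∣ 144 * (5 * 11) := by
    have := Subgroup.card_subgroup_dvd_card (Subgroup.normalizer (Y : Set G))
    rwa [hn] at this
  exact (Nat.Coprime.mul_right ((Fact.out : Nat.Prime 5).coprime_iff_not_dvd.mpr h5).symm
    ((Fact.out : Nat.Prime 11).coprime_iff_not_dvd.mpr h11).symm).dvd_of_dvd_mul_right hd

/-- No simple group of order 7920 has a Sylow 3-normalizer of order 36. -/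
theorem normalizer_ne_36 (hn : Nat.card G = 7920) (P : Sylow 3 G)
    (h36 : Nat.card (Subgroup.normalizer ((P : Subgroup G) : Set G)) = 36) : False := by
  haveI : Fact (Nat.Prime 3) := ⟨by norm_num⟩
  haveI : Fact (Nat.Prime 2) := ⟨by norm_num⟩
  obtain ⟨h48, hconj⟩ := involution_7920 (G := G) hn
  set N := Subgroup.normalizer ((P : Subgroup G) : Set G) with hN
  have hP : Nat.card (P : Subgroup G) = 3 ^ 2 := by
    rw [P.card_eq_multiplicity, hn, show (7920 : ℕ) = 3 ^ 2 * 880 by norm_num,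
      factorization_pow_mul_7920 (by norm_num) (by norm_num)]
  haveI hab : IsMulCommutative (P : Subgroup G) := IsPGroup.isMulCommutative_of_card_eq_prime_sq (p := 3) hP
  have hPN : (P : Subgroup G) ≤ N := Subgroup.le_normalizer
  -- no involution centralizes `P`, hence `P` is self-centralizing
  have hinv : ∀ t : G, orderOf t = 2 → ¬ (P : Subgroup G) ≤ Subgroup.centralizer ({t} : Set G) := by
    intro t ht hle
    have := Subgroup.card_dvd_of_le hle
    rw [hP, h48 t ht] at this
    norm_num at this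
  have hCP : Subgroup.centralizer ((P : Subgroup G) : Set G) = (P : Subgroup G) := by
    refine (Subgroup.eq_of_le_of_card_ge P.le_centralizer ?_).symm
    have hd : Nat.card (Subgroup.centralizer ((P : Subgroup G) : Set G)) ∣ 36 :=
      h36 ▸ Subgroup.card_dvd_of_le (Subgroup.centralizer_le_normalizer _)
    have h2 : ¬ 2 ∣ Nat.card (Subgroup.centralizer ((P : Subgroup G) : Set G)) := by
      intro h
      obtain ⟨t, ht⟩ := exists_prime_orderOf_dvd_card' 2 h
      exact hinv t (by rw [Subgroup.orderOf_coe, ht]) fun y hy =>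
        Subgroup.mem_centralizer_singleton_iff.mpr (Subgroup.mem_centralizer_iff.mp t.2 y hy)
    have h4 : Nat.card (Subgroup.centralizer ((P : Subgroup G) : Set G)) ∣ 9 :=
      ((Nat.prime_two.coprime_iff_not_dvd.mpr h2).symm.pow_right 2).dvd_of_dvd_mul_left
        (show _ ∣ 2 ^ 2 * 9 by norm_num; exact hd)
    rw [hP]
    exact Nat.le_of_dvd (by norm_num) h4
  -- a subgroup of order 4 of the normalizer
  obtain ⟨W₀, hW₀⟩ := Sylow.exists_subgroup_card_pow_prime (G := N) 2 (n := 2)
    (by rw [h36]; norm_num)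
  set W := W₀.map N.subtype with hWdef
  have hW : Nat.card W = 2 ^ 2 := by
    rw [Subgroup.card_map_of_injective (Subgroup.subtype_injective _), hW₀]
  have hWN : W ≤ N := Subgroup.map_subtype_le _
  haveI hWab : IsMulCommutative W := IsPGroup.isMulCommutative_of_card_eq_prime_sq (p := 2) hW
  have hWo : ∀ w ∈ W, orderOf w ∣ 4 := fun w hw => by
    have := Subgroup.orderOf_dvd_natCard W hw
    rwa [hW] at this
  have hWP : ∀ w ∈ W, (∀ y ∈ (P : Subgroup G), w * y = y * w) → w = 1 := by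
    intro w hw hc
    have h1 : w ∈ (P : Subgroup G) := hCP ▸ Subgroup.mem_centralizer_iff.mpr fun y hy => (hc y hy).symm
    have h2 : orderOf w ∣ 3 ^ 2 := hP ▸ Subgroup.orderOf_dvd_natCard _ h1
    exact orderOf_eq_one_iff.mp (Nat.eq_one_of_dvd_coprimes (by norm_num) (hWo w hw) h2)
  have hconjP : ∀ w ∈ N, ∀ y ∈ (P : Subgroup G), w * y * w⁻¹ ∈ (P : Subgroup G) := fun w hw y hy =>
    (Subgroup.mem_normalizer_iff.mp hw y).mp hy
  have hPc : ∀ a ∈ (P : Subgroup G), ∀ b ∈ (P : Subgroup G), a * b = b * a := fun a ha b hb =>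
    congrArg Subtype.val (hab.is_comm.comm ⟨a, ha⟩ ⟨b, hb⟩)
  have hP3 : ∀ y ∈ (P : Subgroup G), y * y = 1 → y = 1 := by
    intro y hy h
    have h2 : orderOf y ∣ 3 ^ 2 := hP ▸ Subgroup.orderOf_dvd_natCard _ hy
    exact orderOf_eq_one_iff.mp (Nat.eq_one_of_dvd_coprimes (by norm_num)
      (orderOf_dvd_of_pow_eq_one (show y ^ 2 = 1 by rw [pow_two, h])) h2)
  by_cases hfix : ∃ t ∈ W, orderOf t = 2 ∧ ∃ y ∈ (P : Subgroup G), y ≠ 1 ∧ t * y = y * t
  · -- a reflection
    obtain ⟨t, htW, ht, y₁, hy₁, hy₁1, hty⟩ := hfix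
    have ht2 : t * t = 1 := by rw [← pow_two, ← ht, pow_orderOf_eq_one]
    have hti : t⁻¹ = t := inv_eq_of_mul_eq_one_right ht2
    have ht1 : t ≠ 1 := fun h => by rw [h, orderOf_one] at ht; omega
    let Y₁ : Subgroup G := (P : Subgroup G) ⊓ Subgroup.centralizer ({t} : Set G)
    let Y₂ : Subgroup G :=
      { carrier := {y | y ∈ (P : Subgroup G) ∧ t * y * t⁻¹ = y⁻¹}
        one_mem' := ⟨one_mem _, by simp⟩
        mul_mem' := fun {a b} ha hb => ⟨mul_mem ha.1 hb.1, by
          rw [show t * (a * b) * t⁻¹ = (t * a * t⁻¹) * (t * b * t⁻¹) by group, ha.2, hb.2, mul_inv_rev,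
            hPc _ (inv_mem ha.1) _ (inv_mem hb.1)]⟩
        inv_mem' := fun {a} ha => ⟨inv_mem ha.1, by
          rw [show t * a⁻¹ * t⁻¹ = (t * a * t⁻¹)⁻¹ by group, ha.2]⟩ }
    have hY12 : ∀ y, y ∈ Y₁ → y ∈ Y₂ → y = 1 := by
      rintro y ⟨hyP, hyc⟩ ⟨-, hyi⟩
      rw [(Subgroup.mem_centralizer_singleton_iff.mp hyc).symm, mul_inv_cancel_right] at hyi
      exact hP3 y hyP (by nth_rewrite 2 [hyi]; exact mul_inv_cancel y)
    -- `W` preserves both parts
    have hWpres : ∀ w ∈ W, ∀ y, (y ∈ Y₁ → w * y * w⁻¹ ∈ Y₁) ∧ (y ∈ Y₂ → w * y * w⁻¹ ∈ Y₂) := by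
      intro w hw y
      have hwt : w * t = t * w := congrArg Subtype.val (hWab.is_comm.comm ⟨w, hw⟩ ⟨t, htW⟩)
      refine ⟨fun hy => ⟨hconjP w (hWN hw) y hy.1, ?_⟩, fun hy => ⟨hconjP w (hWN hw) y hy.1, ?_⟩⟩
      · have h1 := Subgroup.mem_centralizer_singleton_iff.mp hy.2
        refine Subgroup.mem_centralizer_singleton_iff.mpr ?_
        calc w * y * w⁻¹ * t = w * y * (w⁻¹ * (t * w)) * w⁻¹ := by group
          _ = w * (y * t) * w⁻¹ := by rw [← hwt, inv_mul_cancel_left]; group
          _ = w * (t * y) * w⁻¹ := by rw [h1]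
          _ = t * w * y * w⁻¹ := by rw [← mul_assoc, hwt]
          _ = t * (w * y * w⁻¹) := by group
      · calc t * (w * y * w⁻¹) * t⁻¹ = (t * w) * y * (t * w)⁻¹ := by group
          _ = w * (t * y * t⁻¹) * w⁻¹ := by rw [← hwt]; group
          _ = (w * y * w⁻¹)⁻¹ := by rw [hy.2]; group
    -- the orders of the two parts
    have hsplit : ∀ y ∈ (P : Subgroup G), ∃ a ∈ Y₁, ∃ b ∈ Y₂, a * b = y := by
      intro y hy
      have hy9 : y ^ 9 = 1 := by
        have h2 : orderOf y ∣ 3 ^ 2 := hP ▸ Subgroup.orderOf_dvd_natCard _ hy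
        exact orderOf_dvd_iff_pow_eq_one.mp h2
      set z := t * y * t⁻¹ with hz
      have hzP : z ∈ (P : Subgroup G) := hconjP t (hWN htW) y hy
      have hyz : Commute y z := hPc y hy z hzP
      have htz : t * z * t⁻¹ = y := by
        rw [hz, show t * (t * y * t⁻¹) * t⁻¹ = (t * t) * y * (t * t)⁻¹ by group, ht2]; simp
      have hyz' : Commute y z⁻¹ := hyz.inv_right
      refine ⟨(y * z) ^ 5, ⟨pow_mem (mul_mem hy hzP) _, Subgroup.mem_centralizer_singleton_iff.mpr ?_⟩,
        (y * z⁻¹) ^ 5, ⟨pow_mem (mul_mem hy (inv_mem hzP)) _, ?_⟩, ?_⟩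
      · have : t * (y * z) ^ 5 * t⁻¹ = (y * z) ^ 5 := by
          rw [← conj_pow, show t * (y * z) * t⁻¹ = (t * y * t⁻¹) * (t * z * t⁻¹) by group, ← hz, htz,
            hyz.eq]
        exact (mul_inv_eq_iff_eq_mul.mp this).symm
      · rw [← conj_pow, show t * (y * z⁻¹) * t⁻¹ = (t * y * t⁻¹) * (t * z * t⁻¹)⁻¹ by group, ← hz, htz,
          ← inv_pow, mul_inv_rev, inv_inv]
      · rw [hyz.mul_pow, hyz'.mul_pow, inv_pow,
          show y ^ 5 * z ^ 5 * (y ^ 5 * (z ^ 5)⁻¹) = y ^ 5 * (z ^ 5 * y ^ 5) * (z ^ 5)⁻¹ by group,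
          ← (hyz.pow_pow 5 5).eq, show y ^ 5 * (y ^ 5 * z ^ 5) * (z ^ 5)⁻¹ = y ^ 9 * y by group, hy9,
          one_mul]
    have hY1card : Nat.card Y₁ = 3 := by
      have hd : Nat.card Y₁ ∣ 3 ^ 2 := hP ▸ Subgroup.card_dvd_of_le inf_le_left
      obtain ⟨i, hi, he⟩ := (Nat.dvd_prime_pow (by norm_num : Nat.Prime 3)).mp hd
      have hmem : y₁ ∈ Y₁ := ⟨hy₁, Subgroup.mem_centralizer_singleton_iff.mpr hty.symm⟩
      have h1 : Nat.card Y₁ ≠ 1 := fun h => hy₁1 (by
        have := Subgroup.eq_bot_of_card_eq _ h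
        exact Subgroup.mem_bot.mp (this ▸ hmem))
      have h2 : i ≠ 2 := fun h => by
        subst h
        have := Subgroup.eq_of_le_of_card_ge (inf_le_left : Y₁ ≤ _) (hP ▸ he.ge)
        exact hinv t ht fun y hy => (this.ge hy).2
      rcases (by omega : i = 0 ∨ i = 1) with rfl | rfl
      · exact absurd he h1
      · exact he
    have hY2 : ∃ y₂ ∈ Y₂, y₂ ≠ 1 := by
      by_contra! hall
      refine hinv t ht fun y hy => ?_
      obtain ⟨a, ha, b, hb, rfl⟩ := hsplit y hy
      rw [hall b hb, mul_one]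
      exact ha.2
    obtain ⟨y₂, hy₂, hy₂1⟩ := hY2
    have hY2card : Nat.card Y₂ = 3 := by
      have hle : Y₂ ≤ (P : Subgroup G) := fun y hy => hy.1
      have hd : Nat.card Y₂ ∣ 3 ^ 2 := hP ▸ Subgroup.card_dvd_of_le hle
      obtain ⟨i, hi, he⟩ := (Nat.dvd_prime_pow (by norm_num : Nat.Prime 3)).mp hd
      have h1 : Nat.card Y₂ ≠ 1 := fun h => hy₂1 (by
        have := Subgroup.eq_bot_of_card_eq _ h
        exact Subgroup.mem_bot.mp (this ▸ hy₂))
      have h2 : i ≠ 2 := fun h => by
        subst h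
        have := Subgroup.eq_of_le_of_card_ge hle (hP ▸ he.ge)
        exact hy₁1 (hY12 y₁ ⟨hy₁, Subgroup.mem_centralizer_singleton_iff.mpr hty.symm⟩ (this.ge hy₁))
      rcases (by omega : i = 0 ∨ i = 1) with rfl | rfl
      · exact absurd he h1
      · exact he
    -- some `w` fixes `y₂` and inverts `y₁`
    have hcyc : ∀ (Y : Subgroup G) (z : G), Nat.card Y = 3 → z ∈ Y → z ≠ 1 → ∀ u ∈ Y, u = 1 ∨ u = z ∨ u = z⁻¹ := by
      intro Y z hY hz hz1 u hu
      have hzo : orderOf z = 3 :=
        ((Nat.dvd_prime (by norm_num)).mp (hY ▸ Subgroup.orderOf_dvd_natCard Y hz)).resolve_left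
          fun h => hz1 (orderOf_eq_one_iff.mp h)
      have : Subgroup.zpowers z = Y := Subgroup.eq_of_le_of_card_ge (Subgroup.zpowers_le.mpr hz)
        (by rw [Nat.card_zpowers, hzo, hY])
      rw [← this, Subgroup.mem_zpowers_iff] at hu
      obtain ⟨j, rfl⟩ := hu
      rw [← zpow_mod_orderOf, hzo]
      have hj : j % 3 = 0 ∨ j % 3 = 1 ∨ j % 3 = 2 := by omega
      rcases hj with e | e | e <;> push_cast <;> rw [e]
      · exact Or.inl (zpow_zero z)
      · exact Or.inr (Or.inl (zpow_one z))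
      · refine Or.inr (Or.inr ?_)
        rw [eq_inv_iff_mul_eq_one, show z ^ (2 : ℤ) * z = z ^ 3 by group, ← hzo, pow_orderOf_eq_one]
    have hy₁Y : y₁ ∈ Y₁ := ⟨hy₁, Subgroup.mem_centralizer_singleton_iff.mpr hty.symm⟩
    have hsign : ∀ w ∈ W, (w * y₁ * w⁻¹ = y₁ ∨ w * y₁ * w⁻¹ = y₁⁻¹) ∧
        (w * y₂ * w⁻¹ = y₂ ∨ w * y₂ * w⁻¹ = y₂⁻¹) := fun w hw => by
      refine ⟨(hcyc Y₁ y₁ hY1card hy₁Y hy₁1 _ ((hWpres w hw y₁).1 hy₁Y)).resolve_left ?_,
        (hcyc Y₂ y₂ hY2card hy₂ hy₂1 _ ((hWpres w hw y₂).2 hy₂)).resolve_left ?_⟩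
      · rw [conj_eq_one_iff]; exact hy₁1
      · rw [conj_eq_one_iff]; exact hy₂1
    classical
    let f : W → Bool × Bool := fun w =>
      (decide ((w : G) * y₁ * (w : G)⁻¹ = y₁), decide ((w : G) * y₂ * (w : G)⁻¹ = y₂))
    have hfinj : Function.Injective f := by
      intro w w' he
      simp only [f, Prod.mk.injEq, decide_eq_decide] at he
      have e1 : (w : G) * y₁ * (w : G)⁻¹ = (w' : G) * y₁ * (w' : G)⁻¹ := by
        rcases (hsign w w.2).1 with a | a <;> rcases (hsign w' w'.2).1 with b | b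
        · rw [a, b]
        · rw [a, he.1.mp a]
        · rw [he.1.mpr b, b]
        · rw [a, b]
      have e2 : (w : G) * y₂ * (w : G)⁻¹ = (w' : G) * y₂ * (w' : G)⁻¹ := by
        rcases (hsign w w.2).2 with a | a <;> rcases (hsign w' w'.2).2 with b | b
        · rw [a, b]
        · rw [a, he.2.mp a]
        · rw [he.2.mpr b, b]
        · rw [a, b]
      refine Subtype.ext (inv_mul_eq_one.mp (hWP ((w' : G)⁻¹ * w) (mul_mem (inv_mem w'.2) w.2) fun y hy => ?_)).symm
      have hfixgen : ∀ z, z ∈ Y₁ ∨ z ∈ Y₂ → (w' : G)⁻¹ * w * z = z * ((w' : G)⁻¹ * w) := by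
        have hone : ∀ z, (w : G) * z * (w : G)⁻¹ = (w' : G) * z * (w' : G)⁻¹ →
            (w' : G)⁻¹ * w * z = z * ((w' : G)⁻¹ * w) := by
          intro z hz
          calc (w' : G)⁻¹ * w * z = (w' : G)⁻¹ * ((w : G) * z * (w : G)⁻¹) * w := by group
            _ = z * ((w' : G)⁻¹ * w) := by rw [hz]; group
        have hinv' : ∀ z, (w' : G)⁻¹ * w * z = z * ((w' : G)⁻¹ * w) →
            (w' : G)⁻¹ * w * z⁻¹ = z⁻¹ * ((w' : G)⁻¹ * w) := fun z hz =>
          (show Commute ((w' : G)⁻¹ * w) z from hz).inv_right.eq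
        rintro z (hz | hz)
        · rcases hcyc Y₁ y₁ hY1card hy₁Y hy₁1 z hz with rfl | rfl | rfl
          · simp
          · exact hone _ e1
          · exact hinv' _ (hone _ e1)
        · rcases hcyc Y₂ y₂ hY2card hy₂ hy₂1 z hz with rfl | rfl | rfl
          · simp
          · exact hone _ e2
          · exact hinv' _ (hone _ e2)
      obtain ⟨a, ha, b, hb, rfl⟩ := hsplit y hy
      rw [← mul_assoc, hfixgen a (Or.inl ha), mul_assoc, hfixgen b (Or.inr hb), ← mul_assoc]
    have hbij : Function.Bijective f :=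
      (Fintype.bijective_iff_injective_and_card f).mpr ⟨hfinj, by
        rw [← Nat.card_eq_fintype_card, hW]; rfl⟩
    obtain ⟨w, hw⟩ := hbij.2 (false, true)
    simp only [f, Prod.mk.injEq, decide_eq_false_iff_not, decide_eq_true_eq] at hw
    have hw1 : (w : G) ≠ 1 := fun h => hw.1 (by rw [h]; simp)
    have hw2 : (w : G) * w = 1 := by
      refine hWP _ (mul_mem w.2 w.2) fun y hy => ?_
      have hsq : ∀ z, ((w : G) * z * (w : G)⁻¹ = z ∨ (w : G) * z * (w : G)⁻¹ = z⁻¹) →
          (w : G) * w * z = z * ((w : G) * w) := by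
        intro z hz
        have : (w : G) * ((w : G) * z * (w : G)⁻¹) * (w : G)⁻¹ = z := by
          rcases hz with e | e <;> rw [e]
          · exact e
          · rw [show (w : G) * z⁻¹ * (w : G)⁻¹ = ((w : G) * z * (w : G)⁻¹)⁻¹ by group, e, inv_inv]
        calc (w : G) * w * z = ((w : G) * ((w : G) * z * (w : G)⁻¹) * (w : G)⁻¹) * (w * w) := by group
          _ = z * ((w : G) * w) := by rw [this]
      have hgen : ∀ z, z ∈ Y₁ ∨ z ∈ Y₂ → (w : G) * w * z = z * ((w : G) * w) := by
        rintro z (hz | hz)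
        · rcases hcyc Y₁ y₁ hY1card hy₁Y hy₁1 z hz with rfl | rfl | rfl
          · simp
          · exact hsq _ (hsign w w.2).1
          · exact (show Commute _ y₁ from hsq _ (hsign w w.2).1).inv_right.eq
        · rcases hcyc Y₂ y₂ hY2card hy₂ hy₂1 z hz with rfl | rfl | rfl
          · simp
          · exact hsq _ (hsign w w.2).2
          · exact (show Commute _ y₂ from hsq _ (hsign w w.2).2).inv_right.eq
      obtain ⟨a, ha, b, hb, rfl⟩ := hsplit y hy
      rw [← mul_assoc, hgen a (Or.inl ha), mul_assoc, hgen b (Or.inr hb), ← mul_assoc]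
    have hwo : orderOf (w : G) = 2 := orderOf_eq_prime (by rw [pow_two, hw2]) hw1
    -- both parts are Sylow subgroups of involution centralizers
    obtain ⟨g, hg⟩ := isConj_iff.mp (hconj t (w : G) ht hwo)
    set C := Subgroup.centralizer ({(w : G)} : Set G)
    have hy2C : y₂ ∈ C := Subgroup.mem_centralizer_singleton_iff.mpr (mul_inv_eq_iff_eq_mul.mp hw.2).symm
    have hy1C : g * y₁ * g⁻¹ ∈ C := Subgroup.mem_centralizer_singleton_iff.mpr (by
      rw [← hg, show g * y₁ * g⁻¹ * (g * t * g⁻¹) = g * (y₁ * t) * g⁻¹ by group, ← hty]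
      group)
    have hord : ∀ (Y : Subgroup G) (z : G), Nat.card Y = 3 → z ∈ Y → z ≠ 1 → orderOf z = 3 := fun Y z hY hz hz1 =>
      ((Nat.dvd_prime (by norm_num)).mp (hY ▸ Subgroup.orderOf_dvd_natCard Y hz)).resolve_left
        fun h => hz1 (orderOf_eq_one_iff.mp h)
    have o1 : orderOf (g * y₁ * g⁻¹) = 3 :=
      (MulEquiv.orderOf_eq (MulAut.conj g) y₁).trans (hord Y₁ y₁ hY1card hy₁Y hy₁1)
    have o2 : orderOf y₂ = 3 := hord Y₂ y₂ hY2card hy₂ hy₂1
    have hCcard : (Nat.card C).factorization 3 = 1 := by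
      rw [h48 _ hwo, show (48 : ℕ) = 3 ^ 1 * 16 by norm_num,
        factorization_pow_mul_7920 (by norm_num) (by norm_num)]
    have hs : ∀ z : G, ∀ hz : z ∈ C, orderOf z = 3 →
        Nat.card (Subgroup.zpowers (⟨z, hz⟩ : C)) = 3 ^ (Nat.card C).factorization 3 := fun z hz ho => by
      rw [Nat.card_zpowers, Subgroup.orderOf_mk, ho, hCcard, pow_one]
    obtain ⟨c, hc⟩ := MulAction.exists_smul_eq C (Sylow.ofCard _ (hs _ hy1C o1)) (Sylow.ofCard _ (hs _ hy2C o2))
    have hh : ((c : G) * g) * y₁ * ((c : G) * g)⁻¹ ∈ Y₂ := by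
      have hmem : c * ⟨g * y₁ * g⁻¹, hy1C⟩ * c⁻¹ ∈
          ((Sylow.ofCard _ (hs _ hy2C o2) : Sylow 3 C) : Subgroup C) := by
        rw [← hc, Sylow.coe_subgroup_smul]
        exact Subgroup.smul_mem_pointwise_smul _ (MulAut.conj c) _ (Subgroup.mem_zpowers _)
      rw [Sylow.coe_ofCard, Subgroup.mem_zpowers_iff] at hmem
      obtain ⟨j, hj⟩ := hmem
      have hj' : y₂ ^ j = (c : G) * (g * y₁ * g⁻¹) * (c : G)⁻¹ := congrArg Subtype.val hj
      rw [show (c : G) * g * y₁ * ((c : G) * g)⁻¹ = y₂ ^ j by rw [hj']; group]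
      exact zpow_mem hy₂ j
    obtain ⟨n, hn', hne⟩ := Sylow.conj_eq_normalizer_conj_of_mem P y₁ ((c : G) * g)⁻¹ hy₁
      (by rw [inv_inv]; exact hh.1)
    rw [inv_inv] at hne
    -- the normalizer of `P` preserves `Y₁`
    have hPW : ∀ n ∈ N, ∃ a ∈ (P : Subgroup G), ∃ b ∈ W, a * b = n := by
      have hdisj : Disjoint ((P : Subgroup G).subgroupOf N) W₀ := by
        rw [disjoint_iff, ← Subgroup.card_eq_one]
        refine Nat.eq_one_of_dvd_coprimes (show Nat.Coprime (3 ^ 2) (2 ^ 2) by norm_num) ?_ ?_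
        · exact hP ▸ (Subgroup.card_dvd_of_le inf_le_left).trans
            (Nat.card_congr (Subgroup.subgroupOfEquivOfLe hPN).toEquiv).dvd
        · exact hW₀ ▸ Subgroup.card_dvd_of_le inf_le_right
      have hcompl : Subgroup.IsComplement' ((P : Subgroup G).subgroupOf N) W₀ :=
        Subgroup.isComplement'_of_card_mul_and_disjoint (by
          rw [Nat.card_congr (Subgroup.subgroupOfEquivOfLe hPN).toEquiv, hP, hW₀, h36]; norm_num) hdisj
      intro n hn
      obtain ⟨⟨⟨a, ha⟩, ⟨b, hb⟩⟩, he⟩ := hcompl.surjective (⟨n, hn⟩ : N)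
      exact ⟨a, ha, b, ⟨b, hb, rfl⟩, congrArg Subtype.val he⟩
    have hY1mem : n⁻¹ * y₁ * n ∈ Y₁ := by
      obtain ⟨a, ha, b, hb, he⟩ := hPW n⁻¹ (inv_mem hn')
      have h1 := (hWpres b hb y₁).1 hy₁Y
      have h2 : a * (b * y₁ * b⁻¹) * a⁻¹ = b * y₁ * b⁻¹ := by
        rw [hPc a ha _ h1.1, mul_inv_cancel_right]
      have hn2 : n = (a * b)⁻¹ := by rw [he, inv_inv]
      rw [show n⁻¹ * y₁ * n = a * (b * y₁ * b⁻¹) * a⁻¹ by rw [hn2]; group, h2]
      exact h1
    rw [← hne] at hY1mem
    exact hy₁1 (conj_eq_one_iff.mp (hY12 _ hY1mem hh))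
  · -- fixed-point-free
    push Not at hfix
    have hfpf : ∀ w ∈ W, ∀ y ∈ (P : Subgroup G), y ≠ 1 → w * y = y * w → w = 1 := by
      intro w hw y hy hy1 hc
      by_contra hw1
      by_cases h2 : orderOf w = 2
      · exact hfix w hw h2 y hy hy1 hc
      · have h4 : orderOf w = 4 :=
          eq_four_of_dvd_7920 (hWo w hw) (fun h => hw1 (orderOf_eq_one_iff.mp h)) h2
        refine hfix (w ^ 2) (pow_mem hw 2) ?_ y hy hy1 ((show Commute w y from hc).pow_left 2).eq
        rw [orderOf_pow' w (by norm_num), h4]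
        rfl
    obtain ⟨z₀, hz₀⟩ := exists_prime_orderOf_dvd_card' (G := W) 2 (by rw [hW]; norm_num)
    set z := (z₀ : G)
    have hzW : z ∈ W := z₀.2
    have hzo : orderOf z = 2 := by rw [Subgroup.orderOf_coe, hz₀]
    have hz2 : z * z = 1 := by rw [← pow_two, ← hzo, pow_orderOf_eq_one]
    have hz1 : z ≠ 1 := fun h => by rw [h, orderOf_one] at hzo; omega
    have hzinv : ∀ y ∈ (P : Subgroup G), z * y * z⁻¹ = y⁻¹ := by
      intro y hy
      have hzy := hconjP z (hWN hzW) y hy
      have hprod : (y * (z * y * z⁻¹)) = 1 := by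
        by_contra hne
        refine hz1 (hfpf z hzW _ (mul_mem hy hzy) hne ?_)
        have hzi : z⁻¹ = z := inv_eq_of_mul_eq_one_right hz2
        calc z * (y * (z * y * z⁻¹)) = (z * y * z⁻¹) * (z * z * y * z⁻¹) := by group
          _ = (z * y * z⁻¹) * y * z := by rw [hz2, hzi]; group
          _ = y * (z * y * z⁻¹) * z := by rw [hPc _ hzy y hy]
      exact eq_inv_of_mul_eq_one_right hprod
    -- two Sylow subgroups meeting in a subgroup of order 3
    have hs : Nat.card (Sylow 3 G) = 220 := by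
      have hidx : Nat.card N * Nat.card (Sylow 3 G) = 7920 := by
        rw [Sylow.card_eq_index_normalizer P]
        exact (Subgroup.card_mul_index N).trans hn
      rw [h36] at hidx
      omega
    obtain ⟨Q, hQP, hQY⟩ : ∃ Q : Sylow 3 G, Q ≠ P ∧ (P : Subgroup G) ⊓ (Q : Subgroup G) ≠ ⊥ := by
      by_contra! hall
      have := card_sylow_modEq_card_of_ti P hall
      rw [hs, hP] at this
      exact absurd this (by decide)
    set Y := (P : Subgroup G) ⊓ (Q : Subgroup G) with hYdef
    have hQc : Nat.card (Q : Subgroup G) = 3 ^ 2 := by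
      rw [Q.card_eq_multiplicity, ← P.card_eq_multiplicity, hP]
    haveI habQ : IsMulCommutative (Q : Subgroup G) := IsPGroup.isMulCommutative_of_card_eq_prime_sq (p := 3) hQc
    have hYcard : Nat.card Y = 3 ^ 1 := by
      have hd : Nat.card Y ∣ 3 ^ 2 := hP ▸ Subgroup.card_dvd_of_le inf_le_left
      obtain ⟨i, hi, he⟩ := (Nat.dvd_prime_pow (by norm_num : Nat.Prime 3)).mp hd
      have h1 : i ≠ 0 := fun h => hQY (Subgroup.eq_bot_of_card_eq _ (by rw [he, h, pow_zero]))
      have h2 : i ≠ 2 := fun h => by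
        subst h
        have e1 := Subgroup.eq_of_le_of_card_ge (inf_le_left : Y ≤ _) (hP ▸ he.ge)
        have e2 := Subgroup.eq_of_le_of_card_ge (inf_le_right : Y ≤ _) (hQc ▸ he.ge)
        exact hQP (Sylow.ext (e2.symm.trans e1))
      rw [he, show i = 1 by omega]
    set M := Subgroup.normalizer (Y : Set G) with hM
    have hmemM : ∀ u : G, (∀ y ∈ Y, u * y * u⁻¹ ∈ Y) → u ∈ M := by
      intro u hu
      have hfin : (Y : Set G).Finite := Set.toFinite _
      refine Subgroup.mem_normalizer_iff.mpr fun y => ⟨hu y, fun h => ?_⟩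
      have hsurj : Set.SurjOn (fun y => u * y * u⁻¹) (Y : Set G) (Y : Set G) := by
        intro b hb
        have := Finite.surjective_of_injective (f := fun a : Y => (⟨u * a * u⁻¹, hu a a.2⟩ : Y))
          fun a b hab => Subtype.ext (mul_left_cancel (mul_right_cancel (congrArg Subtype.val hab)))
        obtain ⟨a, ha⟩ := this ⟨b, hb⟩
        exact ⟨a, a.2, congrArg Subtype.val ha⟩
      obtain ⟨a, ha, hae⟩ := hsurj h
      have : a = y := mul_left_cancel (mul_right_cancel hae)
      exact this ▸ ha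
    have hPM : (P : Subgroup G) ≤ M := fun u hu => hmemM u fun y hy => by
      rw [hPc u hu y hy.1, mul_inv_cancel_right]; exact hy
    have hQM : (Q : Subgroup G) ≤ M := fun u hu => hmemM u fun y hy => by
      rw [show u * y = y * u from congrArg Subtype.val (habQ.is_comm.comm ⟨u, hu⟩ ⟨y, hy.2⟩),
        mul_inv_cancel_right]
      exact hy
    have hzM : z ∈ M := hmemM z fun y hy => by rw [hzinv y hy.1]; exact inv_mem hy
    have hMN : Nat.card ↥(M ⊓ N) = 18 := by
      have h9 : 3 ^ 2 ∣ Nat.card ↥(M ⊓ N) := hP ▸ Subgroup.card_dvd_of_le (le_inf hPM hPN)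
      have h2 : 2 ∣ Nat.card ↥(M ⊓ N) := hzo ▸ Subgroup.orderOf_dvd_natCard _ ⟨hzM, hWN hzW⟩
      have h18 : 18 ∣ Nat.card ↥(M ⊓ N) := Nat.Coprime.mul_dvd_of_dvd_of_dvd (by norm_num : Nat.Coprime 9 2) h9 h2
      have hd : Nat.card ↥(M ⊓ N) ∣ 36 := h36 ▸ Subgroup.card_dvd_of_le inf_le_right
      have hne : Nat.card ↥(M ⊓ N) ≠ 36 := by
        intro h
        have hall := Subgroup.eq_of_le_of_card_ge (inf_le_right : M ⊓ N ≤ N) (by rw [h, h36])
        obtain ⟨y, hy⟩ := exists_prime_orderOf_dvd_card' (G := Y) 3 (by rw [hYcard]; norm_num)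
        have hyo : orderOf (y : G) = 3 := by rw [Subgroup.orderOf_coe, hy]
        have hy1 : (y : G) ≠ 1 := fun h => by rw [h, orderOf_one] at hyo; omega
        have hz' : ∀ w ∈ W, w = 1 ∨ w = z := by
          intro w hw
          have hwM : w ∈ M := (hall.ge (hWN hw)).1
          have hwy : w * y * w⁻¹ ∈ Y := (Subgroup.mem_normalizer_iff.mp hwM y).mp y.2
          have hzp : Subgroup.zpowers (y : G) = Y := Subgroup.eq_of_le_of_card_ge
            (Subgroup.zpowers_le.mpr y.2) (by rw [Nat.card_zpowers, hyo, hYcard]; rfl)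
          obtain ⟨j, hj⟩ := Subgroup.mem_zpowers_iff.mp (hzp.ge hwy)
          rw [← zpow_mod_orderOf, hyo] at hj
          have hj' : j % 3 = 0 ∨ j % 3 = 1 ∨ j % 3 = 2 := by omega
          rcases hj' with e | e | e <;> push_cast at hj <;> rw [e] at hj
          · exact absurd (conj_eq_one_iff.mp (hj.symm.trans (zpow_zero _))) hy1
          · left
            refine hfpf w hw y y.2.1 hy1 ?_
            rw [zpow_one] at hj
            exact mul_inv_eq_iff_eq_mul.mp hj.symm
          · right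
            have hy3 : ((y : G)) ^ (2 : ℤ) = (y : G)⁻¹ := by
              rw [eq_inv_iff_mul_eq_one, show (y : G) ^ (2 : ℤ) * y = (y : G) ^ 3 by group, ← hyo,
                pow_orderOf_eq_one]
            rw [hy3] at hj
            have hzw : z * w = 1 := by
              refine hfpf _ (mul_mem hzW hw) y y.2.1 hy1 ?_
              have h1 : z * w * y * (z * w)⁻¹ = y := by
                rw [show z * w * y * (z * w)⁻¹ = z * (w * y * w⁻¹) * z⁻¹ by group, ← hj,
                  hzinv _ (inv_mem y.2.1), inv_inv]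
              exact mul_inv_eq_iff_eq_mul.mp h1
            calc w = z * (z * w) := by rw [← mul_assoc, hz2, one_mul]
              _ = z := by rw [hzw, mul_one]
        classical
        have := Nat.card_le_card_of_injective (fun w : W => decide ((w : G) = z)) (fun a b hab => by
          simp only [decide_eq_decide] at hab
          rcases hz' a a.2 with e | e <;> rcases hz' b b.2 with e' | e'
          · exact Subtype.ext (e.trans e'.symm)
          · exact absurd (hab.mpr e') (by rw [e]; exact hz1.symm)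
          · exact absurd (hab.mp e) (by rw [e']; exact hz1.symm)
          · exact Subtype.ext (e.trans e'.symm))
        rw [hW] at this
        simp at this
      obtain ⟨k, hk⟩ := h18
      have := Nat.le_of_dvd (by norm_num) hd
      have hpos := Nat.card_pos (α := ↥(M ⊓ N))
      rcases (show k = 0 ∨ k = 1 ∨ k = 2 by omega) with rfl | rfl | rfl <;> omega
    have hMd : Nat.card M ∣ 144 := normalizer_dvd_144 hn le_rfl (by norm_num) hYcard
    -- the number of Sylow 3-subgroups of `M`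
    set PM : Sylow 3 M := P.subtype hPM
    have hns : Nat.card (Sylow 3 M) * 18 = Nat.card M := by
      rw [Sylow.card_eq_index_normalizer PM, mul_comm, ← hMN]
      have e : Subgroup.normalizer (PM : Set M) = N.subgroupOf M := by
        show Subgroup.normalizer (((P : Subgroup G).subgroupOf M : Subgroup M) : Set M) = _
        exact (Subgroup.subgroupOf_normalizer_eq hPM).symm
      rw [e, ← Nat.card_congr (Subgroup.subgroupOfEquivOfLe (inf_le_left : M ⊓ N ≤ M)).toEquiv,
        Subgroup.inf_subgroupOf_left, Subgroup.card_mul_index]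
    have hns1 : Nat.card (Sylow 3 M) ≠ 1 := by
      intro h1
      haveI := (Nat.card_eq_one_iff_unique.mp h1).1
      have := congrArg (fun S : Sylow 3 M => (S : Subgroup M)) (Subsingleton.elim PM (Q.subtype hQM))
      simp only [PM, Sylow.coe_subtype, Subgroup.subgroupOf_inj, inf_eq_left.mpr hPM, inf_eq_left.mpr hQM] at this
      exact hQP (Sylow.ext this.symm)
    have hmod : Nat.card (Sylow 3 M) % 3 = 1 := card_sylow_modEq_one 3 M
    have hM72 : Nat.card M = 72 := arith_ns_7920 hns hMd hns1 hmod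
    -- an involution in the centralizer of `Y` central in a Sylow 2-subgroup of `M`
    obtain ⟨S⟩ := (inferInstance : Nonempty (Sylow 2 M))
    have hScard : Nat.card (S : Subgroup M) = 8 := by
      rw [S.card_eq_multiplicity, hM72, show (72 : ℕ) = 2 ^ 3 * 9 by norm_num,
        factorization_pow_mul_7920 Nat.prime_two (by norm_num)]
      rfl
    set CY := (Subgroup.centralizer (Y : Set G)).subgroupOf M with hCY
    haveI : CY.Normal := by
      refine ⟨fun u hu v => ?_⟩
      rw [Subgroup.mem_subgroupOf, Subgroup.mem_centralizer_iff] at hu ⊢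
      intro y hy
      have h1 := hu _ ((Subgroup.mem_normalizer_iff.mp (inv_mem v.2) y).mp hy)
      push_cast at h1 ⊢
      rw [inv_inv] at h1
      calc y * ((v : G) * u * (v : G)⁻¹) = (v : G) * ((v : G)⁻¹ * y * v * u) * (v : G)⁻¹ := by group
        _ = (v : G) * (u * ((v : G)⁻¹ * y * v)) * (v : G)⁻¹ := by rw [h1]
        _ = (v : G) * u * (v : G)⁻¹ * y := by group
    have hSC : ((S : Subgroup M) ⊓ CY).subgroupOf (S : Subgroup M) ≠ ⊥ := by
      rw [Ne, Subgroup.subgroupOf_eq_bot, disjoint_iff, inf_assoc, inf_comm CY, ← inf_assoc, inf_idem]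
      intro hbot
      obtain ⟨y, hy⟩ := exists_prime_orderOf_dvd_card' (G := Y) 3 (by rw [hYcard]; norm_num)
      -- more than two elements of `S` cannot act faithfully on a group of order 3
      haveI : Fintype (S : Subgroup M) := Fintype.ofFinite _
      classical
      have := Nat.card_le_card_of_injective (fun s : (S : Subgroup M) =>
        (⟨((s : M) : G) * (y : G) * ((s : M) : G)⁻¹, (Subgroup.mem_normalizer_iff.mp (s : M).2 y).mp y.2⟩ : Y))
        (fun a b hab => by
          have hab' : ((a : M) : G) * (y : G) * ((a : M) : G)⁻¹ = ((b : M) : G) * (y : G) * ((b : M) : G)⁻¹ :=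
            congrArg Subtype.val hab
          have hmem : (b : M)⁻¹ * (a : M) ∈ (S : Subgroup M) ⊓ CY := by
            refine ⟨S.1.mul_mem (S.1.inv_mem b.2) a.2, ?_⟩
            show _ ∈ CY
            rw [hCY, Subgroup.mem_subgroupOf, Subgroup.mem_centralizer_iff]
            have hzp : Subgroup.zpowers (y : G) = Y := Subgroup.eq_of_le_of_card_ge
              (Subgroup.zpowers_le.mpr y.2) (by rw [Nat.card_zpowers, Subgroup.orderOf_coe, hy, hYcard]; rfl)
            intro v hv
            rw [← hzp] at hv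
            obtain ⟨j, rfl⟩ := Subgroup.mem_zpowers_iff.mp hv
            have hc : Commute (y : G) (((b : M) : G)⁻¹ * ((a : M) : G)) := by
              show (y : G) * (((b : M) : G)⁻¹ * ((a : M) : G)) = ((b : M) : G)⁻¹ * ((a : M) : G) * (y : G)
              calc (y : G) * (((b : M) : G)⁻¹ * ((a : M) : G))
                  = ((b : M) : G)⁻¹ * (((b : M) : G) * (y : G) * ((b : M) : G)⁻¹) * ((a : M) : G) := by group
                _ = _ := by rw [← hab']; group
            push_cast
            exact (hc.zpow_left j).eq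
          rw [hbot, Subgroup.mem_bot, inv_mul_eq_one] at hmem
          exact Subtype.ext hmem.symm)
      rw [hScard, hYcard] at this
      norm_num at this
    haveI := S.2.isNilpotent
    haveI : (((S : Subgroup M) ⊓ CY).subgroupOf (S : Subgroup M)).Normal := by
      rw [Subgroup.inf_subgroupOf_left]; infer_instance
    obtain ⟨⟨c, hc⟩, hc1⟩ := Subgroup.ne_bot_iff_exists_ne_one.mp (CfsgLib.Critical.inf_center_ne_bot _ hSC)
    obtain ⟨i, -, hi⟩ := (Nat.dvd_prime_pow Nat.prime_two).mp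
      (show orderOf c ∣ 2 ^ 3 by rw [show (2 : ℕ) ^ 3 = Nat.card (S : Subgroup M) from hScard.symm]; exact orderOf_dvd_natCard c)
    have hi0 : i ≠ 0 := fun h => hc1 (Subtype.ext (orderOf_eq_one_iff.mp (by rw [hi, h, pow_zero])))
    set u' : (S : Subgroup M) := c ^ (2 ^ (i - 1)) with hu'
    have hu'o : orderOf u' = 2 := by
      rw [hu', orderOf_pow_of_dvd (pow_ne_zero _ (by norm_num)) (hi ▸ pow_dvd_pow 2 (Nat.sub_le i 1)), hi,
        Nat.pow_div (Nat.sub_le i 1) (by norm_num), show i - (i - 1) = 1 by omega, pow_one]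
    have hu'C : u' ∈ ((S : Subgroup M) ⊓ CY).subgroupOf (S : Subgroup M) ⊓ Subgroup.center (S : Subgroup M) :=
      Subgroup.pow_mem _ hc _
    set u : G := ((u' : M) : G)
    have huo : orderOf u = 2 := by rw [Subgroup.orderOf_coe, Subgroup.orderOf_coe, hu'o]
    set C := Subgroup.centralizer ({u} : Set G) with hC
    have hYC : Y ≤ C := fun y hy => Subgroup.mem_centralizer_singleton_iff.mpr
      (Subgroup.mem_centralizer_iff.mp hu'C.1.2 y hy)
    have hCM : Nat.card ↥(M ⊓ C) = 24 := by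
      have h8 : 8 ∣ Nat.card ↥(M ⊓ C) := by
        have hle : (S : Subgroup M).map M.subtype ≤ M ⊓ C := by
          rintro _ ⟨s, hs, rfl⟩
          exact ⟨s.2, Subgroup.mem_centralizer_singleton_iff.mpr
            (congrArg (fun x : (S : Subgroup M) => ((x : M) : G)) (Subgroup.mem_center_iff.mp hu'C.2 ⟨s, hs⟩))⟩
        have := Subgroup.card_dvd_of_le hle
        rwa [Subgroup.card_map_of_injective (Subgroup.subtype_injective _), hScard] at this
      have h3 : 3 ∣ Nat.card ↥(M ⊓ C) := by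
        have := Subgroup.card_dvd_of_le (le_inf (Subgroup.le_normalizer) hYC : Y ≤ M ⊓ C)
        rwa [hYcard, pow_one] at this
      have h24 : 24 ∣ Nat.card ↥(M ⊓ C) := Nat.Coprime.mul_dvd_of_dvd_of_dvd (by norm_num : Nat.Coprime 8 3) h8 h3
      have hd1 : Nat.card ↥(M ⊓ C) ∣ 72 := hM72 ▸ Subgroup.card_dvd_of_le inf_le_left
      have hd2 : Nat.card ↥(M ⊓ C) ∣ 48 := h48 u huo ▸ Subgroup.card_dvd_of_le inf_le_right
      exact Nat.dvd_antisymm ((Nat.dvd_gcd hd1 hd2).trans (by norm_num)) h24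
    have hYs : Nat.card (Y.subgroupOf C) = 3 ^ (Nat.card C).factorization 3 := by
      rw [Nat.card_congr (Subgroup.subgroupOfEquivOfLe hYC).toEquiv, hYcard, h48 u huo,
        show (48 : ℕ) = 3 ^ 1 * 16 by norm_num,
        factorization_pow_mul_7920 (by norm_num) (by norm_num)]
    let YC : Sylow 3 C := Sylow.ofCard (Y.subgroupOf C) hYs
    have hfin : Nat.card (Sylow 3 C) * 24 = 48 := by
      rw [Sylow.card_eq_index_normalizer YC, mul_comm, ← hCM, ← h48 u huo]
      have e : Subgroup.normalizer (YC : Set C) = M.subgroupOf C := by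
        show Subgroup.normalizer ((Y.subgroupOf C : Subgroup C) : Set C) = _
        exact (Subgroup.subgroupOf_normalizer_eq hYC).symm
      rw [e, ← Nat.card_congr (Subgroup.subgroupOfEquivOfLe (inf_le_right : M ⊓ C ≤ C)).toEquiv,
        Subgroup.inf_subgroupOf_right, Subgroup.card_mul_index]
    have hmodC : Nat.card (Sylow 3 C) % 3 = 1 := card_sylow_modEq_one 3 C
    omega

/-- **Sylow 3-normalizers have order 144.** -/
theorem normalizer_7920 (hn : Nat.card G = 7920) (P : Sylow 3 G) :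
    Nat.card (Subgroup.normalizer ((P : Subgroup G) : Set G)) = 144 := by
  haveI : Fact (Nat.Prime 3) := ⟨by norm_num⟩
  have hcomm : ¬ IsMulCommutative G := SmallOrder.not_comm_of_not_prime (by rw [hn]; norm_num)
  set N := Subgroup.normalizer ((P : Subgroup G) : Set G) with hN
  have hP : Nat.card (P : Subgroup G) = 3 ^ 2 := by
    rw [P.card_eq_multiplicity, hn, show (7920 : ℕ) = 3 ^ 2 * 880 by norm_num,
      factorization_pow_mul_7920 (by norm_num) (by norm_num)]
  haveI : IsMulCommutative (P : Subgroup G) := IsPGroup.isMulCommutative_of_card_eq_prime_sq (p := 3) hP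
  have hd : Nat.card N ∣ 144 := normalizer_dvd_144 hn (by norm_num) le_rfl hP
  have h9 : 3 ^ 2 ∣ Nat.card N := hP ▸ Subgroup.card_dvd_of_le Subgroup.le_normalizer
  have hidx : Nat.card N * Nat.card (Sylow 3 G) = 7920 := by
    rw [Sylow.card_eq_index_normalizer P]
    exact (Subgroup.card_mul_index N).trans hn
  have hmod : Nat.card (Sylow 3 G) % 3 = 1 := card_sylow_modEq_one 3 G
  obtain ⟨k, hk⟩ := h9
  have hk16 : k ∣ 16 := by
    have h : 3 ^ 2 * k ∣ 3 ^ 2 * 16 := by rw [← hk]; exact hd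
    exact Nat.dvd_of_mul_dvd_mul_left (by norm_num) h
  have hcases : k = 1 ∨ k = 2 ∨ k = 4 ∨ k = 8 ∨ k = 16 := by
    obtain ⟨i, hi, rfl⟩ := (Nat.dvd_prime_pow Nat.prime_two).mp (show k ∣ 2 ^ 4 from hk16)
    interval_cases i <;> simp
  rcases hcases with rfl | rfl | rfl | rfl | rfl
  · exfalso
    refine SmallOrder.not_normalizer_le_centralizer hcomm
      (by rw [hn]; norm_num) P ?_
    rw [← Subgroup.eq_of_le_of_card_ge (Subgroup.le_normalizer (H := (P : Subgroup G))) (by
      rw [hP]; exact hk.le)]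
    exact P.le_centralizer
  · rw [hk] at hidx; omega
  · exact (normalizer_ne_36 hn P (by rw [hk]; rfl)).elim
  · rw [hk] at hidx; omega
  · rw [hk]; rfl

end CfsgLib.BrauerTuan
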