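import Cfsg.Agent.Lib.Char.SolvableNormalSylow
import Cfsg.Agent.Lib.Char.FTBlichfeldt
import Cfsg.Agent.Lib.BrauerTuan.Data
import Cfsg.Agent.Lib.BrauerTuan.Rational
import Cfsg.Agent.Lib.FourOrbit.Basic
import Cfsg.Agent.Lib.TransLinear.Huppert
import Cfsg.Agent.Lib.Classical.Card
import Cfsg.Agent.S0494
import Cfsg.Agent.S0495
import Cfsg.Agent.S0904
import Cfsg.Agent.S0988
import Cfsg.Agent.S0997
import Cfsg.Agent.S0998
import Cfsg.Agent.S4500

/-!
# Simple groups of order `4 p ^ a q ^ b` and `3 p ^ a q ^ b`, `a ≤ 2`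

A character of degree `4` resp. `3` bounds each large Sylow subgroup by a prime.
-/

set_option autoImplicit false
set_option linter.unusedSectionVars false
set_option linter.style.haveILetI false

namespace CfsgLib.BrauerTuan.SmallCofactor

open Cfsg Module CfsgLib
open scoped ComplexConjugate CfsgLib.Char
open scoped _root_.Classical
open scoped Pointwise

universe u

theorem isSolvable_of_normal {C : Type*} [Group C] {N : Subgroup C} [N.Normal]
    (hN : Group.IsSolvable N) (hQ : Group.IsSolvable (C ⧸ N)) : Group.IsSolvable C :=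
  Group.isSolvable_of_ker_le_range N.subtype (QuotientGroup.mk' N)
    (by rw [QuotientGroup.ker_mk', Subgroup.range_subtype])

theorem isSolvable_of_dvd {C : Type*} [Group C] [Finite C] {r s i j : ℕ} (hr : r.Prime) (hs : s.Prime)
    (hrs : r ≠ s) (h : Nat.card C ∣ r ^ i * s ^ j) : Group.IsSolvable C :=
  FourOrbit.isSolvable_of_two_primes hr hs hrs fun t ht hd => by
    rcases ht.dvd_mul.mp (hd.trans h) with h1 | h1
    · exact Or.inl ((Nat.prime_dvd_prime_iff_eq ht hr).mp (ht.dvd_of_dvd_pow h1))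
    · exact Or.inr ((Nat.prime_dvd_prime_iff_eq ht hs).mp (ht.dvd_of_dvd_pow h1))

theorem isSolvable_of_dvd_two_mul {C : Type*} [Group C] [Finite C] {r s i j : ℕ} (hr : r.Prime)
    (hs : s.Prime) (hrs : r ≠ s) (hr2 : r ≠ 2) (hs2 : s ≠ 2) (h : Nat.card C ∣ 2 * (r ^ i * s ^ j)) :
    Group.IsSolvable C := by
  have hm : ¬ 2 ∣ r ^ i * s ^ j := fun hd => (Nat.prime_two.dvd_mul.mp hd).elim
    (fun h1 => hr2 ((Nat.prime_dvd_prime_iff_eq Nat.prime_two hr).mp (Nat.prime_two.dvd_of_dvd_pow h1)).symm)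
    (fun h1 => hs2 ((Nat.prime_dvd_prime_iff_eq Nat.prime_two hs).mp (Nat.prime_two.dvd_of_dvd_pow h1)).symm)
  by_cases h2 : 2 ∣ Nat.card C
  swap
  · exact isSolvable_of_dvd hr hs hrs
      ((Nat.prime_two.coprime_iff_not_dvd.mpr h2).symm.dvd_of_dvd_mul_left h)
  haveI := Fact.mk Nat.prime_two
  let S : Sylow 2 C := default
  have hS : Nat.card S = 2 := by
    obtain ⟨k, hk⟩ := IsPGroup.iff_card.mp S.isPGroup'
    have hk0 : k ≠ 0 := fun e => by
      have := Nat.le_of_dvd Nat.card_pos (S.dvd_card_of_dvd_card h2)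
      rw [hk, e, pow_zero] at this
      omega
    have hk2 : k < 2 := by
      by_contra hge
      have h4 : 2 ^ 2 ∣ 2 * (r ^ i * s ^ j) :=
        ((pow_dvd_pow 2 (not_lt.mp hge)).trans (hk ▸ Subgroup.card_subgroup_dvd_card _)).trans h
      rw [pow_two] at h4
      exact hm (Nat.dvd_of_mul_dvd_mul_left Nat.prime_two.pos h4)
    rw [hk, show k = 1 by omega, pow_one]
  have hcyc : IsCyclic S := isCyclic_of_prime_card hS
  obtain ⟨N, hN, hidx⟩ := TransLinear.exists_index_two_of_cyclic_sylow S hcyc h2 (by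
    intro g hg
    refine Subgroup.mem_centralizer_iff.mpr fun w hw => ?_
    rcases eq_or_ne w 1 with rfl | hw1
    · simp
    have hconj : g * w * g⁻¹ ∈ (S : Subgroup C) := (Subgroup.mem_normalizer_iff.mp hg w).mp hw
    obtain ⟨a, b, hab, huniv⟩ := Nat.card_eq_two_iff.mp hS
    have key : ∀ x y : S, x ≠ 1 → y ≠ 1 → x = y := by
      intro x y hx hy
      have hx' := huniv.ge (Set.mem_univ x)
      have hy' := huniv.ge (Set.mem_univ y)
      have h1' := huniv.ge (Set.mem_univ (1 : S))
      simp only [Set.mem_insert_iff, Set.mem_singleton_iff] at hx' hy' h1'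
      rcases h1' with e | e <;> rcases hx' with rfl | rfl <;> rcases hy' with rfl | rfl <;>
        first | rfl | exact absurd e.symm hx | exact absurd e.symm hy
    have e := congrArg Subtype.val (key ⟨_, hconj⟩ ⟨w, hw⟩
      (fun e => hw1 (by simpa [mul_assoc] using congrArg (fun t => g⁻¹ * t * g) (congrArg Subtype.val e)))
      (fun e => hw1 (congrArg Subtype.val e)))
    exact (mul_inv_eq_iff_eq_mul.mp e).symm)
  haveI := hN
  refine isSolvable_of_normal (N := N) (isSolvable_of_dvd (i := i) (j := j) hr hs hrs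
    (Nat.dvd_of_mul_dvd_mul_left Nat.prime_two.pos ?_)) ?_
  · have := N.card_mul_index
    rw [hidx, mul_comm] at this
    rwa [this]
  · haveI : IsCyclic (C ⧸ N) := isCyclic_of_prime_card (p := 2) (by rw [← Subgroup.index_eq_card]; exact hidx)
    exact isSolvable_of_comm fun a b => (IsCyclic.commGroup (α := C ⧸ N)).mul_comm a b

variable {G : Type u} [Group G] [Fintype G] [IsSimpleGroup G] (hG : ¬ IsMulCommutative G)
  {χ : IrrCharacter G} (hχ : χ ≠ Blocks.trivIrr G) {n : ℕ} (hn : charDegree (χ : G → ℂ) = n)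

include hG hχ in
/-- An element on which the character has maximal absolute value is trivial. -/
theorem eq_one_of_norm {g : G} (h : ‖(χ : G → ℂ) g‖ = (charDegree (χ : G → ℂ) : ℝ)) : g = 1 := by
  by_contra hg
  have hfaith := fun {x : G} (hx : (χ : G → ℂ) x = (χ : G → ℂ) 1) => BrauerReynolds.faithful_of_simple hχ hx
  obtain ⟨k, ρ, hρ, e⟩ := χ.2
  have hdn : (charDegree (χ : G → ℂ) : ℝ) = (finrank ℂ (Fin k → ℂ) : ℝ) := by
    have := BrauerReynolds.value_one χ
    rw [← e, Representation.char_one] at this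
    rw [← e]
    exact_mod_cast this.symm
  rw [hdn, ← e] at h
  obtain ⟨ω, hω⟩ := (Char.norm_character_eq_iff ρ g).mp h
  have hcen : g ∈ Subgroup.center G := Subgroup.mem_center_iff.mpr fun x => by
    have h1 : ρ (x * g) = ρ (g * x) := by
      rw [map_mul, map_mul, hω]
      ext v; simp
    refine inv_mul_eq_one.mp ?_
    refine hfaith ?_
    rw [← e]
    show LinearMap.trace ℂ _ (ρ ((x * g)⁻¹ * (g * x))) = LinearMap.trace ℂ _ (ρ 1)
    rw [map_mul, ← h1, ← map_mul, inv_mul_cancel]
  rcases (inferInstance : (Subgroup.center G).Normal).eq_bot_or_eq_top with h0 | h0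
  · exact hg (Subgroup.mem_bot.mp (h0 ▸ hcen))
  · exact hG ⟨⟨fun a b => (Subgroup.mem_center_iff.mp (h0 ▸ Subgroup.mem_top b)) a⟩⟩

include hG hχ hn in
/-- A subgroup with a non-trivial centre is separated by characters of degree below `n`. -/
theorem separated {s : ℕ} (hns : n < s) {g : G} (hg : g ≠ 1) :
    ∀ x : Subgroup.centralizer ({g} : Set G),
      (∀ (ψ : Subgroup.centralizer ({g} : Set G) → ℂ) (d : ℕ), IsIrrCharacter _ ψ → ψ 1 = d →
        d + 1 < s → ψ x = ψ 1) → x = 1 := by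
  set H := Subgroup.centralizer ({g} : Set G) with hH
  intro x hx
  haveI : Fintype H := Fintype.ofFinite H
  obtain ⟨m, hm⟩ := Char.exists_multiplicities (Char.isCharacter_restrict H (Char.isCharacter_of_isIrr χ.2))
  choose f hf0 hf using fun ξ : IrrCharacter H => Char.exists_nat_degree_irr ξ.2
  have h1 := congrFun hm 1
  simp only [Subgroup.coe_one, Finset.sum_apply, Pi.smul_apply, smul_eq_mul, hf] at h1
  rw [BrauerReynolds.value_one χ, hn] at h1
  have h1' : n = ∑ ξ : IrrCharacter H, m ξ * f ξ := by exact_mod_cast h1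
  have hlt : ∀ ξ, m ξ ≠ 0 → f ξ < n := by
    intro ξ hne
    have hle : m ξ * f ξ ≤ n := h1' ▸
      Finset.single_le_sum (f := fun ξ => m ξ * f ξ) (fun _ _ => Nat.zero_le _) (Finset.mem_univ ξ)
    refine lt_of_le_of_ne ((Nat.le_mul_of_pos_left _ (Nat.pos_of_ne_zero hne)).trans hle) fun e => hg ?_
    have hm1 : m ξ = 1 := by
      have h2 : m ξ * f ξ ≤ 1 * f ξ := by rw [one_mul]; exact hle.trans e.ge
      have := Nat.le_of_mul_le_mul_right h2 (hf0 ξ)
      omega
    rw [← Finset.add_sum_erase _ _ (Finset.mem_univ ξ), hm1, one_mul, e] at h1'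
    have hrest := Finset.sum_eq_zero_iff.mp (by omega : ∑ η ∈ Finset.univ.erase ξ, m η * f η = 0)
    have hres : ∀ y : H, (χ : G → ℂ) y = (ξ : H → ℂ) y := by
      intro y
      have := congrFun hm y
      simp only [Finset.sum_apply, Pi.smul_apply, smul_eq_mul] at this
      rw [this, Finset.sum_eq_single ξ (fun η hη hne' => by
        have := hrest η (Finset.mem_erase.mpr ⟨hne', hη⟩)
        rw [(Nat.mul_eq_zero.mp this).resolve_right (hf0 η).ne', Nat.cast_zero, zero_mul])
        (fun h => absurd (Finset.mem_univ _) h), hm1, Nat.cast_one, one_mul]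
    refine eq_one_of_norm hG hχ ?_
    have hgH : g ∈ H := Subgroup.mem_centralizer_singleton_iff.mpr rfl
    have hgZ : (⟨g, hgH⟩ : H) ∈ Subgroup.center H := Subgroup.mem_center_iff.mpr fun y =>
      Subtype.ext (Subgroup.mem_centralizer_singleton_iff.mp y.2)
    have e1 := hres ⟨g, hgH⟩
    obtain ⟨k, σ, hσ, hσe⟩ := ξ.2
    haveI := hσ
    have e2 := Char.norm_value_center_mul σ hgZ 1
    rw [mul_one, hσe, ← e1, hf ξ, Complex.norm_natCast] at e2
    rw [e2, e, hn]
  have hall : (χ : G → ℂ) (x : G) = (χ : G → ℂ) 1 := by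
    have h2 := congrFun hm x
    have h3 := congrFun hm 1
    simp only [Finset.sum_apply, Pi.smul_apply, smul_eq_mul] at h2 h3
    rw [← Subgroup.coe_one H, h2, h3]
    refine Finset.sum_congr rfl fun ξ _ => ?_
    by_cases hne : m ξ = 0
    · simp [hne]
    rw [hx ξ (f ξ) ξ.2 (hf ξ) (by have := hlt ξ hne; omega)]
  exact Subtype.ext (BrauerReynolds.faithful_of_simple hχ hall)

include hG hχ hn in
/-- The degree bounds the Sylow subgroups at larger primes. -/
theorem card_sylow_eq {s : ℕ} [hs : Fact s.Prime] (hns : n < s) (hn1 : n ≠ 1) (hdvd : s ∣ Nat.card G)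
    (hsol : ∀ g : G, g ≠ 1 → Group.IsSolvable (Subgroup.centralizer ({g} : Set G))) (P : Sylow s G) :
    Nat.card (P : Subgroup G) = s := by
  have hnorm : ∀ g : G, g ≠ 1 → ∀ Q : Sylow s (Subgroup.centralizer ({g} : Set G)),
      (Q : Subgroup (Subgroup.centralizer ({g} : Set G))).Normal := by
    intro g hg Q
    haveI : Fintype (Subgroup.centralizer ({g} : Set G)) := Fintype.ofFinite _
    exact Char.SolvableSylow.sylow_normal (separated hG hχ hn hns hg)
      (PSolvable.isPSolvable_of_isSolvable (hsol g hg)) Q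
  have hab : ∀ Q : Sylow s G, ∀ a ∈ (Q : Subgroup G), ∀ b ∈ (Q : Subgroup G), a * b = b * a := by
    intro Q a ha b hb
    obtain ⟨k, ρ, hρ, e⟩ := χ.2
    have hk : k = n := by
      have h1 := BrauerReynolds.value_one χ
      rw [hn, ← e, Representation.char_one, Module.finrank_fin_fun] at h1
      exact_mod_cast h1
    subst hk
    have hinj : Function.Injective ρ := fun x y exy => mul_inv_eq_one.mp (BrauerReynolds.faithful_of_simple hχ (by
      rw [← e]
      show LinearMap.trace ℂ _ (ρ (x * y⁻¹)) = LinearMap.trace ℂ _ (ρ 1)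
      rw [map_mul, exy, ← map_mul, mul_inv_cancel]))
    have h := Cfsg.Agent.S0185.result (ρ.comp (Q : Subgroup G).subtype)
      (fun x y exy => Subtype.ext (hinj exy)) (fun q hq hqd => by
        obtain ⟨j, hj⟩ := IsPGroup.iff_card.mp Q.isPGroup'
        have : q = s := (Nat.prime_dvd_prime_iff_eq hq hs.out).mp (hq.dvd_of_dvd_pow (hj ▸ hqd))
        simp only [Module.finrank_fin_fun]
        omega) ⟨a, ha⟩ ⟨b, hb⟩
    exact congrArg Subtype.val h
  have hZ : Subgroup.center G = ⊥ := (Subgroup.Normal.eq_bot_or_eq_top inferInstance).resolve_right fun e =>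
    hG ⟨⟨fun a b => Subgroup.mem_center_iff.mp (show b ∈ Subgroup.center G by rw [e]; trivial) a⟩⟩
  have hone : Char.MeetsOne (P : Subgroup G) := by
    intro g hg a b ha hb
    have hg1 : g ≠ 1 := fun e => hg (e ▸ Subgroup.one_mem _)
    obtain ⟨x, ⟨hxC, hxa⟩, hx1⟩ := (Subgroup.bot_or_exists_ne_one _).resolve_left ha
    obtain ⟨y, ⟨hyC, hyb⟩, hy1⟩ := (Subgroup.bot_or_exists_ne_one _).resolve_left hb
    have key : ∀ (Q R : Sylow s G) (z : G), z ≠ 1 → z ∈ (Q : Subgroup G) → z ∈ (R : Subgroup G) → Q = R := by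
      intro Q R z hz hzQ hzR
      have hQ : (Q : Subgroup G) ≤ Subgroup.centralizer ({z} : Set G) :=
        fun w hw => Subgroup.mem_centralizer_singleton_iff.mpr (hab Q w hw z hzQ)
      have hR : (R : Subgroup G) ≤ Subgroup.centralizer ({z} : Set G) :=
        fun w hw => Subgroup.mem_centralizer_singleton_iff.mpr (hab R w hw z hzR)
      haveI := Sylow.unique_of_normal (default : Sylow s (Subgroup.centralizer ({z} : Set G))) (hnorm z hz default)
      have h : Q.subtype hQ = R.subtype hR := Subsingleton.elim _ _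
      exact Sylow.subtype_injective h
    set C := Subgroup.centralizer ({g} : Set G)
    let Q0 : Sylow s C := default
    haveI := Sylow.unique_of_normal Q0 (hnorm g hg1 Q0)
    have hin : ∀ (Q : Sylow s G) (w : G), w ∈ C → w ∈ (Q : Subgroup G) →
        w ∈ (Q0 : Subgroup C).map C.subtype := by
      intro Q w hwC hwQ
      obtain ⟨S, hS⟩ := (Q.isPGroup'.comap_of_injective C.subtype C.subtype_injective).exists_le_sylow
      exact ⟨⟨w, hwC⟩, (Subsingleton.elim S Q0) ▸ hS hwQ, rfl⟩
    obtain ⟨R, hR⟩ := (Q0.isPGroup'.map C.subtype).exists_le_sylow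
    have e1 := key (a • P) R x hx1 hxa (hR (hin (a • P) x hxC hxa))
    have e2 := key (b • P) R y hy1 hyb (hR (hin (b • P) y hyC hyb))
    exact congrArg (fun S : Sylow s G => (S : Subgroup G)) (e1.trans e2.symm)
  obtain ⟨h₀, hh₀, hne₀⟩ : ∃ h ∈ (P : Subgroup G), h ≠ 1 :=
    (Subgroup.bot_or_exists_ne_one _).resolve_left fun e => by
      have h2 := Nat.le_of_dvd Nat.card_pos (P.dvd_card_of_dvd_card hdvd)
      rw [e, Subgroup.card_bot] at h2
      exact absurd h2 (not_le.mpr hs.out.one_lt)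
  haveI : Fintype (P : Subgroup G) := Fintype.ofFinite _
  have hlt := Char.card_lt_succ_degree_sq (P : Subgroup G) (hab P) (by rw [hZ, inf_bot_eq]) hone
    (fun M hMn hPM => (hMn.eq_bot_or_eq_top).resolve_left fun e => hne₀ (Subgroup.mem_bot.mp (e ▸ hPM hh₀)))
    χ.2 ⟨h₀, hh₀, fun e => hne₀ (BrauerReynolds.faithful_of_simple hχ e)⟩
    (d := n) (by rw [BrauerReynolds.value_one, hn]) hn1
  obtain ⟨j, hj⟩ := IsPGroup.iff_card.mp P.isPGroup'
  have hj1 : j < 2 := (Nat.pow_lt_pow_iff_right hs.out.one_lt).mp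
    (hj ▸ hlt.trans_le (Nat.pow_le_pow_left hns 2))
  have hj0 : j ≠ 0 := fun e => hne₀ (by
    rw [e, pow_zero] at hj
    exact Subgroup.mem_bot.mp ((Subgroup.eq_bot_of_card_eq _ hj) ▸ hh₀))
  rw [hj, show j = 1 by omega, pow_one]

include hG hχ hn in
theorem not_dvd_card_centralizer {d m r : ℕ} (hd0 : 0 < d) (hm : Nat.card G = d * m) (hcop : n.Coprime m)
    (hr : r.Prime) (hrn : ¬ r ∣ n) {g : G} (hg : orderOf g = r) :
    ¬ d ∣ Nat.card (Subgroup.centralizer ({g} : Set G)) := by
  intro hd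
  haveI := Fact.mk hr
  refine hrn (hn ▸ dvd_degree_of_vanish (χ := χ) (Subgroup.zpowers g) (by rw [Nat.card_zpowers, hg]) fun v hv hv1 => ?_)
  refine eq_zero_of_coprime hG hχ hv1 (hn.symm ▸ hcop.coprime_dvd_right ?_)
  obtain ⟨i, rfl⟩ := Subgroup.mem_zpowers_iff.mp hv
  have hle : Subgroup.centralizer ({g} : Set G) ≤ Subgroup.centralizer ({g ^ i} : Set G) := fun w hw =>
    Subgroup.mem_centralizer_singleton_iff.mpr ((Commute.zpow_right (Subgroup.mem_centralizer_singleton_iff.mp hw : Commute w g) i).eq)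
  refine (Subgroup.index_dvd_of_le hle).trans ?_
  obtain ⟨c, hc⟩ := hd
  have h := (Subgroup.centralizer ({g} : Set G)).card_mul_index
  rw [hm, hc, mul_assoc] at h
  exact ⟨c, by rw [mul_comm]; exact (Nat.eq_of_mul_eq_mul_left hd0 h).symm⟩

omit [Fintype G] [IsSimpleGroup G] in
/-- Solvability of a centralizer from its quotient by the element. -/
theorem isSolvable_centralizer [Finite G] {g : G}
    (h : ∀ (_ : ((Subgroup.zpowers g).subgroupOf (Subgroup.centralizer ({g} : Set G))).Normal),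
      Group.IsSolvable (↥(Subgroup.centralizer ({g} : Set G)) ⧸ (Subgroup.zpowers g).subgroupOf _)) :
    Group.IsSolvable (Subgroup.centralizer ({g} : Set G)) := by
  set C := Subgroup.centralizer ({g} : Set G)
  have hcen : (Subgroup.zpowers g).subgroupOf C ≤ Subgroup.center C := fun x hx =>
    Subgroup.mem_center_iff.mpr fun y => Subtype.ext (by
      obtain ⟨i, hi⟩ := Subgroup.mem_zpowers_iff.mp (Subgroup.mem_subgroupOf.mp hx)
      show (y : G) * x = x * y
      rw [← hi]
      exact (Commute.zpow_right (Subgroup.mem_centralizer_singleton_iff.mp y.2 : Commute (y : G) g) i).eq)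
  haveI hn : ((Subgroup.zpowers g).subgroupOf C).Normal := ⟨fun x hx y => by
    rwa [Subgroup.mem_center_iff.mp (hcen hx) y, mul_inv_cancel_right]⟩
  refine isSolvable_of_normal (isSolvable_of_comm fun a b => Subtype.ext ?_) (h hn)
  exact (Subgroup.mem_center_iff.mp (hcen a.2) b.1).symm

omit [Fintype G] [IsSimpleGroup G] in
theorem quotient_card_dvd [Finite G] {g : G} {r k : ℕ} (hr : 0 < r) (hg : orderOf g = r)
    (h : Nat.card (Subgroup.centralizer ({g} : Set G)) ∣ r * k) :
    Nat.card (↥(Subgroup.centralizer ({g} : Set G)) ⧸ (Subgroup.zpowers g).subgroupOf (Subgroup.centralizer ({g} : Set G))) ∣ k := by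
  set C := Subgroup.centralizer ({g} : Set G)
  have h1 := ((Subgroup.zpowers g).subgroupOf C).card_mul_index
  rw [Nat.card_congr (Subgroup.subgroupOfEquivOfLe (Subgroup.zpowers_le.mpr
    (Subgroup.mem_centralizer_singleton_iff.mpr rfl))).toEquiv, Nat.card_zpowers, hg] at h1
  rw [← Subgroup.index_eq_card]
  exact Nat.dvd_of_mul_dvd_mul_left hr (h1.symm ▸ h)

omit [Fintype G] [IsSimpleGroup G] in
theorem solvable_centralizer_of_prime [Finite G]
    (h : ∀ g : G, (orderOf g).Prime → Group.IsSolvable (Subgroup.centralizer ({g} : Set G)))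
    (g : G) (hg : g ≠ 1) : Group.IsSolvable (Subgroup.centralizer ({g} : Set G)) := by
  obtain ⟨r, hr, hrd⟩ := Nat.exists_prime_and_dvd (n := orderOf g) (fun e => hg (orderOf_eq_one_iff.mp e))
  have ho := orderOf_pow_orderOf_div (orderOf_pos g).ne' hrd
  refine Coprime.isSolvable_of_le ?_ (h (g ^ (orderOf g / r)) (ho.symm ▸ hr))
  exact fun w hw => Subgroup.mem_centralizer_singleton_iff.mpr
    ((Commute.pow_right (Subgroup.mem_centralizer_singleton_iff.mp hw : Commute w g) _).eq)

include hG in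
theorem not_two_primes {r s i j : ℕ} (hr : r.Prime) (hs : s.Prime) (h : Nat.card G = r ^ i * s ^ j) : False :=
  hG ⟨⟨fun a b => (IsSimpleGroup.comm_iff_isSolvable.mpr (Cfsg.Agent.S0144.result r s i j hr hs h)) a b⟩⟩

theorem not_cyclic (hG : ¬ IsMulCommutative G) : ¬ IsCyclic G := fun hc => hG ⟨⟨fun a b => by
  letI := hc.commGroup; exact mul_comm a b⟩⟩

theorem exponent_one {s a m : ℕ} (hs : s.Prime) (ha : 0 < a) (hcard : Nat.card G = s ^ a * m)
    (P : Sylow s G) (hP : Nat.card (P : Subgroup G) = s) : a = 1 := by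
  haveI := Fact.mk hs
  by_contra hne
  have h2 : s ^ 2 ∣ Nat.card (P : Subgroup G) :=
    P.pow_dvd_card_of_pow_dvd_card (hcard ▸ (pow_dvd_pow s (by omega)).trans (dvd_mul_right _ _))
  rw [hP] at h2
  have := Nat.le_of_dvd hs.pos h2
  nlinarith [hs.two_le]

include hG in
theorem exists_degree_pow {r c p q a b : ℕ} (hp : p.Prime) (hq : q.Prime) (hr : r.Prime) (hpq : p ≠ q)
    (hpr : p ≠ r) (hqr : q ≠ r) (ha : a ≤ 2) (hcard : Nat.card G = p ^ a * q ^ b * r ^ c) :
    ∃ (χ : IrrCharacter G) (k : ℕ), χ ≠ Blocks.trivIrr G ∧ charDegree (χ : G → ℂ) = r ^ k ∧ k ≤ c ∧ k ≠ 0 := by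
  haveI : Nontrivial G := IsSimpleGroup.toNontrivial
  obtain ⟨-, χ, hne, k, hk⟩ := Cfsg.Agent.S4500.result p q r a b c hp hq hr hpq hpr hqr ha hcard
  have hχ : χ ≠ Blocks.trivIrr G := fun e => hne (by rw [e]; rfl)
  refine ⟨χ, k, hχ, hk, ?_, fun h0 => ?_⟩
  · obtain ⟨d, hd, -, hdvd⟩ := Char.exists_degree_dvd_card χ.2
    rw [← Char.Extraspecial.charDegree_eq hd, hk, hcard] at hdvd
    by_contra hlt
    have h1 : r ^ (c + 1) ∣ p ^ a * q ^ b * r ^ c := (pow_dvd_pow r (by omega)).trans hdvd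
    rw [pow_succ', Nat.mul_dvd_mul_iff_right (pow_pos hr.pos c)] at h1
    rcases hr.dvd_mul.mp h1 with h2 | h2
    · exact hpr ((Nat.prime_dvd_prime_iff_eq hr hp).mp (hr.dvd_of_dvd_pow h2)).symm
    · exact hqr ((Nat.prime_dvd_prime_iff_eq hr hq).mp (hr.dvd_of_dvd_pow h2)).symm
  · rw [h0, pow_zero] at hk
    have h1 : (χ : G → ℂ) 1 = 1 := by rw [BrauerReynolds.value_one, hk, Nat.cast_one]
    have hχc := Char.isCharacter_of_isIrr χ.2
    obtain ⟨a, b, hab⟩ : ∃ a b : G, a * b ≠ b * a := by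
      by_contra hall
      push Not at hall
      exact hG ⟨⟨hall⟩⟩
    refine hab (commutatorElement_eq_one_iff_mul_comm.mp (BrauerReynolds.faithful_of_simple hχ ?_))
    rw [h1, ← Char.linearHom_apply hχc h1, map_commutatorElement,
      commutatorElement_eq_one_iff_mul_comm.mpr (mul_comm _ _)]
    rfl

include hG in
/-- Order `4 * 3 ^ x * 5` with a character of degree `4`. -/
theorem twenty_case {x : ℕ} (hcard : Nat.card G = 4 * 3 ^ x * 5) (hχ : χ ≠ Blocks.trivIrr G)
    (h4 : charDegree (χ : G → ℂ) = 4) : Nat.card G = 60 := by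
  haveI := Fact.mk (by norm_num : Nat.Prime 5)
  haveI := Fact.mk Nat.prime_two
  let P : Sylow 5 G := default
  have h5 : 5 ∣ Nat.card G := by rw [hcard]; exact dvd_mul_left _ _
  have hP : Nat.card (P : Subgroup G) = 5 := by
    obtain ⟨j, hj⟩ := IsPGroup.iff_card.mp P.isPGroup'
    have hj2 : j < 2 := by
      by_contra hge
      have hd : 5 ^ 2 ∣ 4 * 3 ^ x * 5 := (pow_dvd_pow 5 (not_lt.mp hge)).trans (hcard ▸ hj ▸ Subgroup.card_subgroup_dvd_card _)
      rw [pow_two, Nat.mul_dvd_mul_iff_right (by norm_num)] at hd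
      rcases (by norm_num : Nat.Prime 5).dvd_mul.mp hd with h | h
      · norm_num at h
      · have := (by norm_num : Nat.Prime 5).dvd_of_dvd_pow h; norm_num at this
    have := Nat.le_of_dvd Nat.card_pos (P.dvd_card_of_dvd_card h5)
    rw [hj] at this ⊢
    interval_cases j
    · norm_num at this
    · rfl
  obtain ⟨D⟩ := nonempty_data (not_cyclic hG) P hP
  have hC : Subgroup.centralizer ((P : Subgroup G) : Set G) = (P : Subgroup G) :=
    Cfsg.Agent.S0904.result 2 3 5 2 x Nat.prime_two Nat.prime_three (by norm_num) (by norm_num) (by norm_num)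
      (by rw [hcard]; ring) P
  have hcG := D.card_G
  rw [hC, hP, hcard] at hcG
  have het := D.het
  have h2e := D.two_le_e
  have he4 : D.e ≠ 4 := by
    intro he
    set N := Subgroup.normalizer ((P : Subgroup G) : Set G) with hN
    have hNidx : N.index = 1 + D.n * 5 := by
      rw [hN]; exact P.card_eq_index_normalizer.symm.trans D.card_sylow
    have hNcard : Nat.card N = 20 := by
      refine Nat.eq_of_mul_eq_mul_right (Nat.pos_of_ne_zero (by rw [hNidx]; omega) : 0 < N.index) ?_
      rw [N.card_mul_index, hcard, hcG, hNidx, he]; ring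
    let S : Sylow 2 G := default
    have hS : Nat.card (S : Subgroup G) = 4 := by
      obtain ⟨j, hj⟩ := IsPGroup.iff_card.mp S.isPGroup'
      have h4d : 2 ^ 2 ∣ Nat.card (S : Subgroup G) := S.pow_dvd_card_of_pow_dvd_card (by rw [hcard]; exact Dvd.dvd.mul_right (dvd_mul_right _ _) _)
      have hj3 : j < 3 := by
        by_contra hge
        have hd : 2 * 4 ∣ 4 * (3 ^ x * 5) := by
          rw [← mul_assoc, ← hcard]
          exact ((pow_dvd_pow 2 (not_lt.mp hge)).trans (hj ▸ Subgroup.card_subgroup_dvd_card _))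
        rw [mul_comm 2 4] at hd
        rcases Nat.prime_two.dvd_mul.mp (Nat.dvd_of_mul_dvd_mul_left (by norm_num) hd) with h | h
        · have := Nat.prime_two.dvd_of_dvd_pow h; norm_num at this
        · norm_num at h
      rw [hj] at h4d ⊢
      have := Nat.pow_dvd_pow_iff_le_right (x := 2) (by norm_num) |>.mp h4d
      rw [show j = 2 by omega]; norm_num
    have hexp : ∀ w ∈ (S : Subgroup G), w * w = 1 := by
      by_contra hall
      push Not at hall
      obtain ⟨w, hw, hww⟩ := hall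
      have hord : orderOf (⟨w, hw⟩ : (S : Subgroup G)) = 4 := by
        have h1 := orderOf_dvd_natCard (⟨w, hw⟩ : (S : Subgroup G))
        rw [hS] at h1
        have h2 : ¬ orderOf (⟨w, hw⟩ : (S : Subgroup G)) ∣ 2 := fun hd => hww (by
          have := congrArg Subtype.val (orderOf_dvd_iff_pow_eq_one.mp hd)
          simpa [pow_two] using this)
        have h3 := Nat.le_of_dvd (by norm_num) h1
        interval_cases (orderOf (⟨w, hw⟩ : (S : Subgroup G))) <;> simp_all
      have hcyc : IsCyclic (S : Subgroup G) := isCyclic_of_orderOf_eq_card _ (hord.trans hS.symm)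
      have hmin : (Nat.card G).minFac = 2 :=
        (Nat.minFac_eq_two_iff _).mpr (by rw [hcard]; exact Dvd.dvd.mul_right (Dvd.dvd.mul_right (by norm_num) _) _)
      exact SmallOrder.not_normalizer_le_centralizer hG
        (by rw [hcard]; exact Dvd.dvd.mul_right (Dvd.dvd.mul_right (by norm_num) _) _) S
        (IsCyclic.normalizer_le_centralizer hmin hcyc)
    have h4N : 2 ^ 2 ∣ Nat.card N := by rw [hNcard]; norm_num
    obtain ⟨V, hV⟩ := Sylow.exists_subgroup_card_pow_prime 2 h4N
    set V' : Subgroup G := V.map N.subtype with hV'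
    have hV'card : Nat.card V' = 4 := by rw [hV', Subgroup.card_map_of_injective N.subtype_injective, hV]; norm_num
    obtain ⟨R, hR⟩ := (IsPGroup.of_card (p := 2) (n := 2) (by rw [hV'card]; norm_num) : IsPGroup 2 V').exists_le_sylow
    obtain ⟨c, rfl⟩ := MulAction.exists_smul_eq G S R
    have hVexp : ∀ w ∈ V', w * w = 1 := fun w hw => by
      obtain ⟨z, hz, e⟩ := (show w ∈ (MulAut.conj c • (S : Subgroup G) : Subgroup G) by
        rw [← Sylow.coe_subgroup_smul]; exact hR hw)
      have e' : c * z * c⁻¹ = w := e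
      rw [← e', show c * z * c⁻¹ * (c * z * c⁻¹) = c * (z * z) * c⁻¹ by group, hexp z hz, mul_one, mul_inv_cancel]
    -- a Klein four-group acts faithfully on a group of order five
    have hVN : V' ≤ N := Subgroup.map_subtype_le _
    obtain ⟨v, hv, hv1⟩ := (Subgroup.bot_or_exists_ne_one (P : Subgroup G)).resolve_left (fun e => by
      rw [e, Subgroup.card_bot] at hP; norm_num at hP)
    have hz : Subgroup.zpowers v = (P : Subgroup G) := by
      refine Subgroup.eq_of_le_of_card_ge (Subgroup.zpowers_le.mpr hv) ?_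
      rw [Nat.card_zpowers, hP]
      have := Subgroup.orderOf_dvd_natCard _ hv
      rw [hP] at this
      exact (((by norm_num : Nat.Prime 5).eq_one_or_self_of_dvd _ this).resolve_left
        fun e => hv1 (orderOf_eq_one_iff.mp e)).ge
    have hinv : ∀ w ∈ V', w ≠ 1 → w * v * w⁻¹ = v⁻¹ := by
      intro w hw hw1
      have hwv : w * v * w⁻¹ ∈ Subgroup.zpowers v := hz.symm ▸ (Subgroup.mem_normalizer_iff.mp (hVN hw) v).mp hv
      obtain ⟨i, hi⟩ := Subgroup.mem_zpowers_iff.mp hwv
      have hv5 : orderOf v = 5 := by rw [← Nat.card_zpowers, hz, hP]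
      have h2 : v ^ (i * i) = v := by
        rw [zpow_mul, hi, conj_zpow, hi, show w * (w * v * w⁻¹) * w⁻¹ = (w * w) * v * (w * w)⁻¹ by group,
          hVexp w hw]; simp
      have h3 : (5 : ℤ) ∣ i * i - 1 := by
        rw [show (5 : ℤ) = (orderOf v : ℤ) by rw [hv5]; rfl, orderOf_dvd_iff_zpow_eq_one, zpow_sub, h2, zpow_one, mul_inv_cancel]
      have hne : ¬ (5 : ℤ) ∣ i - 1 := fun hd => hw1 (by
        rw [show (5 : ℤ) = (orderOf v : ℤ) by rw [hv5]; rfl, orderOf_dvd_iff_zpow_eq_one, zpow_sub, zpow_one, hi,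
          mul_inv_eq_one, mul_inv_eq_iff_eq_mul] at hd
        have hmem : w ∈ (P : Subgroup G) := hC ▸ Subgroup.mem_centralizer_iff.mpr fun q hq => by
          rw [SetLike.mem_coe, ← hz] at hq
          obtain ⟨k, rfl⟩ := Subgroup.mem_zpowers_iff.mp hq
          exact ((Commute.zpow_left (show Commute v w from hd.symm) k)).eq
        have h1 := Subgroup.orderOf_dvd_natCard _ hmem
        have h2' := Subgroup.orderOf_dvd_natCard _ hw
        rw [hP] at h1; rw [hV'card] at h2'
        exact orderOf_eq_one_iff.mp (Nat.eq_one_of_dvd_coprimes (by norm_num : Nat.Coprime 5 4) h1 h2'))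
      have h5' : Prime (5 : ℤ) := Nat.prime_iff_prime_int.mp (by norm_num)
      have h4' : (5 : ℤ) ∣ i + 1 :=
        ((h5'.dvd_mul).mp (show (5 : ℤ) ∣ (i - 1) * (i + 1) by ring_nf; ring_nf at h3; exact h3)).resolve_left hne
      rw [show (5 : ℤ) = (orderOf v : ℤ) by rw [hv5]; rfl, orderOf_dvd_iff_zpow_eq_one, zpow_add, zpow_one, hi] at h4'
      exact eq_inv_of_mul_eq_one_left h4'
    obtain ⟨w₁, hw₁, hw₁1⟩ := (Subgroup.bot_or_exists_ne_one V').resolve_left (fun e => by
      rw [e, Subgroup.card_bot] at hV'card; norm_num at hV'card)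
    obtain ⟨w₂, hw₂, hw₂1⟩ : ∃ w₂ ∈ V', w₂ ∉ Subgroup.zpowers w₁ := by
      by_contra hall
      push Not at hall
      have h1 := Subgroup.card_le_of_le (show V' ≤ Subgroup.zpowers w₁ from hall)
      rw [hV'card, Nat.card_zpowers] at h1
      have h2 := orderOf_le_of_pow_eq_one (x := w₁) (n := 2) (by norm_num) (by rw [pow_two]; exact hVexp w₁ hw₁)
      omega
    have hw21 : w₂ ≠ 1 := fun e => hw₂1 (e ▸ Subgroup.one_mem _)
    have hne12 : w₁ * w₂ ≠ 1 := fun e => hw₂1 (by
      rw [show w₂ = w₁⁻¹ from eq_inv_of_mul_eq_one_right e]; exact Subgroup.inv_mem _ (Subgroup.mem_zpowers _))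
    have e1 := hinv w₁ hw₁ hw₁1
    have e2 := hinv w₂ hw₂ hw21
    have e3 := hinv _ (V'.mul_mem hw₁ hw₂) hne12
    have e4 : w₁ * w₂ * v * (w₁ * w₂)⁻¹ = v := by
      calc w₁ * w₂ * v * (w₁ * w₂)⁻¹ = w₁ * (w₂ * v * w₂⁻¹) * w₁⁻¹ := by group
        _ = (w₁ * v * w₁⁻¹)⁻¹ := by rw [e2]; group
        _ = v := by rw [e1, inv_inv]
    rw [e4] at e3
    have hv5 : orderOf v = 5 := by rw [← Nat.card_zpowers, hz, hP]
    have h25 : orderOf v ∣ 2 := orderOf_dvd_of_pow_eq_one (by rw [pow_two]; nth_rewrite 2 [e3]; exact mul_inv_cancel v)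
    rw [hv5] at h25
    norm_num at h25
  have he2 : D.e = 2 := by
    have ht := D.one_le_t
    have : D.e ≤ 4 := by nlinarith
    interval_cases D.e <;> omega
  have ht2 : D.t = 2 := by rw [he2] at het; omega
  -- the character of degree four is the only one
  have htX : Blocks.trivIrr G ∈ D.X := by
    refine (Finset.mem_union.mp D.triv).resolve_right fun hY => ?_
    have hmod := D.degY _ hY
    rw [he2, Char.Extraspecial.charDegree_eq (d := 1) (χ := (Blocks.trivIrr G : G → ℂ)) (by rw [Nat.cast_one]; rfl)] at hmod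
    obtain ⟨k, hk⟩ := hmod.dvd
    rcases D.hε with h | h <;> rw [h] at hk <;> omega
  have hfour : ∀ ξ : IrrCharacter G, charDegree (ξ : G → ℂ) = 4 → ξ ∈ D.X.erase (Blocks.trivIrr G) := by
    intro ξ hξ
    refine Finset.mem_erase.mpr ⟨fun e => ?_, ?_⟩
    · rw [e, Char.Extraspecial.charDegree_eq (d := 1) (χ := (Blocks.trivIrr G : G → ℂ)) (by rw [Nat.cast_one]; rfl)] at hξ
      norm_num at hξ
    by_contra hX
    by_cases hY : ξ ∈ D.Y
    · have hmod := D.degY _ hY
      rw [he2, hξ] at hmod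
      obtain ⟨k, hk⟩ := hmod.dvd
      rcases D.hε with h | h <;> rw [h] at hk <;> omega
    · have hd := dvd_degree_of_vanish (χ := ξ) (P : Subgroup G) hP (D.out hC ξ hX hY)
      rw [hξ] at hd
      norm_num at hd
  have huniq : ∀ ξ : IrrCharacter G, charDegree (ξ : G → ℂ) = charDegree (χ : G → ℂ) → ξ = χ := by
    intro ξ hξ
    have hcard' : (D.X.erase (Blocks.trivIrr G)).card ≤ 1 := by
      rw [Finset.card_erase_of_mem htX, D.card_X, he2]
    exact Finset.card_le_one.mp hcard' ξ (hfour ξ (hξ.trans h4)) χ (hfour χ h4)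
  have hdiv := card_dvd_prod_of_rational (Char.isCharacter_of_isIrr χ.2) (d := 4)
    (by rw [BrauerReynolds.value_one, h4]) (fun g => exists_int_value_of_unique huniq g)
    (fun g hg => BrauerReynolds.faithful_of_simple hχ hg)
  rw [show (∏ a ∈ Finset.Ico (-((4 : ℕ) : ℤ)) (4 : ℕ), (((4 : ℕ) : ℤ) - a)) = ((40320 : ℕ) : ℤ) by decide +kernel,
    Int.natCast_dvd_natCast, hcard] at hdiv
  have hx2 : x ≤ 2 := by
    by_contra hlt
    have h27 : 3 ^ 3 ∣ 40320 := ((pow_dvd_pow 3 (not_le.mp hlt)).trans (Dvd.intro_left 4 rfl |>.trans (dvd_mul_right _ _))).trans hdiv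
    norm_num at h27
  rw [he2] at hcG
  rw [hcard]
  interval_cases x <;> norm_num at hcG ⊢ <;> omega

include hG in
theorem main_four {p q a b : ℕ} (hp : p.Prime) (hq : q.Prime) (hpq : p ≠ q) (ha : a ≤ 2)
    (hcard : Nat.card G = 4 * p ^ a * q ^ b) : Nat.card G = 60 := by
  by_cases ha0 : a = 0
  · exact (not_two_primes hG Nat.prime_two hq (i := 2) (j := b) (by rw [hcard, ha0]; ring)).elim
  by_cases hb0 : b = 0
  · exact (not_two_primes hG Nat.prime_two hp (i := 2) (j := a) (by rw [hcard, hb0]; ring)).elim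
  by_cases hp2 : p = 2
  · exact (not_two_primes hG Nat.prime_two hq (i := 2 + a) (j := b) (by rw [hcard, hp2]; ring)).elim
  by_cases hq2 : q = 2
  · exact (not_two_primes hG Nat.prime_two hp (i := 2 + b) (j := a) (by rw [hcard, hq2]; ring)).elim
  obtain ⟨χ, k, hχ, hk, hk2, hk0⟩ := exists_degree_pow (G := G) hG hp hq Nat.prime_two hpq hp2 hq2 ha
    (c := 2) (b := b) (by rw [hcard]; ring)
  set n := charDegree (χ : G → ℂ) with hn
  have hn24 : n = 2 ∨ n = 4 := by
    rw [hk]; interval_cases k <;> simp_all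
  have hncop : n.Coprime (p ^ a * q ^ b) := by
    rw [hk]
    refine Nat.Coprime.pow_left k (Nat.Coprime.mul_right ?_ ?_)
    · exact ((Nat.coprime_primes Nat.prime_two hp).mpr (Ne.symm hp2)).pow_right a
    · exact ((Nat.coprime_primes Nat.prime_two hq).mpr (Ne.symm hq2)).pow_right b
  have hsol : ∀ g : G, g ≠ 1 → Group.IsSolvable (Subgroup.centralizer ({g} : Set G)) := by
    refine solvable_centralizer_of_prime fun g hg => ?_
    by_cases hg2 : orderOf g = 2
    · exact isSolvable_centralizer fun _ => isSolvable_of_dvd_two_mul hp hq hpq hp2 hq2 (i := a) (j := b)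
        (quotient_card_dvd two_pos hg2 ((Subgroup.card_subgroup_dvd_card _).trans (dvd_of_eq (by rw [hcard]; ring))))
    · have hnd := not_dvd_card_centralizer hG hχ hn.symm (d := 4) (m := p ^ a * q ^ b) (by norm_num)
        (by rw [hcard, mul_assoc]) hncop hg
        (fun hd => hg2 ((Nat.prime_dvd_prime_iff_eq hg Nat.prime_two).mp (hg.dvd_of_dvd_pow (hk ▸ hd)))) rfl
      refine isSolvable_of_dvd_two_mul hp hq hpq hp2 hq2 (i := a) (j := b) ?_
      have h4 : Nat.card (Subgroup.centralizer ({g} : Set G)) ∣ 4 * (p ^ a * q ^ b) :=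
        (Subgroup.card_subgroup_dvd_card _).trans (dvd_of_eq (by rw [hcard, mul_assoc]))
      obtain ⟨y, z, hy, hz, hyz⟩ := exists_dvd_and_dvd_of_dvd_mul h4
      rw [hyz] at hnd ⊢
      refine mul_dvd_mul ?_ hz
      have hy4 := Nat.le_of_dvd (by norm_num) hy
      interval_cases y <;> first | exact one_dvd _ | exact dvd_rfl | exact absurd (dvd_mul_right 4 z) hnd | (exfalso; revert hy; norm_num)
  have hsy : ∀ {s e m : ℕ}, s.Prime → n < s → 0 < e → Nat.card G = s ^ e * m → e = 1 := by
    intro s e m hs hns he hc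
    haveI := Fact.mk hs
    exact exponent_one hs he hc default (card_sylow_eq hG hχ hn.symm hns (by omega)
      (hc ▸ (dvd_pow_self s he.ne').trans (dvd_mul_right _ _)) hsol default)
  by_cases hboth : n < p ∧ n < q
  · have ea := hsy hp hboth.1 (Nat.pos_of_ne_zero ha0) (m := 4 * q ^ b) (by rw [hcard]; ring)
    have eb := hsy hq hboth.2 (Nat.pos_of_ne_zero hb0) (m := 4 * p ^ a) (by rw [hcard]; ring)
    exact Cfsg.Agent.S0988.result 2 p q Nat.prime_two hp hq (by rw [hcard, ea, eb]; ring)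
  -- one of the primes is three
  have hn4 : n = 4 := by
    refine hn24.resolve_left fun h2 => hboth ?_
    have := hp.two_le; have := hq.two_le
    omega
  obtain ⟨s, x, hs, hs5, hcard'⟩ : ∃ s x : ℕ, s.Prime ∧ 5 ≤ s ∧ Nat.card G = 4 * 3 ^ x * s := by
    have hp3 : p = 3 ∨ 5 ≤ p := by
      by_contra hc; push Not at hc
      have := hp.two_le
      have hp' := hp
      rcases (show p = 4 by omega) with rfl
      norm_num at hp'
    have hq3 : q = 3 ∨ 5 ≤ q := by
      by_contra hc; push Not at hc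
      have := hq.two_le
      have hq' := hq
      rcases (show q = 4 by omega) with rfl
      norm_num at hq'
    rcases hp3 with hp3 | hp5
    · have hq5 : 5 ≤ q := hq3.resolve_left fun e => hpq (hp3.trans e.symm)
      have eb := hsy hq (by omega) (Nat.pos_of_ne_zero hb0) (m := 4 * p ^ a) (by rw [hcard]; ring)
      exact ⟨q, a, hq, hq5, by rw [hcard, eb, hp3, pow_one]⟩
    · have hq3' : q = 3 := hq3.resolve_right fun hq5 => hboth ⟨by omega, by omega⟩
      have ea := hsy hp (by omega) (Nat.pos_of_ne_zero ha0) (m := 4 * q ^ b) (by rw [hcard]; ring)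
      exact ⟨p, b, hp, hp5, by rw [hcard, ea, hq3']; ring⟩
  by_cases h5 : s = 5
  · exact twenty_case hG (h5 ▸ hcard') hχ (hn.symm.trans hn4)
  exfalso
  have hs6 : s ≠ 6 := fun e => by rw [e] at hs; norm_num at hs
  have hodd : ∀ i, ¬ 2 ∣ 3 ^ i := fun i h => by
    have := Nat.prime_two.dvd_of_dvd_pow h; norm_num at this
  have hs2 : ¬ 2 ∣ s := fun h => by
    have := (Nat.prime_dvd_prime_iff_eq Nat.prime_two hs).mp h; omega
  rcases Cfsg.Agent.S0997.result (not_cyclic hG) s 3 x 4 hs Nat.prime_three (by omega)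
    (by rw [hcard']; ring) (by omega) with ⟨m, F, _, _, hF, hm, ⟨e⟩⟩ | ⟨m, F, _, _, hF, hm, -, ⟨e⟩⟩
  · have hc := Classical.card_PSL_two (F := F)
    rw [← Nat.card_congr e.toEquiv, hcard', hF] at hc
    have hg : Nat.gcd 2 (s - 1) = 2 := Nat.gcd_eq_left (by omega)
    rw [hg] at hc
    have h8 : s ^ 2 - 1 = 8 * 3 ^ x := by
      have h1 : s * (s ^ 2 - 1) = s * (8 * 3 ^ x) := by rw [← hc]; ring
      exact Nat.eq_of_mul_eq_mul_left hs.pos h1
    have hm3 : 3 ≤ m := by
      by_contra hlt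
      have : 2 ^ m ≤ 2 ^ 2 := Nat.pow_le_pow_right (by norm_num) (by omega)
      omega
    obtain ⟨c, hc8⟩ : 16 ∣ s ^ 2 - 1 := by
      obtain ⟨t, ht⟩ : ∃ t, 2 ^ m = 8 * t := ⟨2 ^ (m - 3), by rw [show 8 = 2 ^ 3 by norm_num, ← pow_add]; congr 1; omega⟩
      rcases hm with h | h
      · exact ⟨t * (4 * t + 1), by
          rw [h, ht]
          have : (8 * t + 1) ^ 2 = 16 * (t * (4 * t + 1)) + 1 := by ring
          omega⟩
      · exact ⟨t * (4 * t - 1), by
          obtain ⟨u, rfl⟩ : ∃ u, t = u + 1 := ⟨t - 1, by omega⟩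
          rw [h, ht, show 8 * (u + 1) - 1 = 8 * u + 7 by omega, show 4 * (u + 1) - 1 = 4 * u + 3 by omega]
          have : (8 * u + 7) ^ 2 = 16 * ((u + 1) * (4 * u + 3)) + 1 := by ring
          omega⟩
    exact hodd x ⟨c, by omega⟩
  · have hc := Classical.card_PSL_two (F := F)
    rw [← Nat.card_congr e.toEquiv, hcard', hF] at hc
    have hm3 : 3 ≤ m := by
      by_contra hlt
      have : 2 ^ m ≤ 2 ^ 2 := Nat.pow_le_pow_right (by norm_num) (by omega)
      omega
    have hg : Nat.gcd 2 (2 ^ m - 1) = 1 := by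
      refine Nat.prime_two.coprime_iff_not_dvd.mpr ?_
      have := Nat.one_le_two_pow (n := m)
      have h2 : 2 ∣ 2 ^ m := dvd_pow_self 2 (by omega)
      omega
    rw [hg, one_mul] at hc
    obtain ⟨t, ht⟩ : ∃ t, 2 ^ m = 8 * t := ⟨2 ^ (m - 3), by rw [show 8 = 2 ^ 3 by norm_num, ← pow_add]; congr 1; omega⟩
    have h8 : 2 ∣ 3 ^ x * s := ⟨t * ((2 ^ m) ^ 2 - 1), by
      have h1 : 4 * (3 ^ x * s) = 4 * (2 * (t * ((2 ^ m) ^ 2 - 1))) := by
        rw [← mul_assoc, hc, ht]; ring
      omega⟩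
    exact (Nat.prime_two.dvd_mul.mp h8).elim (hodd x) hs2

include hG in
theorem main_three {p q a b : ℕ} (hp : p.Prime) (hq : q.Prime) (hpq : p ≠ q) (ha : a ≤ 2)
    (hcard : Nat.card G = 3 * p ^ a * q ^ b) :
    Nat.card G = 60 ∨ Nat.card G = 168 := by
  by_cases ha0 : a = 0
  · exact (not_two_primes hG Nat.prime_three hq (i := 1) (j := b) (by rw [hcard, ha0]; ring)).elim
  by_cases hb0 : b = 0
  · exact (not_two_primes hG Nat.prime_three hp (i := 1) (j := a) (by rw [hcard, hb0]; ring)).elim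
  by_cases hp3 : p = 3
  · exact (not_two_primes hG Nat.prime_three hq (i := 1 + a) (j := b) (by rw [hcard, hp3]; ring)).elim
  by_cases hq3 : q = 3
  · exact (not_two_primes hG Nat.prime_three hp (i := 1 + b) (j := a) (by rw [hcard, hq3]; ring)).elim
  obtain ⟨χ, k, hχ, hk, hk2, hk0⟩ := exists_degree_pow (G := G) hG hp hq Nat.prime_three hpq hp3 hq3 ha
    (c := 1) (b := b) (by rw [hcard]; ring)
  obtain rfl : k = 1 := by omega
  rw [pow_one] at hk
  have hncop : Nat.Coprime 3 (p ^ a * q ^ b) := Nat.Coprime.mul_right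
    (((Nat.coprime_primes Nat.prime_three hp).mpr (Ne.symm hp3)).pow_right a)
    (((Nat.coprime_primes Nat.prime_three hq).mpr (Ne.symm hq3)).pow_right b)
  have hsol : ∀ g : G, g ≠ 1 → Group.IsSolvable (Subgroup.centralizer ({g} : Set G)) := by
    refine solvable_centralizer_of_prime fun g hg => ?_
    by_cases hg3 : orderOf g = 3
    · exact isSolvable_centralizer fun _ => isSolvable_of_dvd hp hq hpq (i := a) (j := b)
        (quotient_card_dvd (by norm_num) hg3 ((Subgroup.card_subgroup_dvd_card _).trans (dvd_of_eq (by rw [hcard]; ring))))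
    · have hnd := not_dvd_card_centralizer hG hχ hk (d := 3) (m := p ^ a * q ^ b) (by norm_num)
        (by rw [hcard, mul_assoc]) hncop hg
        (fun hd => hg3 ((Nat.prime_dvd_prime_iff_eq hg Nat.prime_three).mp hd)) rfl
      exact isSolvable_of_dvd hp hq hpq (i := a) (j := b)
        ((Nat.prime_three.coprime_iff_not_dvd.mpr hnd).symm.dvd_of_dvd_mul_left
          ((Subgroup.card_subgroup_dvd_card _).trans (dvd_of_eq (by rw [hcard, mul_assoc]))))
  have hsy : ∀ {s e m : ℕ}, s.Prime → 3 < s → 0 < e → Nat.card G = s ^ e * m → e = 1 := by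
    intro s e m hs hns he hc
    haveI := Fact.mk hs
    exact exponent_one hs he hc default (card_sylow_eq hG hχ hk hns (by omega)
      (hc ▸ (dvd_pow_self s he.ne').trans (dvd_mul_right _ _)) hsol default)
  have key : ∀ (s r j : ℕ), s.Prime → r.Prime → 3 ≠ r → 3 ≠ s → r ≠ s →
      Nat.card G = 3 * s * r ^ j → Nat.card G = 60 ∨ Nat.card G = 168 := by
    intro s r j hs hr h3r h3s hrs hc
    rcases Cfsg.Agent.S0998.result (not_cyclic hG) 3 r s j Nat.prime_three hr hs h3r h3s hrs hc with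
      ⟨F, _, _, hF, ⟨e⟩⟩ | ⟨F, _, _, hF, ⟨e⟩⟩
    · left
      have h := Classical.card_PSL_two (F := F)
      rw [← Nat.card_congr e.toEquiv, hF] at h
      norm_num at h
      rw [Nat.card_eq_fintype_card]
      omega
    · right
      have h := Classical.card_PSL_two (F := F)
      rw [← Nat.card_congr e.toEquiv, hF] at h
      norm_num at h
      rw [Nat.card_eq_fintype_card]
      omega
  by_cases hp2 : p = 2
  · have hq5 : 3 < q := by
      have := hq.two_le
      rcases Nat.lt_or_ge 3 q with h | h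
      · exact h
      · exfalso; omega
    have eb := hsy hq hq5 (Nat.pos_of_ne_zero hb0) (m := 3 * p ^ a) (by rw [hcard]; ring)
    exact key q p a hq hp (Ne.symm hp3) (Ne.symm hq3) hpq (by rw [hcard, eb]; ring)
  · have hp5 : 3 < p := by have := hp.two_le; omega
    have ea := hsy hp hp5 (Nat.pos_of_ne_zero ha0) (m := 3 * q ^ b) (by rw [hcard]; ring)
    exact key p q b hp hq (Ne.symm hq3) (Ne.symm hp3) (Ne.symm hpq) (by rw [hcard, ea, pow_one])

end CfsgLib.BrauerTuan.SmallCofactor
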