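import Cfsg.Agent.Lib.BrauerTuan.Orders

/-!
# Simple groups with `|N(P) : P| = 2`: a central involution
-/

set_option autoImplicit false
set_option linter.unusedSectionVars false
set_option linter.style.haveILetI false

namespace CfsgLib.BrauerTuan

open Cfsg
open scoped ComplexConjugate CfsgLib.Char
open CfsgLib
open scoped _root_.Classical

universe u

variable {G : Type u} [Group G] [Fintype G] {p : ℕ} [Fact p.Prime]

/-- `N(P)` dihedral of order `2 p`, `p ≥ 5`: the numerical consequences at a central involution. -/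
theorem two_facts_at [IsSimpleGroup G] (hG : ¬ IsMulCommutative G) {P : Sylow p G} (D : Data P)
    (hP : Nat.card (P : Subgroup G) = p)
    (hC : Subgroup.centralizer ((P : Subgroup G) : Set G) = (P : Subgroup G))
    (he : D.e = 2) (hp5 : 5 ≤ p) {g : G} (hg2 : g * g = 1) (hg1 : g ≠ 1) :
    ∃ (x z cg K : ℕ) (A δ ε : ℤ), (∃ j : ℤ, A = (x : ℤ) - 4 * j) ∧ 2 ≤ x ∧ x ∣ 2 * (1 + D.n * p) ∧ z ∣ 2 * (1 + D.n * p) ∧
      x * x < Nat.card G ∧ (δ = 1 ∨ δ = -1) ∧ (ε = 1 ∨ ε = -1) ∧ (p : ℤ) ∣ (x : ℤ) - δ ∧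
      ε * z = 1 + δ * x ∧ (p : ℤ) * K = x + ((p : ℤ) - 1) * δ ∧ |A| ≤ K ∧ cg = Nat.card (Subgroup.centralizer ({g} : Set G)) ∧ cg ∣ Nat.card G ∧
      (p : ℤ) * (cg : ℤ) ^ 2 * (x * z) = (Nat.card G : ℤ) * (ε * δ * (A - x) ^ 2) := by
  have hp : p.Prime := Fact.out
  have hodd : ¬ 2 ∣ p := fun h => by
    have := (Nat.prime_dvd_prime_iff_eq Nat.prime_two hp).mp h; omega
  have ht : 2 ≤ D.t := by
    by_contra h
    have := D.het
    have h1 : D.t = 1 := by have := D.one_le_t; omega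
    rw [he, h1] at this
    omega
  obtain ⟨v, hv, hv1⟩ : ∃ v, v ∈ (P : Subgroup G) ∧ v ≠ 1 := by
    rcases (P : Subgroup G).bot_or_exists_ne_one with h | h
    · rw [h, Subgroup.card_bot] at hP
      exact absurd hP hp.one_lt.ne
    · exact h
  have hone : ¬ p ∣ orderOf (1 : G) := orderOf_one (G := G) ▸ hp.not_dvd_one
  have hT : Blocks.trivIrr G ∈ D.X := by
    rcases Finset.mem_union.mp D.triv with h | h
    · exact h
    exfalso
    obtain ⟨ψ', hψ', hne⟩ := Finset.exists_mem_ne (show 1 < D.Y.card by rw [D.card_Y]; omega) (Blocks.trivIrr G)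
    have h1 := D.degY_eq ψ' hψ' _ h
    rw [BrauerReynolds.degree_triv] at h1
    exact (BrauerReynolds.one_lt_degree_of_simple hG hne).ne' h1
  obtain ⟨χ, hχ⟩ := Finset.card_eq_one.mp (show (D.X.erase (Blocks.trivIrr G)).card = 1 by
    rw [Finset.card_erase_of_mem hT, D.card_X, he])
  have hχmem : χ ∈ D.X.erase (Blocks.trivIrr G) := hχ ▸ Finset.mem_singleton_self χ
  obtain ⟨hne, hχX⟩ := Finset.mem_erase.mp hχmem
  obtain ⟨ψ₀, hψ₀⟩ : D.Y.Nonempty := Finset.card_pos.mp (by rw [D.card_Y]; omega)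
  have hvX : ∀ w ∈ (P : Subgroup G), w ≠ 1 → ∀ ξ ∈ D.X, (ξ : G → ℂ) w = D.δ ξ := fun w hw hw1 ξ hξ => by
    have h := D.valX ξ hξ w hw hw1 1 (one_mem _) hone
    rwa [mul_one] at h
  have hδT : (D.δ (Blocks.trivIrr G) : ℂ) = 1 := by
    rw [← hvX v hv hv1 _ hT]; simp [Blocks.trivIrr]
  have hrel : ∀ y, ¬ p ∣ orderOf y → ∀ ψ ∈ D.Y,
      (D.ε : ℂ) * (ψ : G → ℂ) y = 1 + (D.δ χ : ℂ) * (χ : G → ℂ) y := by
    intro y hy ψ hψ
    rw [D.rel ψ hψ y hy, ← Finset.add_sum_erase _ _ hT, hχ, Finset.sum_singleton, hδT]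
    simp [Blocks.trivIrr]
  set x := charDegree (χ : G → ℂ) with hx
  set z := charDegree (ψ₀ : G → ℂ) with hz
  have hz0 : 0 < z := (Blocks.irr_degree_eq ψ₀).2
  have hx2 := BrauerReynolds.one_lt_degree_of_simple hG hne
  have hzrel : D.ε * (z : ℤ) = 1 + D.δ χ * (x : ℤ) := by
    have h := hrel 1 hone ψ₀ hψ₀
    rw [BrauerReynolds.value_one, BrauerReynolds.value_one] at h
    exact_mod_cast h
  have hreg : ¬ p ∣ orderOf g := fun h => by
    have h2 : orderOf g ∣ 2 := orderOf_dvd_of_pow_eq_one (by rw [pow_two, hg2])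
    have := Nat.le_of_dvd (by norm_num) (h.trans h2)
    omega
  obtain ⟨A, hA⟩ := exists_int_of_involution (Char.isCharacter_of_isIrr χ.2) hg2
  have hδ := D.hδ χ hχX
  have hεε : (D.ε : ℂ) * D.ε = 1 := by rcases D.hε with h | h <;> simp [h]
  have hψg : ∀ ψ ∈ D.Y, (ψ : G → ℂ) g = (D.ε : ℂ) * (1 + (D.δ χ : ℂ) * A) := fun ψ hψ => by
    rw [← hA, ← hrel g hreg ψ hψ, ← mul_assoc, hεε, one_mul]
  set S : ℂ := 1 + (D.δ χ : ℂ) * (A : ℂ) ^ 2 / x - (D.ε : ℂ) * (1 + (D.δ χ : ℂ) * A) ^ 2 / z with hS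
  have hsum : ∑ ξ : IrrCharacter G,
      (ξ : G → ℂ) g * (ξ : G → ℂ) g * conj ((ξ : G → ℂ) v) / (ξ : G → ℂ) 1 = S := by
    rw [← Finset.sum_subset (Finset.subset_univ (D.X ∪ D.Y)) fun ξ _ hξ => by
      rw [D.out hC ξ (fun h => hξ (Finset.mem_union_left _ h)) (fun h => hξ (Finset.mem_union_right _ h)) v hv hv1,
        map_zero, mul_zero, zero_div],
      Finset.sum_union D.disj, ← Finset.add_sum_erase _ _ hT, hχ, Finset.sum_singleton,
      Finset.sum_congr (s₁ := D.Y) rfl (g := fun ψ : IrrCharacter G =>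
        ((1 + (D.δ χ : ℂ) * A) ^ 2 / (z : ℂ)) * conj ((ψ : G → ℂ) v)) (fun ψ hψ => by
        rw [hψg ψ hψ, BrauerReynolds.value_one, D.degY_eq ψ hψ ψ₀ hψ₀, ← hz]
        linear_combination ((1 + (D.δ χ : ℂ) * A) ^ 2 * conj ((ψ : G → ℂ) v) / (z : ℂ)) * hεε),
      ← Finset.mul_sum, ← map_sum, D.sumY v hv hv1, hA, hvX v hv hv1 χ hχX, hS]
    simp only [BrauerReynolds.value_one, BrauerReynolds.degree_triv, ← hx]
    simp [Blocks.trivIrr]
    ring
  have hzC : (D.ε : ℂ) * z = 1 + (D.δ χ : ℂ) * x := by exact_mod_cast hzrel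
  have hSval : S * ((x : ℂ) * z) = (D.ε : ℂ) * D.δ χ * ((A : ℂ) - x) ^ 2 := by
    have hx0 : (x : ℂ) ≠ 0 := Nat.cast_ne_zero.mpr (by omega)
    have hz0' : (z : ℂ) ≠ 0 := Nat.cast_ne_zero.mpr hz0.ne'
    have hzE : (z : ℂ) = D.ε * (1 + (D.δ χ : ℂ) * x) := by rw [← hzC, ← mul_assoc, hεε, one_mul]
    have e1 : S * ((x : ℂ) * z) = (x : ℂ) * z + (D.δ χ : ℂ) * (A : ℂ) ^ 2 * z -
        (D.ε : ℂ) * (1 + (D.δ χ : ℂ) * A) ^ 2 * x := by
      rw [hS]; field_simp
    rw [e1, hzE]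
    rcases hδ with h | h <;> simp only [h, Int.cast_one, Int.cast_neg] <;> ring
  have hAne : A ≠ (x : ℤ) := by
    intro e
    refine hg1 (BrauerReynolds.faithful_of_simple hne ?_)
    rw [hA, e, BrauerReynolds.value_one, ← hx]
    simp
  have hnum := Char.class_mult g g v
  rw [hsum] at hnum
  have hidx0 : ((Subgroup.centralizer ({g} : Set G)).index : ℂ) ≠ 0 :=
    Nat.cast_ne_zero.mpr Subgroup.index_ne_zero_of_finite
  have hG0 : (Nat.card G : ℂ) ≠ 0 := Nat.cast_ne_zero.mpr Nat.card_pos.ne'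
  have hS0 : S ≠ 0 := fun h0 => by
    rw [h0, zero_mul] at hSval
    rcases mul_eq_zero.mp hSval.symm with h | h
    · rcases mul_eq_zero.mp h with h | h
      · rcases D.hε with e | e <;> simp [e] at h
      · rcases hδ with e | e <;> simp [e] at h
    · have h' := pow_eq_zero_iff two_ne_zero |>.mp h
      exact hAne (by exact_mod_cast sub_eq_zero.mp h')
  have hne' : Nonempty {pr : G × G // IsConj g pr.1 ∧ IsConj g pr.2 ∧ pr.1 * pr.2 = v} := by
    by_contra h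
    rw [not_nonempty_iff] at h
    rw [Nat.card_of_isEmpty, Nat.cast_zero] at hnum
    exact mul_ne_zero (div_ne_zero (mul_ne_zero hidx0 hidx0) hG0) hS0 hnum.symm
  obtain ⟨hnp, u, hu2, hN, hclass⟩ := pairs_of_nonempty hP hC hodd hg2 hv hv1 hne'
  obtain ⟨k, hk⟩ := Int.modEq_iff_dvd.mp (D.degX χ hχX).symm
  rw [← hx] at hk
  have hKn : 0 ≤ k + D.δ χ := by
    have h1 : (0 : ℤ) ≤ p * (k + D.δ χ) := by
      have h2 : (p : ℤ) * (k + D.δ χ) = x + ((p : ℤ) - 1) * D.δ χ := by linear_combination -hk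
      rw [h2]
      rcases hδ with e | e <;> rw [e]
      · omega
      · have : (x : ℤ) - -1 > 0 := by omega
        have hk1 : 0 < k := by
          by_contra hle
          have := mul_nonpos_of_nonneg_of_nonpos (show (0 : ℤ) ≤ p by positivity) (not_lt.mp hle)
          rw [e] at hk
          omega
        have := mul_le_mul_of_nonneg_left (show (1 : ℤ) ≤ k by omega) (show (0 : ℤ) ≤ p by positivity)
        rw [e] at hk
        omega
    exact (mul_nonneg_iff_of_pos_left (by exact_mod_cast hp.pos : (0 : ℤ) < p)).mp h1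
  obtain ⟨K, hK⟩ := Int.eq_ofNat_of_zero_le hKn
  have hKeq : (p : ℤ) * K = x + ((p : ℤ) - 1) * D.δ χ := by rw [← hK]; linear_combination -hk
  obtain ⟨a, ha, hab⟩ := exists_fixed_trace (Char.isCharacter_of_isIrr χ.2) (P : Subgroup G) hP hu2 hN
    (hclass _ (Char.isCharacter_of_isIrr χ.2)).2 (K := K) (by
    rw [← Finset.add_sum_erase _ _ (Finset.mem_univ (1 : (P : Subgroup G))),
      Finset.sum_congr rfl (g := fun _ => (D.δ χ : ℂ)) (fun (w : (P : Subgroup G)) hw =>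
        hvX w w.2 (fun e => Finset.ne_of_mem_erase hw (Subtype.ext e)) χ hχX),
      Finset.sum_const, Finset.card_erase_of_mem (Finset.mem_univ _), Finset.card_univ,
      ← Nat.card_eq_fintype_card, hP, Subgroup.coe_one, BrauerReynolds.value_one, ← hx]
    push_cast [Nat.cast_sub hp.one_le, nsmul_eq_mul]
    exact_mod_cast hKeq.symm)
  rw [← (hclass _ (Char.isCharacter_of_isIrr χ.2)).1, hA] at ha
  have ha' : A = a := by exact_mod_cast ha
  set cg := Nat.card (Subgroup.centralizer ({g} : Set G)) with hcg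
  obtain ⟨j, hj⟩ := involution_value_mod_four hG (Char.isCharacter_of_isIrr χ.2) hg2 (BrauerReynolds.value_one χ)
  refine ⟨x, z, cg, K, A, D.δ χ, D.ε, ⟨j, Int.cast_injective (α := ℂ) (hA.symm.trans hj)⟩, hx2, he ▸ D.dvdX χ hχX, he ▸ D.dvdY ψ₀ hψ₀,
    degree_sq_lt hne, hδ, D.hε, ⟨k, hk⟩, hzrel, hKeq, ha' ▸ hab, hcg, Subgroup.card_subgroup_dvd_card _, ?_⟩
  have hmul : (cg : ℂ) * (Subgroup.centralizer ({g} : Set G)).index = (Nat.card G : ℂ) := by
    exact_mod_cast (Subgroup.centralizer ({g} : Set G)).card_mul_index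
  rw [hnp] at hnum
  have h1 : ((cg : ℂ)) ^ 2 * (p : ℂ) = (Nat.card G : ℂ) * S := by
    calc ((cg : ℂ)) ^ 2 * (p : ℂ) = ((cg : ℂ) * (Subgroup.centralizer ({g} : Set G)).index) *
          ((cg : ℂ) * (Subgroup.centralizer ({g} : Set G)).index) / (Nat.card G : ℂ) * S := by
          rw [hnum]; ring
      _ = (Nat.card G : ℂ) * S := by rw [hmul, mul_div_assoc, div_self hG0, mul_one]
  have h2 : ((p : ℤ) : ℂ) * ((cg : ℤ) : ℂ) ^ 2 * (((x : ℤ) : ℂ) * ((z : ℤ) : ℂ)) =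
      ((Nat.card G : ℤ) : ℂ) * ((D.ε : ℂ) * (D.δ χ : ℂ) * ((A : ℂ) - ((x : ℤ) : ℂ)) ^ 2) := by
    push_cast
    rw [← hSval, mul_comm (p : ℂ), h1]
    ring
  exact_mod_cast h2

/-- `N(P)` dihedral of order `2 p`, `p ≥ 5`: the numerical consequences at a central involution. -/
theorem two_facts [IsSimpleGroup G] (hG : ¬ IsMulCommutative G) {P : Sylow p G} (D : Data P)
    (hP : Nat.card (P : Subgroup G) = p)
    (hC : Subgroup.centralizer ((P : Subgroup G) : Set G) = (P : Subgroup G))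
    (he : D.e = 2) (hp5 : 5 ≤ p) {b : ℕ} (hb : 1 ≤ b) (hdvd : 2 ^ b ∣ Nat.card G) :
    ∃ (x z cg K : ℕ) (A δ ε : ℤ), 2 ≤ x ∧ x ∣ 2 * (1 + D.n * p) ∧ z ∣ 2 * (1 + D.n * p) ∧
      x * x < Nat.card G ∧ (δ = 1 ∨ δ = -1) ∧ (ε = 1 ∨ ε = -1) ∧ (p : ℤ) ∣ (x : ℤ) - δ ∧
      ε * z = 1 + δ * x ∧ (p : ℤ) * K = x + ((p : ℤ) - 1) * δ ∧ |A| ≤ K ∧ 2 ^ b ∣ cg ∧ cg ∣ Nat.card G ∧
      (p : ℤ) * (cg : ℤ) ^ 2 * (x * z) = (Nat.card G : ℤ) * (ε * δ * (A - x) ^ 2) := by
  obtain ⟨g, hg2, hg1, hgC, -⟩ := exists_central_involution hb hdvd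
  obtain ⟨x, z, cg, K, A, δ, ε, -, h1, h2, h3, h4, h5, h6, h7, h8, h9, h10, hcg, h11, h12⟩ :=
    two_facts_at hG D hP hC he hp5 hg2 hg1
  exact ⟨x, z, cg, K, A, δ, ε, h1, h2, h3, h4, h5, h6, h7, h8, h9, h10, hcg ▸ hgC, h11, h12⟩

end CfsgLib.BrauerTuan

namespace CfsgLib.BrauerTuan

/-- No admissible degree and value at a central involution, for `|N(P)| = 2 p`, `c` Sylow subgroups
and `2 ^ b ∣ n`. -/
def twoBad (n p c b B : ℕ) : Bool :=
  (List.range (B + 1)).all fun x => ([1, -1] : List ℤ).all fun δ =>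
    let z := ((1 : ℤ) + δ * x).natAbs
    let K := (((x : ℤ) + ((p : ℤ) - 1) * δ) / p).toNat
    decide (x < 2) || decide (2 * c % x ≠ 0) || decide (((x : ℤ) - δ) % p ≠ 0) || decide (2 * c % z ≠ 0) ||
      (List.range (2 * K + 1)).all fun i => (List.range (n / 2 ^ b + 1)).all fun j =>
        decide (j = 0) || decide ((2 ^ b * j) * (2 ^ b * j) * (p * (x * z)) ≠
          n * ((((i : ℤ) - K) - x).natAbs * (((i : ℤ) - K) - x).natAbs)) || decide (n % (2 ^ b * j) ≠ 0)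

theorem false_of_twoBad {G : Type*} [Group G] [Fintype G] [IsSimpleGroup G] {n p k B : ℕ} [Fact p.Prime]
    {qs : List ℕ} (T : OrderCtx G n p qs B k) {c b : ℕ} (hc : 1 + T.D.n * p = c) (he : T.D.e = 2)
    (hk : k = 1) (hp5 : 5 ≤ p) (hb : 1 ≤ b) (hdvd : 2 ^ b ∣ n) (h : twoBad n p c b B = true) : False := by
  have hC : Subgroup.centralizer ((T.P : Subgroup G) : Set G) = (T.P : Subgroup G) := by
    refine (Subgroup.eq_of_le_of_card_ge ?_ ?_).symm
    · haveI : IsCyclic (T.P : Subgroup G) := isCyclic_of_prime_card T.card_P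
      exact fun a ha => Subgroup.mem_centralizer_iff.mpr fun c hc =>
        congrArg Subtype.val ((IsCyclic.commGroup (α := (T.P : Subgroup G))).mul_comm ⟨c, hc⟩ ⟨a, ha⟩)
    · rw [T.card_C, T.card_P, hk, mul_one]
  obtain ⟨x, z, cg, K, A, δ, ε, hx2, hxd, hzd, hxn, hδ, hε, hmod, hz, hK, hA, hcg, hcgn, heq⟩ :=
    two_facts T.noncomm T.D T.card_P hC he hp5 hb (T.card_eq.symm ▸ hdvd)
  rw [hc] at hxd hzd
  rw [T.card_eq] at hxn heq hcgn
  have hz' : ((1 : ℤ) + δ * x).natAbs = z := by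
    rw [← hz]; rcases hε with e | e <;> simp [e]
  have hB : x < B + 1 := by
    by_contra hlt
    have := Nat.mul_le_mul (Nat.le_of_not_lt hlt) (Nat.le_of_not_lt hlt)
    have := T.bound
    omega
  have hK' : (((x : ℤ) + ((p : ℤ) - 1) * δ) / p).toNat = K := by
    rw [← hK, Int.mul_ediv_cancel_left _ (by exact_mod_cast (Fact.out : p.Prime).ne_zero)]
    simp
  obtain ⟨j, hj⟩ := hcg
  simp only [twoBad, List.all_eq_true, List.mem_range, Bool.or_eq_true, decide_eq_true_eq] at h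
  obtain ⟨hA1, hA2⟩ := abs_le.mp hA
  have h' := h x hB δ (by rcases hδ with e | e <;> simp [e])
  rw [hz', hK'] at h'
  rcases h' with (((h' | h') | h') | h') | h'
  · omega
  · exact h' (Nat.mod_eq_zero_of_dvd hxd)
  · exact h' (Int.emod_eq_zero_of_dvd hmod)
  · exact h' (Nat.mod_eq_zero_of_dvd hzd)
  · have hi : ((A + K).toNat : ℤ) - K = A := by omega
    have heq' : (2 ^ b * j) * (2 ^ b * j) * (p * (x * z)) =
        n * ((A - (x : ℤ)).natAbs * (A - (x : ℤ)).natAbs) := by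
      have h1 := congrArg Int.natAbs heq
      simp only [Int.natAbs_mul, Int.natAbs_pow, Int.natAbs_natCast] at h1
      rw [show ε.natAbs = 1 by rcases hε with e | e <;> simp [e],
        show δ.natAbs = 1 by rcases hδ with e | e <;> simp [e], hj] at h1
      linear_combination h1
    have hn0 : 0 < n := T.card_eq ▸ Nat.card_pos
    have hj0 : 0 < j := Nat.pos_of_ne_zero fun h0 => by
      rw [hj, h0, mul_zero, zero_dvd_iff] at hcgn; omega
    have hjle : j < n / 2 ^ b + 1 := by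
      rw [Nat.lt_add_one_iff, Nat.le_div_iff_mul_le (by positivity), mul_comm, ← hj]
      exact Nat.le_of_dvd hn0 hcgn
    rcases h' (A + K).toNat (by omega) j hjle with (h'' | h'') | h''
    · omega
    · rw [hi] at h''
      exact h'' heq'
    · exact h'' (Nat.mod_eq_zero_of_dvd (hj ▸ hcgn))

end CfsgLib.BrauerTuan
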